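import Cfsg.Agent.H260.Psl
import Cfsg.Agent.Lib.Cores
import Cfsg.Agent.H571.SylowNumber
import Cfsg.Agent.Lib.ProductSet
import Cfsg.Prelude.Def_BaumannBlocks

/-!
# Rank one pushing up: the basic configuration

`Core p q S T M`: the facts on a group `G` with `C_G(O_p(G)) ≤ O_p(G) = T`, a Sylow `p`-subgroup `S`
in a unique maximal subgroup `M` and a quotient `PSL₂(q)`.
-/

set_option autoImplicit false

namespace Cfsg.Agent.H260.Push

open Subgroup

variable {G : Type*} [Group G]

theorem card_mul_relIndex {H K : Subgroup G} (h : H ≤ K) :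
    Nat.card H * H.relIndex K = Nat.card K := by
  rw [← relIndex_bot_left, ← relIndex_bot_left]
  exact relIndex_mul_relIndex ⊥ H K bot_le h

theorem card_mul_eq {H K : Subgroup G} (h : H ≤ normalizer (K : Set G)) :
    Nat.card (H ⊔ K : Subgroup G) * Nat.card (H ⊓ K : Subgroup G) = Nat.card H * Nat.card K := by
  rw [← Lib.ProductSet.card_mul_card_inf H K]
  congr 1
  exact Nat.card_congr (Equiv.setCongr (coe_mul_of_left_le_normalizer_right H K h))

theorem card_mul_le [Finite G] (H K : Subgroup G) :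
    Nat.card H * Nat.card K ≤ Nat.card (H ⊔ K : Subgroup G) * Nat.card (H ⊓ K : Subgroup G) := by
  rw [← Lib.ProductSet.card_mul_card_inf H K]
  apply Nat.mul_le_mul_right
  apply Nat.card_mono (Set.toFinite _)
  rintro _ ⟨x, hx, y, hy, rfl⟩
  exact mul_mem (mem_sup_left hx) (mem_sup_right hy)

/-- The conjugate `g H g⁻¹`. -/
def cj (g : G) (H : Subgroup G) : Subgroup G := H.map (MulAut.conj g).toMonoidHom

theorem mem_cj {g x : G} {H : Subgroup G} : x ∈ cj g H ↔ g⁻¹ * x * g ∈ H := by
  unfold cj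
  rw [Subgroup.mem_map]
  constructor
  · rintro ⟨y, hy, rfl⟩
    have : g⁻¹ * ((MulAut.conj g).toMonoidHom y) * g = y := by
      simp [mul_assoc]
    rwa [this]
  · intro h
    refine ⟨_, h, ?_⟩
    simp [mul_assoc]

theorem conj_mem_cj {g x : G} {H : Subgroup G} (hx : x ∈ H) : g * x * g⁻¹ ∈ cj g H := by
  rw [mem_cj]
  have : g⁻¹ * (g * x * g⁻¹) * g = x := by group
  rwa [this]

theorem card_cj (g : G) (H : Subgroup G) : Nat.card (cj g H) = Nat.card H :=
  Nat.card_congr (H.equivMapOfInjective _ (MulAut.conj g).injective).symm.toEquiv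

theorem cj_mono {g : G} {H K : Subgroup G} (h : H ≤ K) : cj g H ≤ cj g K := Subgroup.map_mono h

theorem cj_le_cj {g : G} {H K : Subgroup G} : cj g H ≤ cj g K ↔ H ≤ K :=
  Subgroup.map_le_map_iff_of_injective (MulAut.conj g).injective

theorem cj_mul (g h : G) (H : Subgroup G) : cj g (cj h H) = cj (g * h) H := by
  ext x
  simp only [mem_cj, mul_inv_rev]
  have : h⁻¹ * (g⁻¹ * x * g) * h = h⁻¹ * g⁻¹ * x * (g * h) := by group
  rw [this]

theorem cj_one (H : Subgroup G) : cj 1 H = H := by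
  ext x
  simp [mem_cj]

theorem cj_inv_cj (g : G) (H : Subgroup G) : cj g⁻¹ (cj g H) = H := by
  rw [cj_mul, inv_mul_cancel, cj_one]

theorem cj_cj_inv (g : G) (H : Subgroup G) : cj g (cj g⁻¹ H) = H := by
  rw [cj_mul, mul_inv_cancel, cj_one]

theorem cj_inf (g : G) (H K : Subgroup G) : cj g (H ⊓ K) = cj g H ⊓ cj g K :=
  Subgroup.map_inf_eq _ _ _ (MulAut.conj g).injective

theorem cj_sup (g : G) (H K : Subgroup G) : cj g (H ⊔ K) = cj g H ⊔ cj g K :=
  Subgroup.map_sup _ _ _

theorem cj_centralizer (g : G) (H : Subgroup G) :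
    cj g (centralizer (H : Set G)) = centralizer (cj g H : Set G) := by
  ext x
  rw [mem_cj, mem_centralizer_iff, mem_centralizer_iff]
  constructor
  · intro h y hy
    have hy' : g⁻¹ * y * g ∈ H := mem_cj.mp hy
    have := h _ hy'
    have e1 : g * (g⁻¹ * y * g * (g⁻¹ * x * g)) * g⁻¹ = y * x := by group
    have e2 : g * (g⁻¹ * x * g * (g⁻¹ * y * g)) * g⁻¹ = x * y := by group
    rw [← e1, ← e2, this]
  · intro h y hy
    have := h _ (conj_mem_cj (g := g) hy)
    have e1 : g⁻¹ * (g * y * g⁻¹ * x) * g = y * (g⁻¹ * x * g) := by group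
    have e2 : g⁻¹ * (x * (g * y * g⁻¹)) * g = g⁻¹ * x * g * y := by group
    rw [← e1, ← e2, this]

theorem cj_normal (g : G) (H : Subgroup G) [hH : H.Normal] : cj g H = H := by
  ext x
  rw [mem_cj]
  constructor
  · intro h
    have := hH.conj_mem _ h g
    have e : g * (g⁻¹ * x * g) * g⁻¹ = x := by group
    rwa [e] at this
  · intro h
    have := hH.conj_mem _ h g⁻¹
    rwa [inv_inv] at this

theorem normal_of_cj {H : Subgroup G} (h : ∀ g, cj g H = H) : H.Normal :=
  ⟨fun x hx g => by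
    have := conj_mem_cj (g := g) hx
    rwa [h g] at this⟩

theorem normal_of_cj_le {H : Subgroup G} (h : ∀ g, cj g H ≤ H) : H.Normal :=
  ⟨fun x hx g => h g (conj_mem_cj (g := g) hx)⟩

theorem cj_eq_iff_mem_normalizer {g : G} {H : Subgroup G} :
    cj g H = H ↔ g ∈ normalizer (H : Set G) := by
  rw [mem_normalizer_iff]
  constructor
  · intro h x
    constructor
    · intro hx
      have := conj_mem_cj (g := g) hx
      rwa [h] at this
    · intro hx
      rw [← h, mem_cj] at hx
      have e : g⁻¹ * (g * x * g⁻¹) * g = x := by group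
      rwa [e] at hx
  · intro h
    ext x
    rw [mem_cj]
    have := h (g⁻¹ * x * g)
    have e : g * (g⁻¹ * x * g) * g⁻¹ = x := by group
    rw [e] at this
    exact this

theorem cj_map_mk (K : Subgroup G) [K.Normal] (g : G) (H : Subgroup G) :
    (cj g H).map (QuotientGroup.mk' K) = cj (QuotientGroup.mk' K g) (H.map (QuotientGroup.mk' K)) := by
  unfold cj
  rw [Subgroup.map_map, Subgroup.map_map]
  congr 1

theorem smul_sylow_iff {p : ℕ} {P : Sylow p G} {g : G} :
    g • P = P ↔ g ∈ normalizer ((P : Subgroup G) : Set G) := Sylow.smul_eq_iff_mem_normalizer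

theorem mem_sylow_of_mem_normalizer {p : ℕ} {P : Sylow p G} {g : G} (hg : IsPGroup p (zpowers g))
    (h : g ∈ normalizer ((P : Subgroup G) : Set G)) : g ∈ P := by
  have h4 : zpowers g ⊓ normalizer ((P : Subgroup G) : Set G) = zpowers g ⊓ (P : Subgroup G) :=
    hg.inf_normalizer_sylow P
  have h5 : g ∈ zpowers g ⊓ normalizer ((P : Subgroup G) : Set G) := ⟨mem_zpowers _, h⟩
  rw [h4] at h5
  exact h5.2

theorem mem_smul_sylow {p : ℕ} {P : Sylow p G} {g x : G} :
    x ∈ ((g • P : Sylow p G) : Subgroup G) ↔ x ∈ cj g (P : Subgroup G) := by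
  rw [mem_cj, Sylow.coe_subgroup_smul, Subgroup.mem_pointwise_smul_iff_inv_smul_mem]
  have e : (MulAut.conj g)⁻¹ • x = g⁻¹ * x * g := by
    rw [← map_inv, MulAut.smul_def, MulAut.conj_apply, inv_inv]
  rw [e]

/-- Two Sylow subgroups contained in `H` are conjugate in `H`. -/
theorem exists_conj_of_le [Finite G] {p : ℕ} [Fact p.Prime] {P : Sylow p G} {H : Subgroup G} {g : G}
    (h1 : (P : Subgroup G) ≤ H) (h2 : cj g (P : Subgroup G) ≤ H) :
    ∃ m ∈ H, m⁻¹ * g ∈ normalizer ((P : Subgroup G) : Set G) := by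
  have h2' : ((g • P : Sylow p G) : Subgroup G) ≤ H := fun x hx => h2 (mem_smul_sylow.mp hx)
  obtain ⟨m, hm⟩ := MulAction.exists_smul_eq H (P.subtype h1) ((g • P).subtype h2')
  refine ⟨m, m.2, ?_⟩
  have h3 : (m : G) • P = g • P := by
    rw [Sylow.smul_subtype] at hm
    exact Sylow.subtype_injective hm
  rw [← smul_sylow_iff, mul_smul, ← h3, ← mul_smul, inv_mul_cancel, one_smul]

/-- The facts on the pushing up configuration. -/
structure Core (p q : ℕ) (S T M : Subgroup G) : Prop where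
  syl : ∃ P : Sylow p G, (P : Subgroup G) = S
  hT : T = Cfsg.pCore p G
  cent : centralizer (T : Set G) ≤ T
  leM : S ≤ M
  neM : M ≠ ⊤
  normM : normalizer (S : Set G) ≤ M
  dich : ∀ N : Subgroup G, N.Normal → N ⊔ S = ⊤ ∨ N ⊓ S ≤ T
  card : Nat.card S = q * Nat.card T
  comm : ∀ x ∈ S, ∀ y ∈ S, x * y * x⁻¹ * y⁻¹ ∈ T
  expo : ∀ x ∈ S, x ^ p ∈ T
  gen : ∀ g : G, g ∉ M → S ⊔ cj g S = ⊤
  ti : ∀ g : G, g ∉ M → ∀ s ∈ S, s ∉ T → g⁻¹ * s * g ∉ M
  irr : ∀ B : Subgroup G, T ≤ B → B ≤ S → (∀ n ∈ normalizer (S : Set G), cj n B = B) →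
    B = T ∨ B = S
  notNormal : ¬ S.Normal

theorem exists_coatom_ge [Finite G] {H : Subgroup G} (h : H ≠ ⊤) : ∃ M, IsCoatom M ∧ H ≤ M := by
  rcases eq_top_or_exists_le_coatom H with h1 | h1
  · exact absurd h1 h
  · exact h1

set_option maxHeartbeats 1000000 in
theorem core_of_data [Finite G] {p q : ℕ} [hp : Fact p.Prime] (P : Sylow p G)
    (hcent : centralizer (Cfsg.pCore p G : Set G) ≤ Cfsg.pCore p G)
    (hM : ∃! M : Subgroup G, IsCoatom M ∧ (P : Subgroup G) ≤ M) (K : Subgroup G) [hK : K.Normal]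
    (D : Psl.Data (G ⧸ K) p q) :
    ∃ M, Core p q (P : Subgroup G) (Cfsg.pCore p G) M := by
  obtain ⟨M, ⟨hMc, hSM⟩, huniq⟩ := hM
  set S : Subgroup G := (P : Subgroup G) with hS
  set T := Cfsg.pCore p G with hT
  set π := QuotientGroup.mk' K with hπ
  have hπs : Function.Surjective π := QuotientGroup.mk'_surjective K
  have hker : ∀ x, π x = 1 ↔ x ∈ K := fun x => QuotientGroup.eq_one_iff x
  set Pb : Sylow p (G ⧸ K) := P.mapSurjective hπs with hPb
  have hPbc : (Pb : Subgroup (G ⧸ K)) = S.map π := rfl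
  have hle : ∀ H : Subgroup G, H ≠ ⊤ → S ≤ H → H ≤ M := by
    intro H h1 h2
    obtain ⟨M', h3, h4⟩ := exists_coatom_ge h1
    rwa [huniq M' ⟨h3, h2.trans h4⟩] at h4
  have hTn : T.Normal := Cfsg.Agent.Lib.Cores.pCore_normal p
  have hTp : IsPGroup p T := Cfsg.Agent.Lib.Cores.pCore_isPGroup p
  have hTS : T ≤ S := Cfsg.Agent.Lib.Cores.pCore_le_sylow P
  -- the image of S is not normal
  obtain ⟨Qb, hQb⟩ := D.two Pb
  have hPbn : ¬ (Pb : Subgroup (G ⧸ K)).Normal := by
    intro h
    apply hQb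
    obtain ⟨g, hg⟩ := MulAction.exists_smul_eq (G ⧸ K) Pb Qb
    rw [← hg]
    rw [smul_sylow_iff]
    have : normalizer ((Pb : Subgroup (G ⧸ K)) : Set (G ⧸ K)) = ⊤ := normalizer_eq_top_iff.mpr h
    rw [this]
    trivial
  have hSn : ¬ S.Normal := by
    intro h
    apply hPbn
    rw [hPbc]
    exact Subgroup.Normal.map h π hπs
  have hNS : normalizer (S : Set G) ≤ M := by
    apply hle _ _ le_normalizer
    intro h
    exact hSn (normalizer_eq_top_iff.mp h)
  have hKS : K ⊔ S ≠ ⊤ := by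
    intro h
    have h1 : S.map π = ⊤ := by
      have h2 := congrArg (fun H => H.map π) h
      simp only [Subgroup.map_sup] at h2
      rw [Subgroup.map_top_of_surjective _ hπs] at h2
      have h3 : K.map π = ⊥ := by
        rw [Subgroup.map_eq_bot_iff, hπ, QuotientGroup.ker_mk']
      rwa [h3, bot_sup_eq] at h2
    apply hPbn
    rw [hPbc, h1]
    infer_instance
  have hKM : K ≤ M := le_sup_left.trans (hle _ hKS le_sup_right)
  have hdich : ∀ N : Subgroup G, N.Normal → N ⊔ S = ⊤ ∨ N ⊓ S ≤ T := by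
    intro N hN
    by_cases h : N ⊔ S = ⊤
    · exact Or.inl h
    right
    have hNM : N ≤ M := le_sup_left.trans (hle _ h le_sup_right)
    have hfr := Cfsg.Agent.H571.SylowNumber.normalizer_inf_sup_eq_top P N
    have hSN : S ≤ normalizer (((P : Subgroup G) ⊓ N : Subgroup G) : Set G) := by
      intro s hs
      rw [mem_normalizer_iff]
      intro x
      constructor
      · rintro ⟨h1, h2⟩
        exact ⟨S.mul_mem (S.mul_mem hs h1) (S.inv_mem hs), hN.conj_mem _ h2 _⟩
      · rintro ⟨h1, h2⟩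
        have e : x = s⁻¹ * (s * x * s⁻¹) * s := by group
        refine ⟨?_, ?_⟩
        · rw [e]
          exact S.mul_mem (S.mul_mem (S.inv_mem hs) h1) hs
        · have := hN.conj_mem _ h2 s⁻¹
          have e2 : s⁻¹ * (s * x * s⁻¹) * s⁻¹⁻¹ = x := by group
          rwa [e2] at this
    have htop : normalizer (((P : Subgroup G) ⊓ N : Subgroup G) : Set G) = ⊤ := by
      by_contra hne
      have h1 := hle _ hne hSN
      have h2 : (⊤ : Subgroup G) ≤ M := by
        rw [← hfr]
        exact sup_le h1 hNM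
      exact hMc.1 (top_le_iff.mp h2)
    have hnor : ((P : Subgroup G) ⊓ N).Normal := normalizer_eq_top_iff.mp htop
    rw [inf_comm]
    exact Cfsg.Agent.Lib.Cores.le_pCore hnor (P.isPGroup'.to_le inf_le_left)
  have hKST : K ⊓ S ≤ T := (hdich K hK).resolve_left hKS
  have hTK : T ≤ K := by
    intro x hx
    rw [← hker]
    by_contra hne
    apply hQb
    have hmem : ∀ R : Sylow p (G ⧸ K), π x ∈ R := by
      intro R
      have h1 : (T.map π).Normal := Subgroup.Normal.map hTn π hπs
      have h2 : IsPGroup p (T.map π) := hTp.map π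
      exact Cfsg.Agent.Lib.Cores.pCore_le_sylow R
        (Cfsg.Agent.Lib.Cores.le_pCore h1 h2 (Subgroup.mem_map_of_mem π hx))
    exact D.ti _ _ _ hne (hmem _) (hmem _)
  have hSK : K ⊓ S = T := le_antisymm hKST (le_inf hTK hTS)
  have hmemT : ∀ x ∈ S, π x = 1 → x ∈ T := fun x hx h => hKST ⟨(hker x).mp h, hx⟩
  have hcomm : ∀ x ∈ S, ∀ y ∈ S, x * y * x⁻¹ * y⁻¹ ∈ T := by
    intro x hx y hy
    apply hmemT _ (S.mul_mem (S.mul_mem (S.mul_mem hx hy) (S.inv_mem hx)) (S.inv_mem hy))
    have h1 := D.comm Pb (π x) (Subgroup.mem_map_of_mem π hx) (π y) (Subgroup.mem_map_of_mem π hy)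
    rw [map_mul, map_mul, map_mul, map_inv, map_inv, h1]
    group
  -- M normalises the image
  have hMn : ∀ m ∈ M, (π m) • Pb = Pb := by
    intro m hm
    by_contra hne
    have h1 := D.gen _ _ (Ne.symm hne)
    have h2 : (Pb : Subgroup (G ⧸ K)) ⊔ ((π m • Pb : Sylow p (G ⧸ K)) : Subgroup (G ⧸ K)) ≤ M.map π := by
      apply sup_le
      · rw [hPbc]
        exact Subgroup.map_mono hSM
      · intro x hx
        rw [mem_smul_sylow, mem_cj, hPbc] at hx
        have h3 : (π m)⁻¹ * x * π m ∈ M.map π := Subgroup.map_mono hSM hx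
        have h4 : π m ∈ M.map π := Subgroup.mem_map_of_mem π hm
        have h5 := (M.map π).mul_mem ((M.map π).mul_mem h4 h3) ((M.map π).inv_mem h4)
        have e2 : π m * ((π m)⁻¹ * x * π m) * (π m)⁻¹ = x := by group
        rwa [e2] at h5
    rw [h1, top_le_iff] at h2
    have h3 := congrArg (fun H => H.comap π) h2
    simp only [Subgroup.comap_top] at h3
    rw [Subgroup.comap_map_eq, hπ, QuotientGroup.ker_mk', sup_eq_left.mpr hKM] at h3
    exact hMc.1 h3
  have hNb : ∀ g : G, (π g) • Pb = Pb → g ∈ M := by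
    intro g hg
    have h1 : (normalizer ((Pb : Subgroup (G ⧸ K)) : Set (G ⧸ K))).comap π ≤ M := by
      apply hle
      · intro h
        apply hPbn
        have h2 : normalizer ((Pb : Subgroup (G ⧸ K)) : Set (G ⧸ K)) = ⊤ := by
          rw [eq_top_iff]
          intro x _
          obtain ⟨y, rfl⟩ := hπs x
          have : y ∈ (normalizer ((Pb : Subgroup (G ⧸ K)) : Set (G ⧸ K))).comap π := by
            rw [h]; trivial
          exact this
        exact normalizer_eq_top_iff.mp h2
      · intro s hs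
        rw [Subgroup.mem_comap]
        exact le_normalizer (Subgroup.mem_map_of_mem π hs)
    apply h1
    rw [Subgroup.mem_comap, ← smul_sylow_iff]
    exact hg
  have hgen : ∀ g : G, g ∉ M → S ⊔ cj g S = ⊤ := by
    intro g hg
    by_contra hne
    apply hg
    have h1 := hle _ hne le_sup_left
    obtain ⟨m, hm, h5⟩ := exists_conj_of_le (P := P) (g := g) hSM (le_sup_right.trans h1)
    have h6 := M.mul_mem hm (hNS h5)
    have e : m * (m⁻¹ * g) = g := by group
    rwa [e] at h6
  have hti : ∀ g : G, g ∉ M → ∀ s ∈ S, s ∉ T → g⁻¹ * s * g ∉ M := by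
    intro g hg s hs hsT hmem
    apply hg
    apply hNb
    have h1 := hMn _ hmem
    have h1' := h1
    rw [smul_sylow_iff] at h1'
    -- π (g⁻¹ s g) ∈ Pb
    have h2 : π (g⁻¹ * s * g) ∈ Pb := by
      have hpz : IsPGroup p (Subgroup.zpowers (π (g⁻¹ * s * g))) := by
        have hz : IsPGroup p (Subgroup.zpowers s) := P.isPGroup'.to_le (by
          rw [Subgroup.zpowers_le]; exact hs)
        obtain ⟨k, hk⟩ := (IsPGroup.iff_orderOf.mp P.isPGroup') ⟨s, hs⟩
        rw [Subgroup.orderOf_mk] at hk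
        have h3 : (π (g⁻¹ * s * g)) ^ p ^ k = 1 := by
          rw [← map_pow]
          have : (g⁻¹ * s * g) ^ p ^ k = g⁻¹ * s ^ p ^ k * g := by
            have := conj_pow (i := p ^ k) (a := g⁻¹) (b := s)
            rwa [inv_inv] at this
          rw [this, ← hk, pow_orderOf_eq_one]
          simp
        rw [IsPGroup.iff_card]
        rw [Nat.card_zpowers]
        obtain ⟨j, _, hj⟩ := (Nat.dvd_prime_pow hp.out).mp (orderOf_dvd_of_pow_eq_one h3)
        exact ⟨j, hj⟩
      exact mem_sylow_of_mem_normalizer hpz h1'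
    have h6 : π s ∈ (π g • Pb : Sylow p (G ⧸ K)) := by
      have h7 : π s ∈ ((π g • Pb : Sylow p (G ⧸ K)) : Subgroup (G ⧸ K)) := by
        rw [mem_smul_sylow, mem_cj, ← map_inv, ← map_mul, ← map_mul]
        exact h2
      exact h7
    have h8 : π s ≠ 1 := fun h => hsT (hmemT s hs h)
    exact (D.ti Pb (π g • Pb) (π s) h8 (Subgroup.mem_map_of_mem π hs) h6).symm
  have hirr : ∀ B : Subgroup G, T ≤ B → B ≤ S → (∀ n ∈ normalizer (S : Set G), cj n B = B) →
      B = T ∨ B = S := by
    intro B hTB hBS hn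
    have hb : ∀ n ∈ normalizer ((Pb : Subgroup (G ⧸ K)) : Set (G ⧸ K)), ∀ b ∈ B.map π,
        n * b * n⁻¹ ∈ B.map π := by
      intro n hn' b hb'
      obtain ⟨g, rfl⟩ := hπs n
      -- Frattini inside S ⊔ K
      have h1 : (S ⊔ K).map π = S.map π := by
        rw [Subgroup.map_sup]
        have h3 : K.map π = ⊥ := by
          rw [Subgroup.map_eq_bot_iff, hπ, QuotientGroup.ker_mk']
        rw [h3, sup_bot_eq]
      have hgS : cj g S ≤ S ⊔ K := by
        intro x hx
        have h4 : π x ∈ S.map π := by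
          rw [← cj_eq_iff_mem_normalizer, hPbc] at hn'
          rw [← hn', ← cj_map_mk]
          exact Subgroup.mem_map_of_mem π hx
        obtain ⟨s, hs, hsx⟩ := h4
        have h5 : s⁻¹ * x ∈ K := by
          rw [← hker, map_mul, map_inv, hsx, inv_mul_cancel]
        have e : x = s * (s⁻¹ * x) := by group
        rw [e]
        exact Subgroup.mul_mem _ (Subgroup.mem_sup_left hs) (Subgroup.mem_sup_right h5)
      obtain ⟨m, hm, h5⟩ := exists_conj_of_le (P := P) (g := g) (H := S ⊔ K) le_sup_left hgS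
      have h6 := hn _ h5
      obtain ⟨y, hy, rfl⟩ := hb'
      have h7 : (m⁻¹ * g) * y * (m⁻¹ * g)⁻¹ ∈ B := by
        rw [← h6]
        exact conj_mem_cj hy
      have h8 := Subgroup.mem_map_of_mem π h7
      have h9 : π m ∈ Pb := by
        have : π m ∈ (S ⊔ K).map π := Subgroup.mem_map_of_mem π hm
        rw [h1] at this
        exact this
      have h10 : π ((m⁻¹ * g) * y * (m⁻¹ * g)⁻¹) ∈ Pb :=
        Subgroup.map_mono hBS h8
      have h11 := D.comm Pb _ h9 _ h10
      have h12 : π g * π y * (π g)⁻¹ = π ((m⁻¹ * g) * y * (m⁻¹ * g)⁻¹) := by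
        have e : π g * π y * (π g)⁻¹ = π m * π ((m⁻¹ * g) * y * (m⁻¹ * g)⁻¹) * (π m)⁻¹ := by
          rw [← map_mul, ← map_inv, ← map_mul, ← map_inv, ← map_mul, ← map_mul]
          congr 1
          group
        rw [e, h11]
        group
      rw [h12]
      exact h8
    rcases D.irr Pb (B.map π) (Subgroup.map_mono hBS) hb with h | h
    · left
      apply le_antisymm _ hTB
      intro x hx
      apply hmemT x (hBS hx)
      have := Subgroup.mem_map_of_mem π hx
      rwa [h, Subgroup.mem_bot] at this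
    · right
      apply le_antisymm hBS
      intro s hs
      have h1 : π s ∈ B.map π := by
        rw [h]
        exact Subgroup.mem_map_of_mem π hs
      obtain ⟨b, hb1, hb2⟩ := h1
      have h2 : b⁻¹ * s ∈ T := by
        apply hmemT _ (S.mul_mem (S.inv_mem (hBS hb1)) hs)
        rw [map_mul, map_inv, hb2, inv_mul_cancel]
      have e : s = b * (b⁻¹ * s) := by group
      rw [e]
      exact B.mul_mem hb1 (hTB h2)
  have hcard : Nat.card S = q * Nat.card T := by
    have h1 : π.ker.relIndex S = Nat.card (S.map π) := Subgroup.relIndex_ker S π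
    have h2 : Nat.card (S.map π) = q := by
      rw [← hPbc]
      exact D.card Pb
    have h3 : (K ⊓ S).relIndex S * Nat.card (K ⊓ S : Subgroup G) = Nat.card S := by
      rw [mul_comm]
      exact card_mul_relIndex inf_le_right
    rw [Subgroup.inf_relIndex_right, hSK] at h3
    have h4 : π.ker = K := QuotientGroup.ker_mk' K
    rw [h4, h2] at h1
    rw [← h3, h1]
  have hexpo : ∀ x ∈ S, x ^ p ∈ T := by
    intro x hx
    apply hmemT _ (S.pow_mem hx p)
    rw [map_pow]
    exact D.expo Pb _ (Subgroup.mem_map_of_mem π hx)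
  exact ⟨M, { syl := ⟨P, hS.symm⟩, hT := hT, cent := hcent, leM := hSM, neM := hMc.1, normM := hNS,
              dich := hdich, card := hcard, comm := hcomm, expo := hexpo, gen := hgen, ti := hti,
              irr := hirr, notNormal := hSn }⟩

end Cfsg.Agent.H260.Push
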