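import Cfsg.Agent.H260.Push3
import Cfsg.Agent.H264.CDLarge

/-!
# Rank one pushing up and centrally large subgroups

* `exists_core`: `IsPushingUpSituation` gives `Core`;
* `mcl_cases`: in the situation of the structure theorem a minimal centrally large subgroup `R` of `S`
  lies in `T = O_p(G)` and contains `X = Z(T)`, or `S = Z(R) T`, `R ⊓ X = Z(S)` and `(R ⊓ T) X` is again a
  minimal centrally large subgroup.
-/

set_option autoImplicit false
set_option linter.unusedSectionVars false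
set_option linter.unusedVariables false

namespace Cfsg.Agent.H260.Push

open Subgroup

theorem data_congr {L L' : Type*} [Group L] [Group L'] {p q : ℕ} (e : L ≃* L') (D : Psl.Data L' p q)
    [Finite L] [Fact p.Prime] : Psl.Data L p q := by
  have hmem : ∀ (P : Sylow p L) (x : L), x ∈ P ↔ e x ∈ P.mapSurjective (f := e.toMonoidHom) e.surjective := by
    intro P x
    constructor
    · intro h
      exact Subgroup.mem_map_of_mem e.toMonoidHom h
    · rintro ⟨y, hy, hyx⟩
      have : y = x := e.injective hyx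
      rwa [this] at hy
  have hinj : ∀ P Q : Sylow p L, P.mapSurjective (f := e.toMonoidHom) e.surjective =
      Q.mapSurjective (f := e.toMonoidHom) e.surjective → P = Q := by
    intro P Q h
    apply Sylow.ext
    ext x
    exact (hmem P x).trans ((by rw [h]) : _ ↔ e x ∈ Q.mapSurjective (f := e.toMonoidHom) e.surjective) |>.trans (hmem Q x).symm
  refine ⟨?_, ?_, ?_, ?_, ?_, ?_, ?_⟩
  · intro P
    rw [← D.card (P.mapSurjective (f := e.toMonoidHom) e.surjective)]
    exact Nat.card_congr ((P : Subgroup L).equivMapOfInjective e.toMonoidHom e.injective).toEquiv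
  · intro P x hx y hy
    apply e.injective
    rw [map_mul, map_mul]
    exact D.comm _ _ ((hmem P x).mp hx) _ ((hmem P y).mp hy)
  · intro P x hx
    apply e.injective
    rw [map_pow, map_one]
    exact D.expo _ _ ((hmem P x).mp hx)
  · intro P Q x hx h1 h2
    apply hinj
    exact D.ti _ _ (e x) (by rwa [ne_eq, map_eq_one_iff e e.injective]) ((hmem P x).mp h1) ((hmem Q x).mp h2)
  · intro P Q hPQ
    have h1 := D.gen _ _ (fun h => hPQ (hinj P Q h))
    have h2 : ((P : Subgroup L) ⊔ (Q : Subgroup L)).map e.toMonoidHom = ⊤ := by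
      rw [Subgroup.map_sup]
      exact h1
    have h3 := congrArg (fun H => H.comap e.toMonoidHom) h2
    simp only [Subgroup.comap_top] at h3
    rwa [Subgroup.comap_map_eq_self_of_injective (show Function.Injective e.toMonoidHom from e.injective)] at h3
  · intro P B hB hn
    rcases D.irr (P.mapSurjective (f := e.toMonoidHom) e.surjective) (B.map e.toMonoidHom)
      (Subgroup.map_mono hB) (by
        intro n hnn b hb
        obtain ⟨m, rfl⟩ := e.surjective n
        obtain ⟨b', hb', rfl⟩ := hb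
        have h1 : m ∈ normalizer ((P : Subgroup L) : Set L) := by
          rw [mem_normalizer_iff] at hnn ⊢
          intro h
          have h2 := hnn (e h)
          have e1 : e m * e h * (e m)⁻¹ = e (m * h * m⁻¹) := by simp
          rw [e1] at h2
          exact (hmem P h).trans (h2.trans (hmem P _).symm)
        have h2 := hn m h1 b' hb'
        have e1 : e m * e.toMonoidHom b' * (e m)⁻¹ = e.toMonoidHom (m * b' * m⁻¹) := by simp
        rw [e1]
        exact Subgroup.mem_map_of_mem _ h2) with h | h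
    · left
      rwa [Subgroup.map_eq_bot_iff_of_injective _ (show Function.Injective e.toMonoidHom from e.injective)] at h
    · right
      exact Subgroup.map_injective (show Function.Injective e.toMonoidHom from e.injective) h
  · intro P
    obtain ⟨Q, hQ⟩ := D.two (P.mapSurjective (f := e.toMonoidHom) e.surjective)
    obtain ⟨Q', rfl⟩ := Sylow.mapSurjective_surjective (f := e.toMonoidHom) e.surjective _ Q
    exact ⟨Q', fun h => hQ (by rw [h])⟩

theorem charP_of_card {F : Type*} [Field F] [Fintype F] {p n : ℕ} [hp : Fact p.Prime]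
    (h : Fintype.card F = p ^ n) : CharP F p := by
  obtain ⟨r, hr⟩ := CharP.exists F
  have hrp : r.Prime := CharP.char_is_prime F r
  have hrf : Fact r.Prime := ⟨hrp⟩
  obtain ⟨m, -, hm⟩ := FiniteField.card F r
  have h1 : r ∣ p ^ n := by
    rw [← h, hm]
    exact dvd_pow_self r m.ne_zero
  have h2 := hrp.dvd_of_dvd_pow h1
  rw [Nat.prime_dvd_prime_iff_eq hrp hp.out] at h2
  rwa [← h2]

/-- `IsPushingUpSituation` gives the basic configuration. -/
theorem exists_core {G : Type*} [Group G] [Finite G] {p : ℕ} [Fact p.Prime] {S : Subgroup G}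
    (hE : Cfsg.IsPushingUpSituation p S) : ∃ q M, Core p q S (Cfsg.pCore p G) M := by
  obtain ⟨-, ⟨P, hP⟩, hc, hM, K, hK, F, _, _, n, hF, ⟨e⟩⟩ := hE
  have hch : CharP F p := charP_of_card hF
  rw [← hP] at hM ⊢
  obtain ⟨M, hM'⟩ := core_of_data P hc hM K (data_congr e (Psl.data_psl F p))
  exact ⟨_, M, hM'⟩

section

variable {G : Type*} [Group G] [Finite G]

/-- `|R| |Z(R)|` -/
noncomputable def mu (R : Subgroup G) : ℕ := Nat.card R * Nat.card (cen R)

/-- `R` is centrally large in `S`. -/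
def CLr (S R : Subgroup G) : Prop := R ≤ S ∧ ∀ R' ≤ S, mu R' ≤ mu R

/-- `R` is minimal centrally large in `S`. -/
def MCL (S R : Subgroup G) : Prop := CLr S R ∧ ∀ R' ≤ R, CLr S R' → R' = R

theorem cen_map (S : Subgroup G) (R : Subgroup S) :
    (R ⊓ centralizer (R : Set S)).map S.subtype = cen (R.map S.subtype) := by
  ext x
  constructor
  · rintro ⟨y, ⟨hy1, hy2⟩, rfl⟩
    refine ⟨⟨y, hy1, rfl⟩, mem_centralizer_iff.mpr ?_⟩
    rintro _ ⟨z, hz, rfl⟩
    exact congrArg Subtype.val (mem_centralizer_iff.mp hy2 z hz)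
  · rintro ⟨⟨y, hy, rfl⟩, h⟩
    refine ⟨y, ⟨hy, mem_centralizer_iff.mpr ?_⟩, rfl⟩
    intro z hz
    apply Subtype.ext
    exact mem_centralizer_iff.mp h z ⟨z, hz, rfl⟩

theorem card_map_sub (S : Subgroup G) (R : Subgroup S) : Nat.card (R.map S.subtype) = Nat.card R :=
  Nat.card_congr (R.equivMapOfInjective _ S.subtype_injective).symm.toEquiv

theorem mu_map (S : Subgroup G) (R : Subgroup S) :
    mu (R.map S.subtype) = Nat.card R * Nat.card (center R) := by
  unfold mu
  rw [← cen_map, card_map_sub, card_map_sub, H264.CD.card_center_eq]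

theorem map_subgroupOf' {S R : Subgroup G} (h : R ≤ S) : (R.subgroupOf S).map S.subtype = R := by
  rw [subgroupOf_map_subtype, inf_eq_left.mpr h]

theorem map_sub_le (S : Subgroup G) (R : Subgroup S) : R.map S.subtype ≤ S := by
  rintro _ ⟨x, _, rfl⟩
  exact x.2

theorem cl_iff (S : Subgroup G) (R : Subgroup S) : Cfsg.IsCentrallyLarge R ↔ CLr S (R.map S.subtype) := by
  constructor
  · intro h
    refine ⟨map_sub_le S R, ?_⟩
    intro R' hR'
    rw [mu_map, ← map_subgroupOf' hR', mu_map]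
    have h1 : Nat.card R * Nat.card (center R) = _ := h
    rw [h1]
    exact H264.CD.cent_le _
  · rintro ⟨-, h⟩
    obtain ⟨R₀, hR₀⟩ := H264.CD.exists_cent (G := S)
    have h1 := h _ (map_sub_le S R₀)
    rw [mu_map, mu_map] at h1
    have h2 : Nat.card R₀ * Nat.card (center R₀) = _ := hR₀
    rw [h2] at h1
    exact le_antisymm (H264.CD.cent_le _) h1

theorem mcl_iff (S : Subgroup G) (R : Subgroup S) :
    Cfsg.IsMinimalCentrallyLarge R ↔ MCL S (R.map S.subtype) := by
  constructor
  · rintro ⟨h1, h2⟩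
    refine ⟨(cl_iff S R).mp h1, ?_⟩
    intro R' hR' hcl
    have hS : R' ≤ S := hcl.1
    have h3 : Cfsg.IsCentrallyLarge (R'.subgroupOf S) := by
      rw [cl_iff, map_subgroupOf' hS]
      exact hcl
    have h4 : R'.subgroupOf S ≤ R := by
      intro x hx
      obtain ⟨y, hy, hyx⟩ := hR' (mem_subgroupOf.mp hx)
      have : y = x := Subtype.ext hyx
      rwa [this] at hy
    rw [← map_subgroupOf' hS, h2 _ h4 h3]
  · rintro ⟨h1, h2⟩
    refine ⟨(cl_iff S R).mpr h1, ?_⟩
    intro R' hR' hcl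
    have h3 := h2 _ (Subgroup.map_mono hR') ((cl_iff S R').mp hcl)
    exact Subgroup.map_injective S.subtype_injective h3

theorem mcl_of_ambient {S R : Subgroup G} (h : MCL S R) : Cfsg.IsMinimalCentrallyLarge (R.subgroupOf S) := by
  rw [mcl_iff, map_subgroupOf' h.1.1]
  exact h

theorem MCL.card_eq {S R R' : Subgroup G} (h : MCL S R) (h' : MCL S R') :
    Nat.card R = Nat.card R' ∧ Nat.card (cen R) = Nat.card (cen R') := by
  have h1 := H264.CD.card_min_eq (mcl_of_ambient h) (mcl_of_ambient h')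
  rw [← card_map_sub, ← card_map_sub, map_subgroupOf' h.1.1, map_subgroupOf' h'.1.1] at h1
  refine ⟨h1.1, ?_⟩
  have h2 := le_antisymm (h'.1.2 _ h.1.1) (h.1.2 _ h'.1.1)
  unfold mu at h2
  rw [h1.1] at h2
  exact Nat.eq_of_mul_eq_mul_left Nat.card_pos h2

theorem MCL.of_card {S R R₁ : Subgroup G} (h : MCL S R) (h' : CLr S R₁) (hc : Nat.card R₁ ≤ Nat.card R) :
    MCL S R₁ := by
  obtain ⟨R₂, hR₂, hmin⟩ := H264.CD.exists_min_le ((cl_iff S (R₁.subgroupOf S)).mpr (by
    rw [map_subgroupOf' h'.1]; exact h'))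
  have h1 := (mcl_iff S R₂).mp hmin
  have h2 := (h.card_eq h1).1
  have h3 : R₂.map S.subtype ≤ R₁ := by
    rw [← map_subgroupOf' h'.1]
    exact Subgroup.map_mono hR₂
  have h4 : R₂.map S.subtype = R₁ := eq_of_le_of_card_le h3 (by rw [← h2]; exact hc)
  rwa [h4] at h1

theorem MCL.cj {S R : Subgroup G} {g : G} (h : MCL S R) (hg : cj g R ≤ S) (hT : ∀ R' ≤ cj g R, cj g⁻¹ R' ≤ S) :
    MCL S (cj g R) := by
  have hmu : ∀ (g : G) (H : Subgroup G), mu (Push.cj g H) = mu H := by
    intro g H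
    unfold mu
    rw [← cj_cen, card_cj, card_cj]
  refine ⟨⟨hg, ?_⟩, ?_⟩
  · intro R' hR'
    rw [hmu]
    exact h.1.2 R' hR'
  · intro R' hR' hcl
    have h1 : Push.cj g⁻¹ R' ≤ R := by
      have := cj_mono (g := g⁻¹) hR'
      rwa [cj_inv_cj] at this
    have h2 : CLr S (Push.cj g⁻¹ R') := by
      refine ⟨h1.trans h.1.1, ?_⟩
      intro R'' hR''
      rw [hmu]
      exact hcl.2 R'' hR''
    have h3 := h.2 _ h1 h2
    rw [← h3, cj_cj_inv]

theorem CLr.cenS_le {S R : Subgroup G} (h : CLr S R) : cen S ≤ R := by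
  have hle : R ⊔ cen S ≤ S := sup_le h.1 (cen_le S)
  have h1 := h.2 _ hle
  have h2 : cen R ≤ cen (R ⊔ cen S) := by
    intro x hx
    refine ⟨mem_sup_left hx.1, ?_⟩
    rw [centralizer_sup']
    refine ⟨hx.2, mem_centralizer_iff.mpr ?_⟩
    intro z hz
    exact (cen_comm hz (h.1 hx.1)).symm
  have h3 : Nat.card (cen R) ≤ Nat.card (cen (R ⊔ cen S)) := Nat.card_mono (Set.toFinite _) h2
  have h4 : Nat.card (R ⊔ cen S : Subgroup G) * Nat.card (cen R) ≤ Nat.card R * Nat.card (cen R) := by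
    refine le_trans ?_ h1
    unfold mu
    gcongr
  have h5 := Nat.le_of_mul_le_mul_right h4 Nat.card_pos
  have h6 := eq_of_le_of_card_le (le_sup_left : R ≤ R ⊔ cen S) h5
  rw [h6]
  exact le_sup_right

variable {p q : ℕ} [hp : Fact p.Prime] {S T M : Subgroup G}

theorem card_le_mul_inf (c : Core p q S T M) {R : Subgroup G} (hR : R ≤ S) :
    Nat.card (R ⊔ T : Subgroup G) * Nat.card (R ⊓ T : Subgroup G) = Nat.card R * Nat.card T := by
  apply card_mul_eq
  have := c.normT
  rw [normalizer_eq_top_iff.mpr this]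
  exact le_top

theorem card_le_q (c : Core p q S T M) {R : Subgroup G} (hR : R ≤ S) :
    Nat.card R ≤ q * Nat.card (R ⊓ T : Subgroup G) := by
  have h1 := card_le_mul_inf c hR
  have h2 : Nat.card (R ⊔ T : Subgroup G) ≤ Nat.card S := Nat.card_mono (Set.toFinite _) (sup_le hR c.le)
  rw [c.card] at h2
  have h3 : Nat.card R * Nat.card T ≤ (q * Nat.card (R ⊓ T : Subgroup G)) * Nat.card T := by
    rw [← h1]
    calc _ ≤ q * Nat.card T * Nat.card (R ⊓ T : Subgroup G) := by gcongr
      _ = _ := by ring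
  exact Nat.le_of_mul_le_mul_right h3 Nat.card_pos

theorem CLr.cenT_le (c : Core p q S T M) {R : Subgroup G} (h : CLr S R) (hR : R ≤ T) : cen T ≤ R := by
  have hle : R ⊔ cen T ≤ S := sup_le h.1 ((cen_le T).trans c.le)
  have h1 := h.2 _ hle
  have h2 : cen R ≤ cen (R ⊔ cen T) := by
    intro x hx
    refine ⟨mem_sup_left hx.1, ?_⟩
    rw [centralizer_sup']
    refine ⟨hx.2, mem_centralizer_iff.mpr ?_⟩
    intro z hz
    exact (cen_comm hz (hR hx.1)).symm
  have h3 : Nat.card (cen R) ≤ Nat.card (cen (R ⊔ cen T)) := Nat.card_mono (Set.toFinite _) h2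
  have h4 : Nat.card (R ⊔ cen T : Subgroup G) * Nat.card (cen R) ≤ Nat.card R * Nat.card (cen R) := by
    refine le_trans ?_ h1
    unfold mu
    gcongr
  have h5 := Nat.le_of_mul_le_mul_right h4 Nat.card_pos
  have h6 := eq_of_le_of_card_le (le_sup_left : R ≤ R ⊔ cen T) h5
  rw [h6]
  exact le_sup_right

/-- **Position of a minimal centrally large subgroup.** -/
theorem mcl_cases (c : Core p q S T M) (N : Core.Nat' p q S T M) {R : Subgroup G} (h : MCL S R) :
    (R ≤ T ∧ cen T ≤ R) ∨
      (cen R ⊔ T = S ∧ R ⊓ cen T = cen S ∧ MCL S ((R ⊓ T) ⊔ cen T) ∧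
        cen ((R ⊓ T) ⊔ cen T) = (cen R ⊓ T) ⊔ cen T) := by
  by_cases hRT : R ≤ T
  · exact Or.inl ⟨hRT, h.1.cenT_le c hRT⟩
  right
  have hXn := c.normX
  have hSR := h.1.cenS_le
  have hXT : cen T ≤ T := cen_le T
  set X := cen T with hX
  set R₁ := (R ⊓ T) ⊔ X with hR₁
  set C₁ := (cen R ⊓ T) ⊔ X with hC₁
  have hR₁S : R₁ ≤ S := sup_le (inf_le_left.trans h.1.1) (hXT.trans c.le)
  have hC₁le : C₁ ≤ cen R₁ := by
    apply sup_le
    · rintro x ⟨hx1, hx2⟩
      refine ⟨mem_sup_left ⟨hx1.1, hx2⟩, ?_⟩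
      rw [centralizer_sup']
      refine ⟨centralizer_le (SetLike.coe_subset_coe.mpr inf_le_left) hx1.2, mem_centralizer_iff.mpr ?_⟩
      intro z hz
      exact (cen_comm hz hx2).symm
    · intro x hx
      refine ⟨mem_sup_right hx, ?_⟩
      rw [centralizer_sup']
      refine ⟨centralizer_le (SetLike.coe_subset_coe.mpr inf_le_right) hx.2, mem_centralizer_iff.mpr ?_⟩
      intro z hz
      exact c.cenT_comm hz hx
  have hcenS_cenR : cen S ≤ cen R := fun x hx =>
    ⟨hSR hx, centralizer_le (SetLike.coe_subset_coe.mpr h.1.1) hx.2⟩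
  have norm : ∀ H : Subgroup G, H ≤ normalizer (X : Set G) := by
    intro H
    rw [normalizer_eq_top_iff.mpr hXn]
    exact le_top
  have e1 : Nat.card R₁ * Nat.card (R ⊓ X : Subgroup G) = Nat.card (R ⊓ T : Subgroup G) * Nat.card X := by
    have := card_mul_eq (norm (R ⊓ T))
    rwa [inf_assoc, inf_eq_right.mpr hXT] at this
  have e2 : Nat.card C₁ * Nat.card (cen R ⊓ X : Subgroup G) =
      Nat.card (cen R ⊓ T : Subgroup G) * Nat.card X := by
    have := card_mul_eq (norm (cen R ⊓ T))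
    rwa [inf_assoc, inf_eq_right.mpr hXT] at this
  obtain ⟨s, hsR, hsT⟩ := SetLike.not_le_iff_exists.mp hRT
  have e3 : cen R ⊓ X = cen S := by
    apply le_antisymm
    · rintro x ⟨hx1, hx2⟩
      exact N.fix s (h.1.1 hsR) hsT x hx2 (cen_comm hx1 hsR)
    · exact le_inf hcenS_cenR c.Zs_le
  rw [e3, N.cardX] at e2
  have e4 : Nat.card C₁ = q * Nat.card (cen R ⊓ T : Subgroup G) := by
    apply Nat.eq_of_mul_eq_mul_right (Nat.card_pos (α := cen S))
    rw [e2]; ring
  have i1 : Nat.card R ≤ q * Nat.card (R ⊓ T : Subgroup G) := card_le_q c h.1.1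
  have i2 : Nat.card (cen R) ≤ q * Nat.card (cen R ⊓ T : Subgroup G) := card_le_q c ((cen_le R).trans h.1.1)
  have i3 : Nat.card C₁ ≤ Nat.card (cen R₁) := Nat.card_mono (Set.toFinite _) hC₁le
  have i4 : mu R₁ ≤ mu R := h.1.2 _ hR₁S
  have hqpos := c.qpos
  have hpos : ∀ H : Subgroup G, 0 < Nat.card H := fun H => Nat.card_pos
  by_cases hcR : cen R ≤ T
  · exfalso
    have e5 : cen R ⊓ T = cen R := inf_eq_left.mpr hcR
    rw [e5] at e4
    -- card R₁ ≤ card (R ⊓ T)
    have i5 : Nat.card R₁ ≤ Nat.card (R ⊓ T : Subgroup G) := by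
      have h1 : Nat.card R₁ * (q * Nat.card (cen R)) ≤ Nat.card (R ⊓ T : Subgroup G) * (q * Nat.card (cen R)) := by
        rw [← e4]
        calc Nat.card R₁ * Nat.card C₁ ≤ Nat.card R₁ * Nat.card (cen R₁) := by gcongr
          _ ≤ Nat.card R * Nat.card (cen R) := i4
          _ ≤ (q * Nat.card (R ⊓ T : Subgroup G)) * Nat.card (cen R) := by gcongr
          _ = Nat.card (R ⊓ T : Subgroup G) * Nat.card C₁ := by rw [e4]; ring
      exact Nat.le_of_mul_le_mul_right h1 (Nat.mul_pos hqpos (hpos _))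
    have e6 : R ⊓ T = R₁ := eq_of_le_of_card_le le_sup_left i5
    -- R₁ is centrally large
    have h2 : CLr S R₁ := by
      refine ⟨hR₁S, fun R' hR' => (h.1.2 R' hR').trans ?_⟩
      unfold mu
      calc Nat.card R * Nat.card (cen R) ≤ (q * Nat.card (R ⊓ T : Subgroup G)) * Nat.card (cen R) := by gcongr
        _ = Nat.card (R ⊓ T : Subgroup G) * Nat.card C₁ := by rw [e4]; ring
        _ ≤ Nat.card R₁ * Nat.card (cen R₁) := by rw [e6]; gcongr
    have h3 := h.2 R₁ (by rw [← e6]; exact inf_le_left) h2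
    apply hRT
    rw [← h3, ← e6]
    exact inf_le_right
  · obtain ⟨z, hzR, hzT⟩ := SetLike.not_le_iff_exists.mp hcR
    have e5 : R ⊓ X = cen S := by
      apply le_antisymm
      · rintro x ⟨hx1, hx2⟩
        exact N.fix z (h.1.1 hzR.1) hzT x hx2 (cen_comm hzR hx1).symm
      · exact le_inf hSR c.Zs_le
    rw [e5, N.cardX] at e1
    have e6 : Nat.card R₁ = q * Nat.card (R ⊓ T : Subgroup G) := by
      apply Nat.eq_of_mul_eq_mul_right (Nat.card_pos (α := cen S))
      rw [e1]; ring
    have i5 : Nat.card R ≤ Nat.card R₁ := by rw [e6]; exact i1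
    have i6 : Nat.card (cen R) ≤ Nat.card C₁ := by rw [e4]; exact i2
    have i7 : Nat.card R * Nat.card (cen R) ≤ Nat.card R₁ * Nat.card C₁ := by gcongr
    have i8 : Nat.card R₁ * Nat.card C₁ ≤ Nat.card R₁ * Nat.card (cen R₁) := by gcongr
    have i9 : Nat.card R₁ * Nat.card (cen R₁) ≤ Nat.card R * Nat.card (cen R) := i4
    have e7 : Nat.card R₁ = Nat.card R := by
      apply le_antisymm _ i5
      by_contra hlt
      push Not at hlt
      have : Nat.card R * Nat.card (cen R) < Nat.card R₁ * Nat.card C₁ :=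
        Nat.mul_lt_mul_of_lt_of_le hlt i6 (hpos _)
      omega
    have e8 : Nat.card C₁ = Nat.card (cen R) := by
      rw [e7] at i8 i9
      exact le_antisymm (Nat.le_of_mul_le_mul_left (i8.trans i9) (hpos _)) i6
    have e9 : Nat.card (cen R₁) = Nat.card (cen R) := by
      rw [e7] at i9
      exact le_antisymm (Nat.le_of_mul_le_mul_left i9 (hpos _)) (e8 ▸ i3)
    have h2 : CLr S R₁ := by
      refine ⟨hR₁S, fun R' hR' => (h.1.2 R' hR').trans ?_⟩
      unfold mu
      rw [e7, e9]
    refine ⟨?_, e5, h.of_card h2 e7.le, ?_⟩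
    · apply eq_of_le_of_card_le (sup_le ((cen_le R).trans h.1.1) c.le)
      have h3 := card_le_mul_inf c ((cen_le R).trans h.1.1)
      have h4 : Nat.card (cen R ⊔ T : Subgroup G) * Nat.card (cen R ⊓ T : Subgroup G) =
          (q * Nat.card T) * Nat.card (cen R ⊓ T : Subgroup G) := by
        rw [h3, ← e8, e4]; ring
      have h5 := Nat.eq_of_mul_eq_mul_right (hpos _) h4
      rw [h5, c.card]
    · symm
      apply eq_of_le_of_card_le hC₁le
      rw [e9, e8]

end

end Cfsg.Agent.H260.Push
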