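import Cfsg.Agent.H264.CDLarge

/-!
# Centrally large subgroups and isomorphisms
-/

set_option autoImplicit false

namespace Cfsg.Agent.H260.ClEquiv

open Subgroup

variable {P P' : Type*} [Group P] [Group P']

theorem card_map (e : P ≃* P') (R : Subgroup P) : Nat.card (R.map e.toMonoidHom) = Nat.card R :=
  Nat.card_congr (R.equivMapOfInjective e.toMonoidHom e.injective).symm.toEquiv

theorem card_center_map (e : P ≃* P') (R : Subgroup P) :
    Nat.card (center (R.map e.toMonoidHom : Subgroup P')) = Nat.card (center R) :=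
  Nat.card_congr (Subgroup.centerCongr (R.equivMapOfInjective e.toMonoidHom e.injective)).symm.toEquiv

theorem map_symm_map (e : P ≃* P') (R : Subgroup P) :
    (R.map e.toMonoidHom).map e.symm.toMonoidHom = R := by
  rw [Subgroup.map_map]
  have : e.symm.toMonoidHom.comp e.toMonoidHom = MonoidHom.id P := by
    ext x; simp
  rw [this, Subgroup.map_id]

theorem map_map_symm (e : P ≃* P') (R : Subgroup P') :
    (R.map e.symm.toMonoidHom).map e.toMonoidHom = R := by
  rw [Subgroup.map_map]
  have : e.toMonoidHom.comp e.symm.toMonoidHom = MonoidHom.id P' := by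
    ext x; simp
  rw [this, Subgroup.map_id]

theorem maxCentralProduct_eq (e : P ≃* P') : Cfsg.maxCentralProduct P = Cfsg.maxCentralProduct P' := by
  unfold Cfsg.maxCentralProduct
  congr 1
  ext k
  constructor
  · rintro ⟨R, hR⟩
    exact ⟨R.map e.toMonoidHom, by rw [card_map, card_center_map]; exact hR⟩
  · rintro ⟨R, hR⟩
    refine ⟨R.map e.symm.toMonoidHom, ?_⟩
    rw [card_map, card_center_map]
    exact hR

theorem isCentrallyLarge_map (e : P ≃* P') {R : Subgroup P} :
    Cfsg.IsCentrallyLarge (R.map e.toMonoidHom) ↔ Cfsg.IsCentrallyLarge R := by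
  unfold Cfsg.IsCentrallyLarge
  rw [card_map, card_center_map, maxCentralProduct_eq e]

theorem isMinimalCentrallyLarge_map (e : P ≃* P') {R : Subgroup P} :
    Cfsg.IsMinimalCentrallyLarge (R.map e.toMonoidHom) ↔ Cfsg.IsMinimalCentrallyLarge R := by
  unfold Cfsg.IsMinimalCentrallyLarge
  rw [isCentrallyLarge_map]
  constructor
  · rintro ⟨h1, h2⟩
    refine ⟨h1, fun R' hR' hcl => ?_⟩
    have := h2 (R'.map e.toMonoidHom) (Subgroup.map_mono hR') ((isCentrallyLarge_map e).mpr hcl)
    exact Subgroup.map_injective e.injective this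
  · rintro ⟨h1, h2⟩
    refine ⟨h1, fun R' hR' hcl => ?_⟩
    have h3 : R'.map e.symm.toMonoidHom ≤ R := by
      rw [← map_symm_map e R]
      exact Subgroup.map_mono hR'
    have := h2 (R'.map e.symm.toMonoidHom) h3 ((isCentrallyLarge_map e.symm).mpr hcl)
    rw [← this, map_map_symm]

end Cfsg.Agent.H260.ClEquiv
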