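import Cfsg.Agent.H260.Push6

/-!
# Glauberman-Niles, part 1: local data inside an ambient (possibly infinite) group
-/

set_option autoImplicit false
set_option linter.unusedSectionVars false
set_option linter.unusedVariables false
set_option linter.style.haveILetI false

namespace Cfsg.Agent.H260.GN

open Subgroup Push
open scoped commutatorElement

variable {G : Type*} [Group G]

theorem fin_le {A B : Subgroup G} (h : A ≤ B) [Finite B] : Finite A :=
  Finite.of_injective (inclusion h) (inclusion_injective h)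

theorem eq_of_card {A B : Subgroup G} [Finite B] (h : A ≤ B) (hc : Nat.card B ≤ Nat.card A) : A = B :=
  Subgroup.eq_of_le_of_card_ge h hc

theorem card_mono' {A B : Subgroup G} [Finite B] (h : A ≤ B) : Nat.card A ≤ Nat.card B :=
  Nat.card_mono (Set.toFinite (B : Set G)) h

/-- `A` and `B` commute. -/
def Cm (A B : Subgroup G) : Prop := ∀ x ∈ A, ∀ y ∈ B, x * y = y * x

theorem Cm.symm {A B : Subgroup G} (h : Cm A B) : Cm B A := fun x hx y hy => (h y hy x hx).symm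

theorem Cm.mono {A B A' B' : Subgroup G} (h : Cm A B) (h1 : A' ≤ A) (h2 : B' ≤ B) : Cm A' B' :=
  fun x hx y hy => h x (h1 hx) y (h2 hy)

theorem cm_iff_le {A B : Subgroup G} : Cm A B ↔ A ≤ centralizer (B : Set G) := by
  constructor
  · intro h x hx
    rw [mem_centralizer_iff]
    exact fun y hy => (h x hx y hy).symm
  · intro h x hx y hy
    exact (mem_centralizer_iff.mp (h hx) y hy).symm

theorem Cm.sup_left {A A' B : Subgroup G} (h : Cm A B) (h' : Cm A' B) : Cm (A ⊔ A') B := by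
  rw [cm_iff_le] at *
  exact sup_le h h'

theorem Cm.sup_right {A B B' : Subgroup G} (h : Cm A B) (h' : Cm A B') : Cm A (B ⊔ B') :=
  (Cm.sup_left h.symm h'.symm).symm

theorem Cm.iSup_left {κ : Sort*} {A : κ → Subgroup G} {B : Subgroup G} (h : ∀ k, Cm (A k) B) :
    Cm (⨆ k, A k) B := by
  rw [cm_iff_le]
  exact iSup_le fun k => cm_iff_le.mp (h k)

theorem Cm.iSup_right {κ : Sort*} {A : Subgroup G} {B : κ → Subgroup G} (h : ∀ k, Cm A (B k)) :
    Cm A (⨆ k, B k) := (Cm.iSup_left fun k => (h k).symm).symm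

theorem Cm.cj {A B : Subgroup G} (h : Cm A B) (g : G) : Cm (cj g A) (cj g B) := by
  intro x hx y hy
  rw [mem_cj] at hx hy
  have := h _ hx _ hy
  have e1 : g⁻¹ * x * g * (g⁻¹ * y * g) = g⁻¹ * (x * y) * g := by group
  have e2 : g⁻¹ * y * g * (g⁻¹ * x * g) = g⁻¹ * (y * x) * g := by group
  rw [e1, e2] at this
  exact mul_left_cancel (mul_right_cancel this)

theorem cm_cj_iff {A B : Subgroup G} {g : G} : Cm (cj g A) (cj g B) ↔ Cm A B := by
  constructor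
  · intro h
    have := h.cj g⁻¹
    rwa [cj_inv_cj, cj_inv_cj] at this
  · exact fun h => h.cj g

theorem cm_cj_left {A B : Subgroup G} {g : G} : Cm (cj g A) B ↔ Cm A (cj g⁻¹ B) := by
  rw [← cm_cj_iff (g := g⁻¹), cj_inv_cj]

theorem cm_cj_right {A B : Subgroup G} {g : G} : Cm A (cj g B) ↔ Cm (cj g⁻¹ A) B := by
  rw [← cm_cj_iff (g := g⁻¹), cj_inv_cj]

theorem Cm.cen_le {A : Subgroup G} : Cm (cen A) A := fun x hx y hy => (cen_comm hx hy).symm

theorem cj_of_mem {g : G} {H : Subgroup G} (h : g ∈ H) : cj g H = H := by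
  ext x
  rw [mem_cj]
  constructor
  · intro hx
    have := H.mul_mem (H.mul_mem h hx) (H.inv_mem h)
    have e : g * (g⁻¹ * x * g) * g⁻¹ = x := by group
    rwa [e] at this
  · intro hx
    exact H.mul_mem (H.mul_mem (H.inv_mem h) hx) h

theorem cj_iSup {κ : Sort*} (g : G) (A : κ → Subgroup G) : cj g (⨆ k, A k) = ⨆ k, cj g (A k) :=
  Subgroup.map_iSup _ _

theorem cj_comm (g : G) (A B : Subgroup G) : cj g ⁅A, B⁆ = ⁅cj g A, cj g B⁆ := Subgroup.map_commutator _ _ _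

theorem le_cj_iff {g : G} {A B : Subgroup G} : A ≤ cj g B ↔ cj g⁻¹ A ≤ B := by
  rw [← cj_le_cj (g := g⁻¹), cj_inv_cj]

theorem cj_le_iff {g : G} {A B : Subgroup G} : cj g A ≤ B ↔ A ≤ cj g⁻¹ B := by
  rw [← cj_le_cj (g := g⁻¹), cj_inv_cj]

theorem cj_eq_iff {g : G} {A B : Subgroup G} : cj g A = B ↔ A = cj g⁻¹ B := by
  constructor
  · rintro rfl; rw [cj_inv_cj]
  · rintro rfl; rw [cj_cj_inv]

/-- conjugation by `g` fixes `H` as soon as `gHg⁻¹ ≤ H`, `H` finite. -/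
theorem cj_eq_of_le {g : G} {H : Subgroup G} [Finite H] (h : cj g H ≤ H) : cj g H = H :=
  eq_of_card h (by rw [card_cj])

theorem cj_eq_of_forall {g : G} {H : Subgroup G} [Finite H] (h : ∀ y ∈ H, g * y * g⁻¹ ∈ H) :
    cj g H = H := by
  apply cj_eq_of_le
  intro y hy
  rw [mem_cj] at hy
  have := h _ hy
  have e : g * (g⁻¹ * y * g) * g⁻¹ = y := by group
  rwa [e] at this

theorem cj_inv_eq {g : G} {H : Subgroup G} (h : cj g H = H) : cj g⁻¹ H = H := by
  conv_lhs => rw [← h]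
  rw [cj_inv_cj]

theorem cj_mul_eq {g h : G} {H : Subgroup G} (h1 : cj g H = H) (h2 : cj h H = H) : cj (g * h) H = H := by
  rw [← cj_mul, h2, h1]

/-- If `K` normalises `H` (elementwise, `cj k H = H`) then `HK` is a product. -/
theorem mem_sup_of_norm {H K : Subgroup G} (h : ∀ k ∈ K, cj k H = H) {x : G} (hx : x ∈ K ⊔ H) :
    ∃ k ∈ K, ∃ y ∈ H, k * y = x := by
  have hn : K ≤ normalizer (H : Set G) := fun k hk => cj_eq_iff_mem_normalizer.mp (h k hk)
  rw [← SetLike.mem_coe, coe_mul_of_left_le_normalizer_right _ _ hn] at hx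
  obtain ⟨k, hk, y, hy, e⟩ := hx
  exact ⟨k, hk, y, hy, e⟩

theorem mem_sup_of_norm' {H K : Subgroup G} (h : ∀ k ∈ K, cj k H = H) {x : G} (hx : x ∈ H ⊔ K) :
    ∃ y ∈ H, ∃ k ∈ K, y * k = x := by
  have hn : K ≤ normalizer (H : Set G) := fun k hk => cj_eq_iff_mem_normalizer.mp (h k hk)
  rw [← SetLike.mem_coe, coe_mul_of_right_le_normalizer_left _ _ hn] at hx
  obtain ⟨k, hk, y, hy, e⟩ := hx
  exact ⟨k, hk, y, hy, e⟩

theorem card_mul_norm {H K : Subgroup G} (h : ∀ k ∈ K, cj k H = H) :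
    Nat.card (K ⊔ H : Subgroup G) * Nat.card (K ⊓ H : Subgroup G) = Nat.card K * Nat.card H :=
  card_mul_eq fun k hk => cj_eq_iff_mem_normalizer.mp (h k hk)

theorem cj_of_cm {g : G} {H : Subgroup G} (h : ∀ y ∈ H, g * y = y * g) : cj g H = H := by
  ext x
  rw [mem_cj]
  constructor
  · intro hx
    have := h _ hx
    have e : g⁻¹ * x * g = x := by
      have h2 : g * (g⁻¹ * x * g) = x * g := by group
      rw [h2] at this
      exact (mul_right_cancel this).symm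
    rwa [e] at hx
  · intro hx
    have := h _ hx
    rw [mul_assoc, ← this, ← mul_assoc, inv_mul_cancel, one_mul]
    exact hx

theorem Cm.cj_eq {A B : Subgroup G} (h : Cm A B) : ∀ g ∈ A, Push.cj g B = B :=
  fun g hg => cj_of_cm (h g hg)

theorem Cm.card_mul {A B : Subgroup G} (h : Cm A B) :
    Nat.card (A ⊔ B : Subgroup G) * Nat.card (A ⊓ B : Subgroup G) = Nat.card A * Nat.card B :=
  card_mul_norm h.cj_eq

theorem Cm.mem_sup {A B : Subgroup G} (h : Cm A B) {x : G} (hx : x ∈ A ⊔ B) :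
    ∃ a ∈ A, ∃ b ∈ B, a * b = x := mem_sup_of_norm h.cj_eq hx

/-- The set of elements normalising `H`, as a subgroup. -/
theorem norm_sup {A B H : Subgroup G} (h1 : ∀ g ∈ A, cj g H = H) (h2 : ∀ g ∈ B, cj g H = H) :
    ∀ g ∈ A ⊔ B, cj g H = H := by
  have : A ⊔ B ≤ normalizer (H : Set G) := by
    apply sup_le
    · exact fun g hg => cj_eq_iff_mem_normalizer.mp (h1 g hg)
    · exact fun g hg => cj_eq_iff_mem_normalizer.mp (h2 g hg)
  exact fun g hg => cj_eq_iff_mem_normalizer.mpr (this hg)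

theorem cj_sup_eq {g : G} {A B : Subgroup G} (h1 : cj g A = A) (h2 : cj g B = B) :
    cj g (A ⊔ B) = A ⊔ B := by rw [cj_sup, h1, h2]

theorem cj_inf_eq {g : G} {A B : Subgroup G} (h1 : cj g A = A) (h2 : cj g B = B) :
    cj g (A ⊓ B) = A ⊓ B := by rw [cj_inf, h1, h2]

theorem LargeAb.le_of_comm' {S A : Subgroup G} [Finite S] (h : LargeAb S A) {B : Subgroup G} (hB : B ≤ S)
    (hBc : ∀ x ∈ B, ∀ y ∈ B, x * y = y * x) (hAB : ∀ x ∈ A, ∀ y ∈ B, x * y = y * x) : B ≤ A := by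
  have h1 := h.max (A ⊔ B) (sup_le h.le hB) (comm_sup h.comm hBc hAB)
  haveI : Finite (A ⊔ B : Subgroup G) := fin_le (sup_le h.le hB)
  have h2 := eq_of_card (le_sup_left : A ≤ A ⊔ B) h1
  rw [h2]
  exact le_sup_right

theorem LargeAb.of_card {S A B : Subgroup G} (h : LargeAb S A) (hB : B ≤ S)
    (hBc : ∀ x ∈ B, ∀ y ∈ B, x * y = y * x) (hc : Nat.card A ≤ Nat.card B) : LargeAb S B :=
  ⟨hB, hBc, fun X h1 h2 => (h.max X h1 h2).trans hc⟩

theorem LargeAb.cenS_le' {S A : Subgroup G} [Finite S] (h : LargeAb S A) : cen S ≤ A := by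
  apply LargeAb.le_of_comm' h (Push.cen_le S)
  · intro x hx y hy
    exact (cen_comm hy (Push.cen_le S hx))
  · intro x hx y hy
    exact cen_comm hy (h.le hx)

/-- The local data. -/
structure Loc (p q : ℕ) (S L Q V C M : Subgroup G) : Prop where
  fin : Finite L
  SL : S ≤ L
  pg : IsPGroup p S
  idx : ¬ p ∣ S.relIndex L
  QS : Q ≤ S
  Qn : ∀ g ∈ L, cj g Q = Q
  Vd : V = cen Q
  cV : S ⊓ centralizer (V : Set G) = Q
  Cd : C = cen S ⊓ centralizer (L : Set G)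
  SM : S ≤ M
  ML : M ≤ L
  ex : ∃ g ∈ L, g ∉ M
  gen : ∀ g ∈ L, g ∉ M → S ⊔ cj g S = L
  ti : ∀ g ∈ L, g ∉ M → ∀ s ∈ S, s ∉ Q → g⁻¹ * s * g ∉ M
  quad : ∀ y ∈ V, ∀ s ∈ S, cm y s ∈ cen S
  cmc : ∀ s ∈ S, s ∉ Q → ∀ y ∈ V, cm y s ∈ C → y ∈ cen S
  cardS : Nat.card S = q * Nat.card Q
  cardV : Nat.card V = q * Nat.card (cen S)
  cardZ : Nat.card (cen S) = q * Nat.card C
  big : ∃ A, LargeAb S A ∧ ¬ A ≤ Q
  el : ∀ z ∈ cen S, z ^ p = 1

/-! ## Transport -/

section map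

variable {G' : Type*} [Group G'] (f : G →* G') (hf : Function.Injective f)
include hf

theorem map_mem_iff {H : Subgroup G} {x : G} : f x ∈ H.map f ↔ x ∈ H := by
  constructor
  · rintro ⟨y, hy, e⟩
    rwa [← hf e]
  · exact fun h => ⟨x, h, rfl⟩

theorem map_cent (S V : Subgroup G) :
    (S ⊓ centralizer (V : Set G)).map f = S.map f ⊓ centralizer (V.map f : Set G') := by
  ext x
  constructor
  · rintro ⟨y, ⟨hy1, hy2⟩, rfl⟩
    refine ⟨⟨y, hy1, rfl⟩, mem_centralizer_iff.mpr ?_⟩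
    rintro _ ⟨z, hz, rfl⟩
    rw [← map_mul, ← map_mul, mem_centralizer_iff.mp hy2 z hz]
  · rintro ⟨⟨y, hy, rfl⟩, h⟩
    refine ⟨y, ⟨hy, mem_centralizer_iff.mpr ?_⟩, rfl⟩
    intro z hz
    apply hf
    rw [map_mul, map_mul]
    exact mem_centralizer_iff.mp h _ ⟨z, hz, rfl⟩

theorem map_cen (H : Subgroup G) : (cen H).map f = cen (H.map f) := map_cent f hf H H

omit hf in
theorem map_cj (g : G) (H : Subgroup G) : (cj g H).map f = cj (f g) (H.map f) := by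
  unfold cj
  rw [Subgroup.map_map, Subgroup.map_map]
  congr 1
  ext x
  simp

theorem card_map' (H : Subgroup G) : Nat.card (H.map f) = Nat.card H :=
  Nat.card_congr (H.equivMapOfInjective f hf).symm.toEquiv

theorem map_largeAb {S A : Subgroup G} (h : LargeAb S A) : LargeAb (S.map f) (A.map f) := by
  refine ⟨Subgroup.map_mono h.le, ?_, ?_⟩
  · rintro _ ⟨x, hx, rfl⟩ _ ⟨y, hy, rfl⟩
    rw [← map_mul, ← map_mul, h.comm x hx y hy]
  · intro B hB hBc
    have hB' : B = (B.comap f).map f := by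
      symm
      apply Subgroup.map_comap_eq_self
      refine hB.trans ?_
      rintro _ ⟨x, _, rfl⟩
      exact ⟨x, rfl⟩
    rw [hB', card_map' f hf, card_map' f hf]
    apply h.max
    · intro x hx
      exact (map_mem_iff f hf).mp (hB hx)
    · intro x hx y hy
      apply hf
      rw [map_mul, map_mul]
      exact hBc _ hx _ hy

theorem Loc.map {p q : ℕ} {S L Q V C M : Subgroup G} (c : Loc p q S L Q V C M) :
    Loc p q (S.map f) (L.map f) (Q.map f) (V.map f) (C.map f) (M.map f) := by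
  have hcm : ∀ y s, cm (f y) (f s) = f (cm y s) := by
    intro y s
    simp [cm]
  refine ⟨?_, Subgroup.map_mono c.SL, c.pg.map f, ?_, Subgroup.map_mono c.QS, ?_, ?_, ?_, ?_,
    Subgroup.map_mono c.SM, Subgroup.map_mono c.ML, ?_, ?_, ?_, ?_, ?_, ?_, ?_, ?_, ?_, ?_⟩
  · haveI := c.fin
    exact Finite.of_equiv _ (L.equivMapOfInjective f hf).toEquiv
  · rw [relIndex_map_map_of_injective _ _ hf]
    exact c.idx
  · rintro _ ⟨g, hg, rfl⟩
    rw [← map_cj, c.Qn g hg]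
  · rw [← map_cen f hf, c.Vd]
  · rw [← map_cent f hf, c.cV]
  · rw [← map_cen f hf, ← map_cent f hf, c.Cd]
  · obtain ⟨g, hg, hgM⟩ := c.ex
    exact ⟨f g, ⟨g, hg, rfl⟩, fun h => hgM ((map_mem_iff f hf).mp h)⟩
  · rintro _ ⟨g, hg, rfl⟩ hgM
    rw [← map_cj, ← Subgroup.map_sup, c.gen g hg (fun h => hgM ⟨g, h, rfl⟩)]
  · rintro _ ⟨g, hg, rfl⟩ hgM _ ⟨s, hs, rfl⟩ hsQ
    rw [← map_inv, ← map_mul, ← map_mul, map_mem_iff f hf]
    exact c.ti g hg (fun h => hgM ⟨g, h, rfl⟩) s hs (fun h => hsQ ⟨s, h, rfl⟩)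
  · rintro _ ⟨y, hy, rfl⟩ _ ⟨s, hs, rfl⟩
    rw [hcm, ← map_cen f hf]
    exact ⟨_, c.quad y hy s hs, rfl⟩
  · rintro _ ⟨s, hs, rfl⟩ hsQ _ ⟨y, hy, rfl⟩ h
    rw [hcm, map_mem_iff f hf] at h
    rw [← map_cen f hf]
    exact ⟨y, c.cmc s hs (fun h => hsQ ⟨s, h, rfl⟩) y hy h, rfl⟩
  · rw [card_map' f hf, card_map' f hf, c.cardS]
  · rw [← map_cen f hf, card_map' f hf, card_map' f hf, c.cardV]
  · rw [← map_cen f hf, card_map' f hf, card_map' f hf, c.cardZ]
  · obtain ⟨A, hA, hAQ⟩ := c.big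
    refine ⟨A.map f, map_largeAb f hf hA, fun h => hAQ ?_⟩
    intro x hx
    exact (map_mem_iff f hf).mp (h ⟨x, hx, rfl⟩)
  · rw [← map_cen f hf]
    rintro _ ⟨z, hz, rfl⟩
    rw [← map_pow, c.el z hz, map_one]

end map

namespace Loc

variable {p q : ℕ} {S L Q V C M : Subgroup G}

theorem cj' (c : Loc p q S L Q V C M) (g : G) :
    Loc p q (cj g S) (cj g L) (cj g Q) (cj g V) (cj g C) (cj g M) :=
  c.map (MulAut.conj g).toMonoidHom (MulAut.conj g).injective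

variable (c : Loc p q S L Q V C M)
include c

theorem finS : Finite S := by
  haveI := c.fin
  exact fin_le c.SL

theorem finQ : Finite Q := by
  haveI := c.finS
  exact fin_le c.QS

theorem VQ : V ≤ Q := by rw [c.Vd]; exact Push.cen_le Q

theorem VS : V ≤ S := c.VQ.trans c.QS

theorem finV : Finite V := by
  haveI := c.finS
  exact fin_le c.VS

theorem finZ : Finite (cen S) := by
  haveI := c.finS
  exact fin_le (Push.cen_le S)

theorem QL : Q ≤ L := c.QS.trans c.SL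

theorem VL : V ≤ L := c.VS.trans c.SL

theorem ZS : cen S ≤ S := Push.cen_le S

theorem VQc : Cm V Q := by
  rw [c.Vd]
  exact Cm.cen_le

theorem Vab : Cm V V := c.VQc.mono le_rfl c.VQ

theorem ZV : cen S ≤ V := by
  intro z hz
  have h1 : z ∈ Q := by
    rw [← c.cV]
    refine ⟨c.ZS hz, mem_centralizer_iff.mpr ?_⟩
    intro y hy
    exact cen_comm hz (c.VS hy)
  rw [c.Vd]
  refine ⟨h1, mem_centralizer_iff.mpr ?_⟩
  intro y hy
  exact cen_comm hz (c.QS hy)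

theorem ZQ : cen S ≤ Q := c.ZV.trans c.VQ

theorem Vn : ∀ g ∈ L, cj g V = V := by
  intro g hg
  rw [c.Vd, cj_cen, c.Qn g hg]

theorem CZ : C ≤ cen S := by rw [c.Cd]; exact inf_le_left

theorem CV : C ≤ V := c.CZ.trans c.ZV

theorem CL : Cm C L := by
  rw [cm_iff_le, c.Cd]
  exact inf_le_right

theorem ZScm : Cm (cen S) S := Cm.cen_le

theorem mem_C {x : G} (h1 : x ∈ cen S) (h2 : ∀ g ∈ L, g * x = x * g) : x ∈ C := by
  rw [c.Cd]
  exact ⟨h1, mem_centralizer_iff.mpr h2⟩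

theorem Cn : ∀ g ∈ L, cj g C = C := fun g hg => c.CL.symm.cj_eq g hg

theorem cj_le_C {g : G} (hg : g ∈ L) {X : Subgroup G} (hX : X ≤ C) : cj g X = X :=
  (c.CL.mono hX le_rfl).symm.cj_eq g hg

/-- `Q` is the centraliser of `V` in `S`. -/
theorem mem_Q {x : G} (hx : x ∈ S) (h : ∀ y ∈ V, y * x = x * y) : x ∈ Q := by
  rw [← c.cV]
  exact ⟨hx, mem_centralizer_iff.mpr h⟩

theorem le_Q {X : Subgroup G} (hX : X ≤ S) (h : Cm V X) : X ≤ Q :=
  fun x hx => c.mem_Q (hX hx) fun y hy => h y hy x hx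

theorem Sg : ∀ s ∈ S, cj s S = S := fun s hs => cj_of_mem hs

theorem one_lt_q : 0 < q := by
  rcases Nat.eq_zero_or_pos q with h | h
  · have h1 := c.cardS
    rw [h, zero_mul] at h1
    haveI := c.finS
    have : 0 < Nat.card S := Nat.card_pos
    omega
  · exact h

theorem cj_mem {g x : G} (hg : g ∈ L) {X : Subgroup G} (hX : ∀ g ∈ L, cj g X = X) (hx : x ∈ X) :
    g * x * g⁻¹ ∈ X := by
  have := conj_mem_cj (g := g) hx
  rwa [hX g hg] at this

/-- elements of `Z^a ∩ Z^b`, `a⁻¹ b ∉ M`. -/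
theorem two {a b x : G} (ha : a ∈ L) (hb : b ∈ L) (hab : a⁻¹ * b ∉ M) (h1 : x ∈ cj a (cen S))
    (h2 : x ∈ cj b (cen S)) : x ∈ C := by
  have h3 : cj a S ⊔ cj b S = L := by
    have h4 := c.gen _ (L.mul_mem (L.inv_mem ha) hb) hab
    have h5 : cj a (S ⊔ cj (a⁻¹ * b) S) = cj a L := by rw [h4]
    rw [cj_sup, cj_mul, mul_inv_cancel_left, cj_of_mem ha] at h5
    exact h5
  have h6 : cj a S ⊔ cj b S ≤ centralizer ({x} : Set G) := by
    rw [cj_cen] at h1 h2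
    apply sup_le
    · intro z hz
      rw [mem_centralizer_singleton_iff]
      exact cen_comm h1 hz
    · intro z hz
      rw [mem_centralizer_singleton_iff]
      exact cen_comm h2 hz
  rw [h3] at h6
  refine c.mem_C ?_ (fun g hg => mem_centralizer_singleton_iff.mp (h6 hg))
  have h7 : a * x = x * a := mem_centralizer_singleton_iff.mp (h6 ha)
  rw [mem_cj] at h1
  have : a⁻¹ * x * a = x := by
    rw [mul_assoc, ← h7, ← mul_assoc, inv_mul_cancel, one_mul]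
  rwa [this] at h1

theorem two' {g x : G} (hg : g ∈ L) (hgM : g ∉ M) (h1 : x ∈ cen S) (h2 : x ∈ cj g (cen S)) : x ∈ C :=
  c.two (a := 1) (b := g) L.one_mem hg (by simpa using hgM) (by rwa [cj_one]) h2

theorem C_cj {g : G} (hg : g ∈ L) : C ≤ cj g (cen S) := by
  have := cj_mono (g := g) c.CZ
  rwa [c.Cn g hg] at this

theorem infZ {g : G} (hg : g ∈ L) (hgM : g ∉ M) : cen S ⊓ cj g (cen S) = C :=
  le_antisymm (fun x hx => c.two' hg hgM hx.1 hx.2) (le_inf c.CZ (c.C_cj hg))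

theorem cjZV {g : G} (hg : g ∈ L) : cj g (cen S) ≤ V := by
  have := cj_mono (g := g) c.ZV
  rwa [c.Vn g hg] at this

theorem supZ {g : G} (hg : g ∈ L) (hgM : g ∉ M) : cen S ⊔ cj g (cen S) = V := by
  haveI := c.finV
  apply eq_of_card (sup_le c.ZV (c.cjZV hg))
  have h1 : Cm (cen S) (cj g (cen S)) := c.Vab.mono c.ZV (c.cjZV hg)
  have h2 := h1.card_mul
  rw [c.infZ hg hgM, card_cj] at h2
  haveI := c.finZ
  haveI : Finite C := fin_le c.CZ
  have hpos : 0 < Nat.card C := Nat.card_pos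
  have h3 : Nat.card V * Nat.card C = Nat.card (cen S) * Nat.card (cen S) := by
    rw [c.cardV]
    conv_rhs => arg 1; rw [c.cardZ]
    ring
  rw [← h2] at h3
  exact (Nat.eq_of_mul_eq_mul_right hpos h3).le

theorem dec {g v : G} (hg : g ∈ L) (hgM : g ∉ M) (hv : v ∈ V) :
    ∃ z ∈ cen S, ∃ y ∈ cj g (cen S), z * y = v := by
  rw [← c.supZ hg hgM] at hv
  exact Cm.mem_sup (c.Vab.mono c.ZV (c.cjZV hg)) hv

theorem elV (v : G) (hv : v ∈ V) : v ^ p = 1 := by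
  obtain ⟨g, hg, hgM⟩ := c.ex
  obtain ⟨z, hz, y, hy, rfl⟩ := c.dec hg hgM hv
  have h1 : Commute z y := c.Vab z (c.ZV hz) y (c.cjZV hg hy)
  rw [h1.mul_pow, c.el z hz, one_mul]
  rw [mem_cj] at hy
  have h2 := c.el _ hy
  have h3 : (g⁻¹ * y * g) ^ p = g⁻¹ * y ^ p * g := by
    have := conj_pow (i := p) (a := g⁻¹) (b := y)
    rwa [inv_inv] at this
  rw [h3] at h2
  have : y ^ p = g * (g⁻¹ * y ^ p * g) * g⁻¹ := by group
  rw [this, h2]
  group

theorem fix {s y : G} (hs : s ∈ S) (hsQ : s ∉ Q) (hy : y ∈ V) (h : s * y = y * s) : y ∈ cen S := by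
  apply c.cmc s hs hsQ y hy
  unfold cm
  rw [h]
  have : y * s * s⁻¹ * y⁻¹ = 1 := by group
  rw [this]
  exact C.one_mem

/-- an `L`-invariant subgroup of `Z` lies in `C`. -/
theorem le_C {X : Subgroup G} (hX : X ≤ cen S) (h : ∀ g ∈ L, cj g X = X) : X ≤ C := by
  obtain ⟨g, hg, hgM⟩ := c.ex
  intro x hx
  apply c.two' hg hgM (hX hx)
  have h1 : cj g X ≤ cj g (cen S) := cj_mono hX
  rw [h g hg] at h1
  exact h1 hx

theorem VS_le : ⁅V, S⁆ ≤ cen S := by
  rw [Subgroup.commutator_le]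
  intro v hv s hs
  have h1 : ⁅v, s⁆ = (cm v s)⁻¹ := by
    unfold cm; rw [commutatorElement_def]; group
  rw [h1]
  exact inv_mem (c.quad v hv s hs)

theorem cm_mem_R {v s : G} (hv : v ∈ V) (hs : s ∈ S) : cm v s ∈ ⁅V, S⁆ := by
  have h1 : cm v s = ⁅v, s⁆⁻¹ := by
    unfold cm; rw [commutatorElement_def]; group
  rw [h1]
  exact inv_mem (commutator_mem_commutator hv hs)

theorem cjV_mem {g v : G} (hg : g ∈ L) (hv : v ∈ V) : g * v * g⁻¹ ∈ V := c.cj_mem hg c.Vn hv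

theorem cm_mem_V {g v : G} (hg : g ∈ L) (hv : v ∈ V) : cm v g ∈ V := by
  unfold cm
  exact V.mul_mem (c.cjV_mem hg hv) (V.inv_mem hv)

/-- `s ↦ [v,s]` is a homomorphism on `S`. -/
theorem cm_mul {v s t : G} (hv : v ∈ V) (hs : s ∈ S) (ht : t ∈ S) : cm v (s * t) = cm v s * cm v t := by
  have h1 : cm v (s * t) = s * cm v t * s⁻¹ * cm v s := by
    unfold cm; group
  have h2 : s * cm v t = cm v t * s := cen_comm (c.quad v hv t ht) hs
  rw [h1, h2]
  have e : cm v t * s * s⁻¹ * cm v s = cm v t * cm v s := by group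
  rw [e]
  exact cen_comm (c.quad v hv s hs) (c.ZS (c.quad v hv t ht))

theorem cm_inv {v s : G} (hv : v ∈ V) (hs : s ∈ S) : cm v s⁻¹ = (cm v s)⁻¹ := by
  have h9 := c.cm_mul hv (S.inv_mem hs) hs
  rw [inv_mul_cancel] at h9
  have h10 : cm v 1 = 1 := by simp [cm]
  rw [h10] at h9
  exact eq_inv_of_mul_eq_one_left h9.symm

/-- `v ↦ [v,s]` is a homomorphism on `V`. -/
theorem cm_mul' {v w s : G} (hv : v ∈ V) (hw : w ∈ V) (hs : s ∈ S) : cm (v * w) s = cm v s * cm w s := by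
  have h1 : cm (v * w) s = (s * v * s⁻¹) * (cm w s) * v⁻¹ := by
    unfold cm; group
  have h2 : cm w s * v⁻¹ = v⁻¹ * cm w s :=
    c.Vab _ (c.ZV (c.quad w hw s hs)) _ (V.inv_mem hv)
  rw [h1, mul_assoc, h2]
  unfold cm
  group

/-- For `v ∈ V - Z` every element of `Z` is `[v,s]` modulo `C`. -/
theorem surj {v z : G} (hv : v ∈ V) (hvZ : v ∉ cen S) (hz : z ∈ cen S) :
    ∃ s ∈ S, ∃ d ∈ C, cm v s * d = z := by
  haveI := c.finS
  haveI := c.finZ
  haveI : Finite C := fin_le c.CZ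
  -- the image of `s ↦ [v,s]` as a subgroup
  let f : S →* cen S :=
    { toFun := fun s => ⟨cm v s, c.quad v hv s s.2⟩
      map_one' := by apply Subtype.ext; simp [cm]
      map_mul' := fun s t => Subtype.ext (c.cm_mul hv s.2 t.2) }
  let B : Subgroup G := (f.range.map (cen S).subtype)
  have hB : ∀ b, b ∈ B ↔ ∃ s ∈ S, cm v s = b := by
    intro b
    constructor
    · rintro ⟨_, ⟨s, rfl⟩, rfl⟩
      exact ⟨s, s.2, rfl⟩
    · rintro ⟨s, hs, rfl⟩
      exact ⟨_, ⟨⟨s, hs⟩, rfl⟩, rfl⟩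
  have hBZ : B ≤ cen S := by
    intro b hb
    obtain ⟨s, hs, rfl⟩ := (hB b).mp hb
    exact c.quad v hv s hs
  haveI : Finite B := fin_le hBZ
  haveI : Finite (B ⊔ C : Subgroup G) := fin_le (sup_le hBZ c.CZ)
  have hcm : Cm B C := fun x hx y hy => cen_comm (c.CZ hy) (c.ZS (hBZ hx))
  -- the kernel of `f` modulo `C` is `Q`
  have hq : q ≤ C.relIndex (B ⊔ C) := by
    have h3 : Q.relIndex S = q := by
      have h2 := card_mul_relIndex c.QS
      rw [c.cardS, mul_comm q] at h2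
      haveI := c.finQ
      exact Nat.eq_of_mul_eq_mul_left Nat.card_pos h2
    rw [← h3]
    unfold relIndex index
    let g : S → (B ⊔ C : Subgroup G) := fun s => ⟨cm v s, mem_sup_left ((hB _).mpr ⟨s, s.2, rfl⟩)⟩
    let φ : (S ⧸ Q.subgroupOf S) → ((B ⊔ C : Subgroup G) ⧸ C.subgroupOf (B ⊔ C)) :=
      fun x => QuotientGroup.mk (g x.out)
    apply Nat.card_le_card_of_injective φ
    intro x x' hxx
    have h4 : (g x.out)⁻¹ * g x'.out ∈ C.subgroupOf (B ⊔ C) := QuotientGroup.eq.mp hxx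
    rw [mem_subgroupOf] at h4
    set s : S := x.out with hs
    set s' : S := x'.out with hs'
    have h5 : (cm v s)⁻¹ * cm v s' ∈ C := h4
    have h6 : (s : G)⁻¹ * s' ∈ Q := by
      by_contra hsQ
      apply hvZ
      apply c.cmc _ (S.mul_mem (S.inv_mem s.2) s'.2) hsQ v hv
      rw [c.cm_mul hv (S.inv_mem s.2) s'.2, c.cm_inv hv s.2]
      exact h5
    have h7 : (QuotientGroup.mk s : S ⧸ Q.subgroupOf S) = QuotientGroup.mk s' := by
      rw [QuotientGroup.eq, mem_subgroupOf]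
      exact h6
    have e1 : (QuotientGroup.mk s : S ⧸ Q.subgroupOf S) = x := Quotient.out_eq x
    have e2 : (QuotientGroup.mk s' : S ⧸ Q.subgroupOf S) = x' := Quotient.out_eq x'
    rw [← e1, ← e2, h7]
  have h9 : B ⊔ C = cen S := by
    apply eq_of_card (sup_le hBZ c.CZ)
    have h10 : Nat.card C * C.relIndex (B ⊔ C) = Nat.card (B ⊔ C : Subgroup G) :=
      card_mul_relIndex le_sup_right
    rw [← h10, c.cardZ, mul_comm q]
    gcongr
  rw [← h9] at hz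
  obtain ⟨b, hb, d, hd, e⟩ := hcm.mem_sup hz
  obtain ⟨s, hs, rfl⟩ := (hB b).mp hb
  exact ⟨s, hs, d, hd, e⟩

theorem ZneV : ∃ v ∈ V, v ∉ cen S := by
  by_contra h
  push Not at h
  have h1 : V ≤ cen S := h
  obtain ⟨A, hA, hAQ⟩ := c.big
  apply hAQ
  refine hA.le.trans ?_
  intro s hs
  exact c.mem_Q hs fun y hy => (cen_comm (h1 hy) hs).symm

theorem SneQ : ∃ s ∈ S, s ∉ Q := by
  by_contra h
  push Not at h
  obtain ⟨A, hA, hAQ⟩ := c.big
  exact hAQ (hA.le.trans h)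

theorem R_sup_C : ⁅V, S⁆ ⊔ C = cen S := by
  apply le_antisymm (sup_le c.VS_le c.CZ)
  intro z hz
  obtain ⟨v, hv, hvZ⟩ := c.ZneV
  obtain ⟨s, hs, d, hd, e⟩ := c.surj hv hvZ hz
  rw [← e]
  exact mul_mem (mem_sup_left (c.cm_mem_R hv hs)) (mem_sup_right hd)

theorem R_not_le_C : ¬ ⁅V, S⁆ ≤ C := by
  intro h
  obtain ⟨v, hv, hvZ⟩ := c.ZneV
  obtain ⟨s, hs, hsQ⟩ := c.SneQ
  exact hvZ (c.cmc s hs hsQ v hv (h (c.cm_mem_R hv hs)))

theorem cover {g w : G} (hg : g ∈ L) (hgM : g ∉ M) (hw : w ∈ V) (hwZ : w ∉ cen S) :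
    ∃ s ∈ S, w ∈ cj (s * g) (cen S) := by
  obtain ⟨z, hz, y, hy, rfl⟩ := c.dec hg hgM hw
  have hyV := c.cjZV hg hy
  have hyZ : y ∉ cen S := fun h => hwZ (mul_mem hz h)
  obtain ⟨s, hs, d, hd, e⟩ := c.surj hyV hyZ hz
  refine ⟨s, hs, ?_⟩
  have h1 : z * y = (s * y * s⁻¹) * d := by
    rw [← e]
    have h2 : d * y = y * d := c.Vab d (c.CV hd) y hyV
    rw [mul_assoc, h2]
    unfold cm
    group
  rw [h1]
  apply mul_mem
  · rw [← cj_mul]
    exact conj_mem_cj hy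
  · exact c.C_cj (L.mul_mem (c.SL hs) hg) hd

theorem MZ : ∀ m ∈ M, cj m (cen S) = cen S := by
  intro m hm
  haveI := c.finZ
  apply cj_eq_of_le
  intro x hx
  by_contra hxZ
  obtain ⟨g, hg, hgM⟩ := c.ex
  have hmL := c.ML hm
  obtain ⟨s, hs, h1⟩ := c.cover hg hgM (c.cjZV hmL hx) hxZ
  apply hxZ
  apply c.CZ
  apply c.two hmL (L.mul_mem (c.SL hs) hg) _ hx h1
  intro h2
  apply hgM
  have h3 := M.mul_mem (M.mul_mem (M.inv_mem (c.SM hs)) hm) h2
  have e : s⁻¹ * m * (m⁻¹ * (s * g)) = g := by group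
  rwa [e] at h3

theorem Z_ne_C : ¬ cen S ≤ C := by
  intro h
  exact c.R_not_le_C (c.VS_le.trans h)

theorem mem_M_of {g : G} (hg : g ∈ L) (h : cj g (cen S) = cen S) : g ∈ M := by
  by_contra hgM
  apply c.Z_ne_C
  rw [← c.infZ hg hgM, h, inf_idem]

/-- If `R ≤ Z^g` then `g ∈ M`. -/
theorem mem_M_of_R {g : G} (hg : g ∈ L) (h : cj g ⁅V, S⁆ ≤ cen S) : g ∈ M := by
  apply c.mem_M_of hg
  haveI := c.finZ
  apply cj_eq_of_le
  rw [← c.R_sup_C, cj_sup, c.Cn g hg]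
  refine sup_le ?_ le_sup_right
  refine h.trans ?_
  rw [c.R_sup_C]

/-- the large abelian subgroups outside `Q`. -/
theorem large {A : Subgroup G} (hA : LargeAb S A) (hAQ : ¬ A ≤ Q) :
    A ⊔ Q = S ∧ A ⊓ V = cen S ∧ LargeAb S ((A ⊓ Q) ⊔ V) := by
  haveI := c.finS
  haveI := c.finQ
  haveI := c.finV
  haveI : Finite A := fin_le hA.le
  obtain ⟨a, ha, haQ⟩ := SetLike.not_le_iff_exists.mp hAQ
  have h1 : A ⊓ V = cen S := by
    apply le_antisymm
    · rintro x ⟨hx, hxV⟩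
      exact c.fix (hA.le ha) haQ hxV (hA.comm a ha x hx)
    · exact le_inf (LargeAb.cenS_le' hA) c.ZV
  have hcm : Cm (A ⊓ Q) V := c.VQc.symm.mono inf_le_right le_rfl
  have h2 := hcm.card_mul
  have e1 : A ⊓ Q ⊓ V = cen S := by
    rw [inf_assoc, inf_eq_right.mpr c.VQ, h1]
  rw [e1, c.cardV] at h2
  haveI := c.finZ
  have hZpos : 0 < Nat.card (cen S) := Nat.card_pos
  have h3 : Nat.card (A ⊓ Q ⊔ V : Subgroup G) = q * Nat.card (A ⊓ Q : Subgroup G) := by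
    apply Nat.eq_of_mul_eq_mul_right hZpos
    rw [h2]; ring
  have h4 : Nat.card (A ⊔ Q : Subgroup G) * Nat.card (A ⊓ Q : Subgroup G) = Nat.card A * Nat.card Q :=
    card_mul_norm fun k hk => c.Qn k (c.SL (hA.le hk))
  have hsub : A ⊔ Q ≤ S := sup_le hA.le c.QS
  have h5 : Nat.card (A ⊔ Q : Subgroup G) ≤ Nat.card S := card_mono' hsub
  have habs : ∀ x ∈ A ⊓ Q ⊔ V, ∀ y ∈ A ⊓ Q ⊔ V, x * y = y * x :=
    comm_sup (fun x hx y hy => hA.comm x hx.1 y hy.1) c.Vab hcm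
  have hle : A ⊓ Q ⊔ V ≤ S := sup_le (inf_le_left.trans hA.le) c.VS
  have h6 : Nat.card (A ⊓ Q ⊔ V : Subgroup G) ≤ Nat.card A := hA.max _ hle habs
  have hQpos : 0 < Nat.card Q := Nat.card_pos
  haveI : Finite (A ⊓ Q : Subgroup G) := fin_le inf_le_left
  have hIpos : 0 < Nat.card (A ⊓ Q : Subgroup G) := Nat.card_pos
  have h7 : Nat.card A ≤ q * Nat.card (A ⊓ Q : Subgroup G) := by
    rw [c.cardS] at h5
    have : Nat.card A * Nat.card Q ≤ q * Nat.card (A ⊓ Q : Subgroup G) * Nat.card Q := by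
      rw [← h4]
      calc _ ≤ q * Nat.card Q * Nat.card (A ⊓ Q : Subgroup G) := by gcongr
        _ = _ := by ring
    exact Nat.le_of_mul_le_mul_right this hQpos
  refine ⟨?_, h1, LargeAb.of_card hA hle habs (by rw [h3]; exact h7)⟩
  apply eq_of_card hsub
  rw [c.cardS]
  have h8 : Nat.card A = q * Nat.card (A ⊓ Q : Subgroup G) := le_antisymm h7 (by rw [← h3]; exact h6)
  rw [h8] at h4
  have : q * Nat.card Q * Nat.card (A ⊓ Q : Subgroup G) ≤
      Nat.card (A ⊔ Q : Subgroup G) * Nat.card (A ⊓ Q : Subgroup G) := by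
    rw [h4]
    exact le_of_eq (by ring)
  exact Nat.le_of_mul_le_mul_right this hIpos

/-- **The critical pair lemma.** -/
theorem crit {q' : ℕ} {S' L' Q' V' C' M' : Subgroup G} (c' : Loc p q' S' L' Q' V' C' M')
    (h1 : V ≤ S') (h2 : V' ≤ S) (hnc : ¬ Cm V V') :
    q = q' ∧ V' ⊔ Q = S ∧ V ⊔ Q' = S' ∧ V' ⊓ Q = cen S' ∧ V ⊓ Q' = cen S ∧
      ⁅V, V'⁆ = ⁅V, S⁆ ∧ ⁅V', S'⁆ = ⁅V, S⁆ := by
  haveI := c.finS
  haveI := c'.finS
  haveI := c.finQ
  haveI := c'.finQ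
  haveI := c.finV
  haveI := c'.finV
  haveI := c.finZ
  haveI := c'.finZ
  have hV'Q : ¬ V' ≤ Q := fun h => hnc (c.VQc.mono le_rfl h)
  have hVQ' : ¬ V ≤ Q' := fun h => hnc (c'.VQc.mono le_rfl h).symm
  have key : ∀ {q q' : ℕ} {S L Q V C M S' L' Q' V' C' M' : Subgroup G} (c : Loc p q S L Q V C M)
      (c' : Loc p q' S' L' Q' V' C' M'), V ≤ S' → V' ≤ S → ¬ V' ≤ Q → V ⊓ Q' = cen S := by
    intro q q' S L Q V C M S' L' Q' V' C' M' c c' h1 h2 h3
    obtain ⟨b, hb, hbQ⟩ := SetLike.not_le_iff_exists.mp h3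
    apply le_antisymm
    · rintro x ⟨hx, hxQ⟩
      exact c.fix (h2 hb) hbQ hx (c'.VQc b hb x hxQ)
    · apply le_inf c.ZV
      apply c'.le_Q (c.ZV.trans h1)
      intro x hx y hy
      exact cen_comm hy (h2 hx)
  have e1 : V ⊓ Q' = cen S := key c c' h1 h2 hV'Q
  have e2 : V' ⊓ Q = cen S' := key c' c h2 h1 hVQ'
  have hn1 : ∀ k ∈ V, cj k Q' = Q' := fun k hk => c'.Qn k (c'.SL (h1 hk))
  have hn2 : ∀ k ∈ V', cj k Q = Q := fun k hk => c.Qn k (c.SL (h2 hk))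
  have f1 := card_mul_norm hn1
  have f2 := card_mul_norm hn2
  rw [e1, c.cardV] at f1
  rw [e2, c'.cardV] at f2
  have hZ : 0 < Nat.card (cen S) := Nat.card_pos
  have hZ' : 0 < Nat.card (cen S') := Nat.card_pos
  have hQ : 0 < Nat.card Q := Nat.card_pos
  have hQ' : 0 < Nat.card Q' := Nat.card_pos
  have g1 : Nat.card (V ⊔ Q' : Subgroup G) = q * Nat.card Q' := by
    apply Nat.eq_of_mul_eq_mul_right hZ
    rw [f1]; ring
  have g2 : Nat.card (V' ⊔ Q : Subgroup G) = q' * Nat.card Q := by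
    apply Nat.eq_of_mul_eq_mul_right hZ'
    rw [f2]; ring
  have l1 : V ⊔ Q' ≤ S' := sup_le h1 c'.QS
  have l2 : V' ⊔ Q ≤ S := sup_le h2 c.QS
  have i1 : q ≤ q' := by
    have := card_mono' l1
    rw [g1, c'.cardS] at this
    exact Nat.le_of_mul_le_mul_right this hQ'
  have i2 : q' ≤ q := by
    have := card_mono' l2
    rw [g2, c.cardS] at this
    exact Nat.le_of_mul_le_mul_right this hQ
  have hq : q = q' := le_antisymm i1 i2
  have s1 : V ⊔ Q' = S' := eq_of_card l1 (by rw [g1, c'.cardS, hq])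
  have s2 : V' ⊔ Q = S := eq_of_card l2 (by rw [g2, c.cardS, hq])
  have r1 : ⁅V, V'⁆ = ⁅V, S⁆ := by
    apply le_antisymm (commutator_mono le_rfl h2)
    rw [Subgroup.commutator_le]
    intro v hv s hs
    rw [← s2] at hs
    obtain ⟨b, hb, t, ht, rfl⟩ := mem_sup_of_norm hn2 hs
    have : ⁅v, b * t⁆ = ⁅v, b⁆ := by
      rw [commutatorElement_def, commutatorElement_def]
      have h3 : t * v⁻¹ = v⁻¹ * t := (c.VQc _ (V.inv_mem hv) t ht).symm
      calc v * (b * t) * v⁻¹ * (b * t)⁻¹ = v * b * (t * v⁻¹) * t⁻¹ * b⁻¹ := by group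
        _ = v * b * v⁻¹ * b⁻¹ := by rw [h3]; group
    rw [this]
    exact commutator_mem_commutator hv hb
  have r2 : ⁅V', V⁆ = ⁅V', S'⁆ := by
    apply le_antisymm (commutator_mono le_rfl h1)
    rw [Subgroup.commutator_le]
    intro v hv s hs
    rw [← s1] at hs
    obtain ⟨b, hb, t, ht, rfl⟩ := mem_sup_of_norm hn1 hs
    have : ⁅v, b * t⁆ = ⁅v, b⁆ := by
      rw [commutatorElement_def, commutatorElement_def]
      have h3 : t * v⁻¹ = v⁻¹ * t := (c'.VQc _ (V'.inv_mem hv) t ht).symm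
      calc v * (b * t) * v⁻¹ * (b * t)⁻¹ = v * b * (t * v⁻¹) * t⁻¹ * b⁻¹ := by group
        _ = v * b * v⁻¹ * b⁻¹ := by rw [h3]; group
    rw [this]
    exact commutator_mem_commutator hv hb
  refine ⟨hq, s2, s1, e2, e1, r1, ?_⟩
  rw [← r2, commutator_comm, r1]

end Loc

end Cfsg.Agent.H260.GN
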