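import Cfsg.Agent.H260.GN9
import Cfsg.Agent.H260.Push6

/-!
# Glauberman-Niles, part 10: the subgroup `S₀`
-/

set_option autoImplicit false
set_option linter.unusedSectionVars false
set_option linter.unusedVariables false
set_option linter.style.haveILetI false

namespace Cfsg.Agent.H260.GN

open Subgroup Push
open scoped commutatorElement

variable {G : Type*} [Group G]

/-- the subgroup `S₀` of Glauberman and Niles. -/
def s0 (p : ℕ) (X : Subgroup G) : Subgroup G :=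
  if p = 2 then ⁅phi p X, X⁆ ⊔ phi p (phi p X)
  else if p = 3 then ⁅⁅phi p X, X⁆, X⁆ ⊔ phi p (phi p X)
  else ⁅phi p X, X⁆ ⊔ Cfsg.powerClosure p 1 X

theorem pc_mono {p : ℕ} {A B : Subgroup G} (h : A ≤ B) : Cfsg.powerClosure p 1 A ≤ Cfsg.powerClosure p 1 B := by
  unfold Cfsg.powerClosure
  apply Subgroup.closure_mono
  rintro _ ⟨x, hx, rfl⟩
  exact ⟨x, h hx, rfl⟩

theorem pc_map {G' : Type*} [Group G'] (f : G →* G') (p : ℕ) (R : Subgroup G) :
    (Cfsg.powerClosure p 1 R).map f = Cfsg.powerClosure p 1 (R.map f) := by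
  unfold Cfsg.powerClosure
  rw [MonoidHom.map_closure]
  congr 1
  ext z
  constructor
  · rintro ⟨_, ⟨x, hx, rfl⟩, rfl⟩
    exact ⟨f x, ⟨x, hx, rfl⟩, map_pow _ _ _⟩
  · rintro ⟨_, ⟨x, hx, rfl⟩, rfl⟩
    exact ⟨_, ⟨x, hx, rfl⟩, map_pow _ _ _⟩

theorem comm_self_le {A B X : Subgroup G} (hA : A ≤ X) (hB : B ≤ X) : ⁅A, B⁆ ≤ X := by
  rw [Subgroup.commutator_le]
  intro a ha b hb
  rw [commutatorElement_def]
  exact mul_mem (mul_mem (mul_mem (hA ha) (hB hb)) (inv_mem (hA ha))) (inv_mem (hB hb))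

theorem pc_le {p : ℕ} {A : Subgroup G} : Cfsg.powerClosure p 1 A ≤ A := by
  unfold Cfsg.powerClosure
  rw [closure_le]
  rintro _ ⟨x, hx, rfl⟩
  exact pow_mem hx _

theorem s0_le {p : ℕ} {X : Subgroup G} : s0 p X ≤ X := by
  have h1 := phi_le p X
  unfold s0
  split_ifs
  · exact sup_le (comm_self_le h1 le_rfl) ((phi_le p _).trans h1)
  · exact sup_le (comm_self_le (comm_self_le h1 le_rfl) le_rfl) ((phi_le p _).trans h1)
  · exact sup_le (comm_self_le h1 le_rfl) pc_le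

theorem s0_mono {p : ℕ} {A B : Subgroup G} (h : A ≤ B) : s0 p A ≤ s0 p B := by
  have h1 := phi_mono (p := p) h
  unfold s0
  split_ifs
  · exact sup_le_sup (commutator_mono h1 h) (phi_mono h1)
  · exact sup_le_sup (commutator_mono (commutator_mono h1 h) h) (phi_mono h1)
  · exact sup_le_sup (commutator_mono h1 h) (pc_mono h)

theorem s0_map {G' : Type*} [Group G'] (f : G →* G') (p : ℕ) (R : Subgroup G) :
    (s0 p R).map f = s0 p (R.map f) := by
  unfold s0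
  split_ifs
  · rw [Subgroup.map_sup, Subgroup.map_commutator, phi_map, phi_map, phi_map]
  · rw [Subgroup.map_sup, Subgroup.map_commutator, Subgroup.map_commutator, phi_map, phi_map, phi_map]
  · rw [Subgroup.map_sup, Subgroup.map_commutator, phi_map, pc_map]

theorem s0_cj (g : G) (p : ℕ) (R : Subgroup G) : cj g (s0 p R) = s0 p (cj g R) := s0_map _ _ _

/-! ## commuting products -/

theorem comm_elem {a a' b b' : G} (h1 : a * b = b * a) (h2 : a * b' = b' * a) (h3 : a' * b = b * a')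
    (h4 : a' * b' = b' * a') : ⁅a * b, a' * b'⁆ = ⁅a, a'⁆ * ⁅b, b'⁆ := by
  have c1 : a * b * (a' * b') = (a * a') * (b * b') := by
    calc a * b * (a' * b') = a * (b * a') * b' := by group
      _ = a * (a' * b) * b' := by rw [h3]
      _ = _ := by group
  have c2 : a' * b' * (a * b) = (a' * a) * (b' * b) := by
    calc a' * b' * (a * b) = a' * (b' * a) * b := by group
      _ = a' * (a * b') * b := by rw [h2]
      _ = _ := by group
  have c3 : Commute ⁅b, b'⁆ (a' * a)⁻¹ := by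
    apply Commute.inv_right
    rw [commutatorElement_def]
    have e1 : Commute b (a' * a) := Commute.mul_right h3.symm h1.symm
    have e2 : Commute b' (a' * a) := Commute.mul_right h4.symm h2.symm
    exact ((e1.mul_left e2).mul_left e1.inv_left).mul_left e2.inv_left
  rw [commutatorElement_def (a * b)]
  have c5 : a * b * (a' * b') * (a * b)⁻¹ * (a' * b')⁻¹ =
      (a * b * (a' * b')) * (a' * b' * (a * b))⁻¹ := by group
  rw [c5, c1, c2]
  have c6 : a * a' * (b * b') * (a' * a * (b' * b))⁻¹ = a * a' * (⁅b, b'⁆ * (a' * a)⁻¹) := by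
    rw [commutatorElement_def]; group
  rw [c6, c3.eq]
  rw [commutatorElement_def a a']
  group

theorem comm_prod {X Y A B A' B' : Subgroup G} (h : Cm X Y) (hA : A ≤ X) (hA' : A' ≤ X) (hB : B ≤ Y)
    (hB' : B' ≤ Y) : ⁅A ⊔ B, A' ⊔ B'⁆ ≤ ⁅A, A'⁆ ⊔ ⁅B, B'⁆ := by
  rw [Subgroup.commutator_le]
  intro x hx y hy
  obtain ⟨a, ha, b, hb, rfl⟩ := (h.mono hA hB).mem_sup hx
  obtain ⟨a', ha', b', hb', rfl⟩ := (h.mono hA' hB').mem_sup hy
  rw [comm_elem (h a (hA ha) b (hB hb)) (h a (hA ha) b' (hB' hb')) (h a' (hA' ha') b (hB hb))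
    (h a' (hA' ha') b' (hB' hb'))]
  exact mul_mem (mem_sup_left (commutator_mem_commutator ha ha'))
    (mem_sup_right (commutator_mem_commutator hb hb'))

theorem phi_prod {p : ℕ} {A B : Subgroup G} (h : Cm A B) : phi p (A ⊔ B) ≤ phi p A ⊔ phi p B := by
  unfold phi
  rw [closure_le]
  rintro _ (⟨x, hx, y, hy, rfl⟩ | ⟨x, hx, rfl⟩)
  · obtain ⟨a, ha, b, hb, rfl⟩ := h.mem_sup hx
    obtain ⟨a', ha', b', hb', rfl⟩ := h.mem_sup hy
    rw [comm_elem (h a ha b hb) (h a ha b' hb') (h a' ha' b hb) (h a' ha' b' hb')]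
    exact mul_mem (mem_sup_left (comm_mem_phi ha ha')) (mem_sup_right (comm_mem_phi hb hb'))
  · obtain ⟨a, ha, b, hb, rfl⟩ := h.mem_sup hx
    rw [(show Commute a b from h a ha b hb).mul_pow]
    exact mul_mem (mem_sup_left (pow_mem_phi ha)) (mem_sup_right (pow_mem_phi hb))

theorem pc_prod {p : ℕ} {A B : Subgroup G} (h : Cm A B) :
    Cfsg.powerClosure p 1 (A ⊔ B) ≤ Cfsg.powerClosure p 1 A ⊔ Cfsg.powerClosure p 1 B := by
  unfold Cfsg.powerClosure
  rw [closure_le]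
  rintro _ ⟨x, hx, rfl⟩
  obtain ⟨a, ha, b, hb, rfl⟩ := h.mem_sup hx
  rw [(show Commute a b from h a ha b hb).mul_pow]
  exact mul_mem (mem_sup_left (subset_closure ⟨a, ha, rfl⟩)) (mem_sup_right (subset_closure ⟨b, hb, rfl⟩))

theorem s0_prod {p : ℕ} {A B : Subgroup G} (h : Cm A B) : s0 p (A ⊔ B) ≤ s0 p A ⊔ s0 p B := by
  have h1 := phi_prod (p := p) h
  have hA := phi_le p A
  have hB := phi_le p B
  have k1 : ⁅phi p (A ⊔ B), A ⊔ B⁆ ≤ ⁅phi p A, A⁆ ⊔ ⁅phi p B, B⁆ :=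
    (commutator_mono h1 le_rfl).trans (comm_prod h hA le_rfl hB le_rfl)
  have k2 : phi p (phi p (A ⊔ B)) ≤ phi p (phi p A) ⊔ phi p (phi p B) :=
    (phi_mono h1).trans (phi_prod (h.mono hA hB))
  unfold s0
  split_ifs
  · apply sup_le
    · exact k1.trans (sup_le_sup le_sup_left le_sup_left)
    · exact k2.trans (sup_le_sup le_sup_right le_sup_right)
  · apply sup_le
    · have k3 : ⁅⁅phi p (A ⊔ B), A ⊔ B⁆, A ⊔ B⁆ ≤ ⁅⁅phi p A, A⁆, A⁆ ⊔ ⁅⁅phi p B, B⁆, B⁆ :=
        (commutator_mono k1 le_rfl).trans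
          (comm_prod h (comm_self_le hA le_rfl) le_rfl (comm_self_le hB le_rfl) le_rfl)
      exact k3.trans (sup_le_sup le_sup_left le_sup_left)
    · exact k2.trans (sup_le_sup le_sup_right le_sup_right)
  · apply sup_le
    · exact k1.trans (sup_le_sup le_sup_left le_sup_left)
    · exact (pc_prod h).trans (sup_le_sup le_sup_right le_sup_right)

theorem s0_eq {p : ℕ} {A B : Subgroup G} (h : Cm A B) (hA : s0 p A = ⊥) : s0 p (A ⊔ B) = s0 p B := by
  apply le_antisymm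
  · have := s0_prod (p := p) h
    rwa [hA, bot_sup_eq] at this
  · exact s0_mono le_sup_right

/-- the conclusion about `S₀` from decompositions of `S` and `Q`. -/
theorem Loc.s0_conc {p q : ℕ} [hp : Fact p.Prime] {S L Q V C M : Subgroup G} (c : Loc p q S L Q V C M)
    {X Y D : Subgroup G} (hX : s0 p X = ⊥) (hY : s0 p Y = ⊥) (hXD : Cm X D) (hYD : Cm Y D)
    (hS : X ⊔ D = S) (hQ : Y ⊔ D = Q) (hD : D ⊓ V ≤ cen S) : s0 p S ⊓ cen S ≤ C := by
  have h1 : s0 p S = s0 p D := by rw [← hS, s0_eq hXD hX]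
  have h2 : s0 p Q = s0 p D := by rw [← hQ, s0_eq hYD hY]
  have h3 : s0 p S ⊓ V ≤ cen S := by
    refine le_trans ?_ hD
    rw [h1]
    exact inf_le_inf s0_le le_rfl
  have h4 : ∀ g ∈ L, cj g (s0 p S ⊓ V) = s0 p S ⊓ V := by
    intro g hg
    apply cj_inf_eq _ (c.Vn g hg)
    rw [h1, ← h2, s0_cj, c.Qn g hg]
  exact (inf_le_inf le_rfl c.ZV).trans (c.le_C h3 h4)

/-! ## groups with `Φ ≤ Z` -/

theorem pow_mem_of_comm {X N : Subgroup G} (hN : ∀ g ∈ X, cj g N = N)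
    (hc : ∀ x ∈ X, ∀ y ∈ X, ⁅x, y⁆ ∈ N) {x y : G} (hx : x ∈ X) (hy : y ∈ X) {n : ℕ} (h1 : x ^ n ∈ N)
    (h2 : y ^ n ∈ N) : (x * y) ^ n ∈ N := by
  haveI : (N.subgroupOf X).Normal := by
    constructor
    rintro ⟨n, hn⟩ hn' ⟨g, hg⟩
    rw [mem_subgroupOf] at hn' ⊢
    have := conj_mem_cj (g := g) hn'
    rw [hN g hg] at this
    exact this
  have hmem : ∀ z : X, (QuotientGroup.mk z : X ⧸ N.subgroupOf X) = 1 ↔ (z : G) ∈ N := by
    intro z
    rw [QuotientGroup.eq_one_iff, mem_subgroupOf]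
  set a : X := ⟨x, hx⟩ with ha
  set b : X := ⟨y, hy⟩ with hb
  have h3 : Commute (QuotientGroup.mk a : X ⧸ N.subgroupOf X) (QuotientGroup.mk b) := by
    rw [← commutatorElement_eq_one_iff_commute]
    have : ⁅(QuotientGroup.mk a : X ⧸ N.subgroupOf X), QuotientGroup.mk b⁆ = QuotientGroup.mk ⁅a, b⁆ :=
      (map_commutatorElement (QuotientGroup.mk' (N.subgroupOf X)) a b).symm
    rw [this, hmem]
    exact hc x hx y hy
  have h4 : (QuotientGroup.mk ((a * b) ^ n) : X ⧸ N.subgroupOf X) = 1 := by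
    rw [QuotientGroup.mk_pow, QuotientGroup.mk_mul, h3.mul_pow]
    rw [← QuotientGroup.mk_pow, ← QuotientGroup.mk_pow, (hmem (a ^ n)).mpr h1, (hmem (b ^ n)).mpr h2, one_mul]
  exact (hmem _).mp h4

/-- `[A ⊔ B, Y] ≤ N`. -/
theorem comm_sup_le {X N A B Y : Subgroup G} (hN : ∀ g ∈ X, cj g N = N) (hA : A ≤ X) (hB : B ≤ X)
    (h1 : ⁅A, Y⁆ ≤ N) (h2 : ⁅B, Y⁆ ≤ N) : ⁅A ⊔ B, Y⁆ ≤ N := by
  have h3 : A ⊔ B ≤ tr X Y N hN := by
    apply sup_le
    · intro a ha
      refine ⟨hA ha, fun y hy => ?_⟩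
      have := h1 (commutator_mem_commutator ha hy)
      rwa [commutatorElement_def] at this
    · intro a ha
      refine ⟨hB ha, fun y hy => ?_⟩
      have := h2 (commutator_mem_commutator ha hy)
      rwa [commutatorElement_def] at this
  rw [Subgroup.commutator_le]
  intro x hx y hy
  rw [commutatorElement_def]
  exact (h3 hx).2 y hy

theorem comm_sup_le' {X N A B Y : Subgroup G} (hN : ∀ g ∈ X, cj g N = N) (hA : A ≤ X) (hB : B ≤ X)
    (h1 : ⁅Y, A⁆ ≤ N) (h2 : ⁅Y, B⁆ ≤ N) : ⁅Y, A ⊔ B⁆ ≤ N := by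
  rw [commutator_comm]
  apply comm_sup_le hN hA hB
  · rwa [commutator_comm]
  · rwa [commutator_comm]

theorem Cm.comm_le {A B N : Subgroup G} (h : Cm A B) : ⁅A, B⁆ ≤ N := by
  rw [Subgroup.commutator_le]
  intro a ha b hb
  have : ⁅a, b⁆ = 1 := by rw [commutatorElement_eq_one_iff_mul_comm]; exact h a ha b hb
  rw [this]
  exact N.one_mem

/-- `Φ(A ⊔ B) ≤ N`. -/
theorem phi_sup_le {p : ℕ} {X N A B : Subgroup G} (hX : X = A ⊔ B) (hN : ∀ g ∈ X, cj g N = N)
    (h1 : ⁅A, A⁆ ≤ N) (h2 : ⁅A, B⁆ ≤ N) (h3 : ⁅B, B⁆ ≤ N) (hA : ∀ a ∈ A, a ^ p ∈ N)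
    (hB : ∀ b ∈ B, b ^ p ∈ N) : phi p X ≤ N := by
  have hAX : A ≤ X := hX ▸ le_sup_left
  have hBX : B ≤ X := hX ▸ le_sup_right
  have h2' : ⁅B, A⁆ ≤ N := by rwa [commutator_comm]
  have k1 : ⁅X, X⁆ ≤ N := by
    conv_lhs => rw [hX]
    apply comm_sup_le hN hAX hBX
    · exact comm_sup_le' hN hAX hBX h1 h2
    · exact comm_sup_le' hN hAX hBX h2' h3
  have hc : ∀ x ∈ X, ∀ y ∈ X, ⁅x, y⁆ ∈ N := fun x hx y hy => k1 (commutator_mem_commutator hx hy)
  unfold phi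
  rw [closure_le]
  rintro _ (⟨x, hx, y, hy, rfl⟩ | ⟨x, hx, rfl⟩)
  · exact hc x hx y hy
  · have h4 : x ∈ X ∧ x ^ p ∈ N := by
      have hx' : x ∈ closure ((A : Set G) ∪ B) := by
        rw [Subgroup.closure_union, Subgroup.closure_eq, Subgroup.closure_eq, ← hX]; exact hx
      clear hx
      induction hx' using closure_induction with
      | mem y hy =>
        rcases hy with hy | hy
        · exact ⟨hAX hy, hA y hy⟩
        · exact ⟨hBX hy, hB y hy⟩
      | one => exact ⟨X.one_mem, by rw [one_pow]; exact N.one_mem⟩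
      | mul a b _ _ iha ihb =>
        exact ⟨mul_mem iha.1 ihb.1, pow_mem_of_comm hN hc iha.1 ihb.1 iha.2 ihb.2⟩
      | inv a _ iha => exact ⟨inv_mem iha.1, by rw [inv_pow]; exact inv_mem iha.2⟩
    exact h4.2

theorem phi_bot_of {p : ℕ} {X : Subgroup G} (h1 : Cm X X) (h2 : ∀ x ∈ X, x ^ p = 1) : phi p X = ⊥ := by
  rw [eq_bot_iff]
  unfold phi
  rw [closure_le]
  rintro _ (⟨x, hx, y, hy, rfl⟩ | ⟨x, hx, rfl⟩)
  · rw [SetLike.mem_coe, mem_bot, commutatorElement_eq_one_iff_mul_comm]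
    exact h1 x hx y hy
  · rw [SetLike.mem_coe, mem_bot]
    exact h2 x hx

theorem comm_bot_of {A B : Subgroup G} (h : Cm A B) : ⁅A, B⁆ = ⊥ := le_bot_iff.mp h.comm_le

theorem pc_bot_of {p : ℕ} {X : Subgroup G} (h2 : ∀ x ∈ X, x ^ p = 1) : Cfsg.powerClosure p 1 X = ⊥ := by
  rw [eq_bot_iff]
  unfold Cfsg.powerClosure
  rw [closure_le]
  rintro _ ⟨x, hx, rfl⟩
  rw [SetLike.mem_coe, mem_bot, pow_one]
  exact h2 x hx

theorem s0_ab {p : ℕ} {X : Subgroup G} (h1 : Cm X X) (h2 : ∀ x ∈ X, x ^ p = 1) : s0 p X = ⊥ := by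
  have e1 := phi_bot_of h1 h2
  have e2 : phi p (⊥ : Subgroup G) = ⊥ := le_bot_iff.mp (phi_le p _)
  have e3 := pc_bot_of h2
  unfold s0
  rw [e1, e2, e3, commutator_bot_left, commutator_bot_left, sup_bot_eq]
  simp

/-- powers in groups of class two. -/
theorem pow_class2 {x y z : G} (h1 : y * x = x * y * z) (h2 : x * z = z * x) (h3 : y * z = z * y) (n : ℕ) :
    (x * y) ^ n = x ^ n * y ^ n * z ^ (n.choose 2) := by
  have cx : Commute x z := h2
  have cy : Commute y z := h3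
  have h4 : ∀ n : ℕ, y ^ n * x = x * y ^ n * z ^ n := by
    intro n
    induction n with
    | zero => simp
    | succ n ih =>
      calc y ^ (n + 1) * x = y ^ n * (y * x) := by rw [pow_succ]; group
        _ = y ^ n * x * y * z := by rw [h1]; group
        _ = x * y ^ n * (z ^ n * y) * z := by rw [ih]; group
        _ = x * y ^ n * (y * z ^ n) * z := by rw [(cy.pow_right n).eq]
        _ = x * y ^ (n + 1) * z ^ (n + 1) := by rw [pow_succ, pow_succ]; group
  induction n with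
  | zero => simp
  | succ n ih =>
    have e : (n + 1).choose 2 = n + n.choose 2 := by
      rw [Nat.choose_succ_succ' n 1, Nat.choose_one_right]
    have c1 : z ^ (n.choose 2) * (x * y) = x * y * z ^ (n.choose 2) :=
      (((cx.mul_left cy).pow_right _).eq).symm
    calc (x * y) ^ (n + 1) = (x * y) ^ n * (x * y) := pow_succ _ _
      _ = x ^ n * y ^ n * (z ^ (n.choose 2) * (x * y)) := by rw [ih]; group
      _ = x ^ n * (y ^ n * x) * y * z ^ (n.choose 2) := by rw [c1]; group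
      _ = x ^ n * x * y ^ n * (z ^ n * y) * z ^ (n.choose 2) := by rw [h4]; group
      _ = x ^ n * x * y ^ n * (y * z ^ n) * z ^ (n.choose 2) := by rw [(cy.pow_right n).eq]
      _ = x ^ (n + 1) * y ^ (n + 1) * z ^ ((n + 1).choose 2) := by
        rw [e, pow_succ x, pow_succ y, pow_add z]; group

theorem pow_one_of_class2 {p : ℕ} [hp : Fact p.Prime] (h2 : p ≠ 2) {A B Z : Subgroup G}
    (hc : ∀ x ∈ A ⊔ B, ∀ y ∈ A ⊔ B, ⁅x, y⁆ ∈ Z) (hZ : Cm Z (A ⊔ B)) (hZp : ∀ z ∈ Z, z ^ p = 1)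
    (hA : ∀ a ∈ A, a ^ p = 1) (hB : ∀ b ∈ B, b ^ p = 1) : ∀ x ∈ A ⊔ B, x ^ p = 1 := by
  intro x hx
  have h4 : x ∈ A ⊔ B ∧ x ^ p = 1 := by
    have hx' : x ∈ closure ((A : Set G) ∪ B) := by
      rw [Subgroup.closure_union, Subgroup.closure_eq, Subgroup.closure_eq]; exact hx
    clear hx
    induction hx' using closure_induction with
    | mem y hy =>
      rcases hy with hy | hy
      · exact ⟨mem_sup_left hy, hA y hy⟩
      · exact ⟨mem_sup_right hy, hB y hy⟩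
    | one => exact ⟨Subgroup.one_mem _, one_pow _⟩
    | mul a b _ _ iha ihb =>
      refine ⟨mul_mem iha.1 ihb.1, ?_⟩
      have hz : ⁅b⁻¹, a⁻¹⁆ ∈ Z := hc _ (inv_mem ihb.1) _ (inv_mem iha.1)
      have k1 : b * a = a * b * ⁅b⁻¹, a⁻¹⁆ := by rw [commutatorElement_def]; group
      rw [pow_class2 k1 (hZ _ hz _ iha.1).symm (hZ _ hz _ ihb.1).symm, iha.2, ihb.2, one_mul, one_mul]
      have hlt : 2 < p := lt_of_le_of_ne hp.out.two_le (Ne.symm h2)
      obtain ⟨k, hk⟩ := hp.out.dvd_choose_self (k := 2) (by norm_num) hlt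
      rw [hk, pow_mul, hZp _ hz, one_pow]
    | inv a _ iha => exact ⟨inv_mem iha.1, by rw [inv_pow, iha.2, inv_one]⟩
  exact h4.2

/-- `n = 0`. -/
theorem Loc.s0_zero {p q q' : ℕ} [hp : Fact p.Prime] {S L Q V C M L' Q' V' C' M' : Subgroup G}
    (c : Loc p q S L Q V C M) (c' : Loc p q' S L' Q' V' C' M') (hnc : ¬ Cm V V') :
    s0 p S ⊓ cen S ≤ C := by
  obtain ⟨hq, e1, e2, e3, e4, e5, e6⟩ := c.crit c' c.VS c'.VS hnc
  set X := V ⊔ V' with hX
  set D := Q ⊓ Q' with hD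
  have hXS : X ≤ S := sup_le c.VS c'.VS
  have hXD : Cm X D := Cm.sup_left (c.VQc.mono le_rfl inf_le_left) (c'.VQc.mono le_rfl inf_le_right)
  have hZX : Cm (cen S) X := c.ZScm.mono le_rfl hXS
  have hZn : ∀ g ∈ X, cj g (cen S) = cen S := hZX.symm.cj_eq
  have hVV' : ⁅V, V'⁆ ≤ cen S := by rw [e5]; exact c.VS_le
  have hphi : phi p X ≤ cen S := by
    apply phi_sup_le hX hZn (c.Vab.comm_le) hVV' (c'.Vab.comm_le)
    · intro a ha; rw [c.elV a ha]; exact Subgroup.one_mem _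
    · intro a ha; rw [c'.elV a ha]; exact Subgroup.one_mem _
  have hcomm : ⁅phi p X, X⁆ = ⊥ := comm_bot_of (hZX.mono hphi le_rfl)
  have hphi2 : phi p (phi p X) = ⊥ := by
    apply phi_bot_of
    · exact (hZX.mono hphi ((phi_le p X).trans le_rfl))
    · exact fun x hx => c.el x (hphi hx)
  have hX0 : s0 p X = ⊥ := by
    unfold s0
    split_ifs with h2 h3
    · rw [hcomm, hphi2, sup_bot_eq]
    · rw [hcomm, hphi2, sup_bot_eq, commutator_bot_left]
    · rw [hcomm, bot_sup_eq]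
      apply pc_bot_of
      apply pow_one_of_class2 (p := p) h2 (Z := cen S) (A := V) (B := V')
      · intro x hx y hy
        exact hphi (comm_mem_phi hx hy)
      · exact hZX
      · exact c.el
      · exact c.elV
      · exact c'.elV
  have hY0 : s0 p V = ⊥ := s0_ab c.Vab c.elV
  have hVD : Cm V D := hXD.mono le_sup_left le_rfl
  refine c.s0_conc hX0 hY0 hXD hVD ?_ ?_ ?_
  · apply le_antisymm (sup_le hXS (inf_le_left.trans c.QS))
    intro x hx
    rw [← e1] at hx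
    obtain ⟨v', hv', y, hy, rfl⟩ := mem_sup_of_norm (fun k hk => c.Qn k (c.SL (c'.VS hk))) hx
    have hyS := c.QS hy
    rw [← e2] at hyS
    obtain ⟨v, hv, d, hd, rfl⟩ := mem_sup_of_norm (fun k hk => c'.Qn k (c'.SL (c.VS hk))) hyS
    have hdQ : d ∈ Q := by
      have e : d = v⁻¹ * (v * d) := by group
      rw [e]
      exact mul_mem (inv_mem (c.VQ hv)) hy
    exact mul_mem (mem_sup_left (mem_sup_right hv')) (mul_mem (mem_sup_left (mem_sup_left hv))
      (mem_sup_right ⟨hdQ, hd⟩))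
  · apply le_antisymm (sup_le c.VQ inf_le_left)
    intro y hy
    have hyS := c.QS hy
    rw [← e2] at hyS
    obtain ⟨v, hv, d, hd, rfl⟩ := mem_sup_of_norm (fun k hk => c'.Qn k (c'.SL (c.VS hk))) hyS
    have hdQ : d ∈ Q := by
      have e : d = v⁻¹ * (v * d) := by group
      rw [e]
      exact mul_mem (inv_mem (c.VQ hv)) hy
    exact mul_mem (mem_sup_left hv) (mem_sup_right ⟨hdQ, hd⟩)
  · rintro x ⟨⟨_, hx'⟩, hxV⟩
    rw [← e4]
    exact ⟨hxV, hx'⟩

/-- `n = 1`, `p = 3`. -/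
theorem P4.s0_three {p : ℕ} [hp : Fact p.Prime] {Sa S Sd : Subgroup G} {a : Vx p Sa} {b c : Vx p S}
    {d : Vx p Sd} (h : P4 a b c d) (h3 : p = 3) : s0 p S ⊓ cen S ≤ b.C := by
  obtain ⟨-, f1, f2, f3, f4, f5, f6⟩ := h.critac
  obtain ⟨-, g1, g2, g3, g4, g5, g6⟩ := h.critbd
  set X := a.V ⊔ b.V ⊔ (c.V ⊔ d.V) with hX
  set D := a.Q ⊓ b.Q ⊓ (c.Q ⊓ d.Q) with hD
  set N := b.V ⊔ c.V with hN
  have hXS : X ≤ S := sup_le (sup_le h.VaS b.loc.VS) (sup_le c.loc.VS h.VdS)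
  have hXD : Cm X D := by
    apply Cm.sup_left
    · apply Cm.sup_left
      · exact a.loc.VQc.mono le_rfl (inf_le_left.trans inf_le_left)
      · exact b.loc.VQc.mono le_rfl (inf_le_left.trans inf_le_right)
    · apply Cm.sup_left
      · exact c.loc.VQc.mono le_rfl (inf_le_right.trans inf_le_left)
      · exact d.loc.VQc.mono le_rfl (inf_le_right.trans inf_le_right)
  have hNX : N ≤ X := sup_le (le_sup_right.trans le_sup_left) (le_sup_left.trans le_sup_right)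
  have hNn : ∀ g ∈ X, cj g N = N := fun g hg =>
    cj_sup_eq (b.loc.Vn g (b.loc.SL (hXS hg))) (c.loc.Vn g (c.loc.SL (hXS hg)))
  have hZN : cen S ≤ N := b.loc.ZV.trans le_sup_left
  have hac : ⁅a.V, c.V⁆ ≤ N := by
    rw [f5, ← f6]
    exact c.loc.VS_le.trans hZN
  have hbd : ⁅b.V, d.V⁆ ≤ N := by
    rw [g5]
    exact b.loc.VS_le.trans hZN
  have had : ⁅a.V, d.V⁆ ≤ N := by
    rw [Subgroup.commutator_le]
    intro t ht y hy
    obtain ⟨v, hv, w, hw, e⟩ := h.comm_mem ht hy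
    rw [e]
    exact mul_mem (mem_sup_left hv) (mem_sup_right hw)
  have hNab : Cm N N := comm_sup' b.loc.Vab c.loc.Vab h.cbc
  have hNel : ∀ x ∈ N, x ^ p = 1 := by
    intro x hx
    obtain ⟨v, hv, w, hw, rfl⟩ := h.cbc.mem_sup hx
    rw [(show Commute v w from h.cbc v hv w hw).mul_pow, b.loc.elV v hv, c.loc.elV w hw, one_mul]
  have hphi : phi p X ≤ N := by
    have hABle : a.V ⊔ b.V ≤ X := le_sup_left
    have hCDle : c.V ⊔ d.V ≤ X := le_sup_right
    have haX : a.V ≤ X := le_sup_left.trans hABle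
    have hbX : b.V ≤ X := le_sup_right.trans hABle
    have hcX : c.V ≤ X := le_sup_left.trans hCDle
    have hdX : d.V ≤ X := le_sup_right.trans hCDle
    apply phi_sup_le hX hNn
    · exact (comm_sup' a.loc.Vab b.loc.Vab h.cab).comm_le
    · apply comm_sup_le hNn haX hbX
      · exact comm_sup_le' hNn hcX hdX hac had
      · exact comm_sup_le' hNn hcX hdX h.cbc.comm_le hbd
    · exact (comm_sup' c.loc.Vab d.loc.Vab h.ccd).comm_le
    · intro x hx
      obtain ⟨v, hv, w, hw, rfl⟩ := h.cab.mem_sup hx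
      rw [(show Commute v w from h.cab v hv w hw).mul_pow, a.loc.elV v hv, b.loc.elV w hw, one_mul]
      exact N.one_mem
    · intro x hx
      obtain ⟨v, hv, w, hw, rfl⟩ := h.ccd.mem_sup hx
      rw [(show Commute v w from h.ccd v hv w hw).mul_pow, c.loc.elV v hv, d.loc.elV w hw, one_mul]
      exact N.one_mem
  have hNS : ⁅N, S⁆ ≤ cen S := by
    apply comm_sup_le (X := S) (b.loc.ZScm.symm.cj_eq) b.loc.VS c.loc.VS b.loc.VS_le c.loc.VS_le
  have hX0 : s0 p X = ⊥ := by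
    unfold s0
    rw [if_neg (by rw [h3]; norm_num), if_pos h3]
    have k1 : ⁅phi p X, X⁆ ≤ cen S := (commutator_mono hphi hXS).trans hNS
    have k2 : ⁅⁅phi p X, X⁆, X⁆ = ⊥ := comm_bot_of (b.loc.ZScm.mono k1 hXS)
    have k3 : phi p (phi p X) = ⊥ := by
      apply phi_bot_of
      · exact hNab.mono hphi hphi
      · exact fun x hx => hNel x (hphi hx)
    rw [k2, k3, sup_bot_eq]
  set Y := a.V ⊔ b.V ⊔ c.V with hY
  have hYX : Y ≤ X := sup_le le_sup_left (le_sup_left.trans le_sup_right)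
  have hY0 : s0 p Y = ⊥ := by
    rw [eq_bot_iff, ← hX0]
    exact s0_mono hYX
  have hDb : D ≤ b.Q := inf_le_left.trans inf_le_right
  refine b.loc.s0_conc hX0 hY0 hXD (hXD.mono hYX le_rfl) ?_ ?_ ?_
  · apply le_antisymm (sup_le hXS (hDb.trans b.loc.QS))
    intro x hx
    obtain ⟨r, hr, u, hu, v, hv, w, hw, k, k1, k2, k3, k4, rfl⟩ := h.decS hx
    exact mul_mem (mem_sup_left (mem_sup_right (mem_sup_right hr)))
      (mul_mem (mem_sup_left (mem_sup_left (mem_sup_left hu)))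
      (mul_mem (mem_sup_left (mem_sup_left (mem_sup_right hv)))
      (mul_mem (mem_sup_left (mem_sup_right (mem_sup_left hw)))
        (mem_sup_right ⟨⟨k1, k2⟩, ⟨k3, k4⟩⟩))))
  · apply le_antisymm (sup_le (sup_le (sup_le h.VaQb b.loc.VQ) h.VcQb) hDb)
    intro x hx
    obtain ⟨u, hu, v, hv, w, hw, k, k1, k2, k3, k4, rfl⟩ := h.decb hx
    exact mul_mem (mem_sup_left (mem_sup_left (mem_sup_left hu)))
      (mul_mem (mem_sup_left (mem_sup_left (mem_sup_right hv)))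
      (mul_mem (mem_sup_left (mem_sup_right hw)) (mem_sup_right ⟨⟨k1, k2⟩, ⟨k3, k4⟩⟩)))
  · rintro x ⟨⟨_, ⟨_, hx'⟩⟩, hxV⟩
    rw [← g4]
    exact ⟨hxV, hx'⟩

end Cfsg.Agent.H260.GN
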