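import Cfsg.Agent.H260.GN10

/-!
# Glauberman-Niles, part 11: the main theorem for families of groups
-/

set_option autoImplicit false
set_option linter.unusedSectionVars false
set_option linter.unusedVariables false
set_option linter.style.haveILetI false

namespace Cfsg.Agent.H260.GN

open Subgroup Push
open scoped commutatorElement

variable {G : Type*} [Group G] {ι : Type*}

section fam

variable {p : ℕ} [hp : Fact p.Prime] {S : Subgroup G} {q : ι → ℕ} {L Q V C M : ι → Subgroup G}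

/-- the vertex `(x, i)` seen from the edge `x`. -/
def vx (loc : ∀ i, Loc p (q i) S (L i) (Q i) (V i) (C i) (M i)) (x : G) (i : ι) : Vx p (cj x S) :=
  ⟨q i, cj x (L i), cj x (Q i), cj x (V i), cj x (C i), cj x (M i), (loc i).cj' x⟩

variable (loc : ∀ i, Loc p (q i) S (L i) (Q i) (V i) (C i) (M i))
include loc

theorem inv_mul_symm {x y : G} {k : ι} (h : x⁻¹ * y ∈ L k) : y⁻¹ * x ∈ L k := by
  have := (L k).inv_mem h
  have e : (x⁻¹ * y)⁻¹ = y⁻¹ * x := by group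
  rwa [e] at this

theorem mkP4 (h0 : CommN L V 0) {x y z : G} {i j k l : ι} (hxy : x⁻¹ * y ∈ L j) (hyz : y⁻¹ * z ∈ L k)
    (n1 : ¬ Cm (cj x (V i)) (cj y (V k))) (n2 : ¬ Cm (cj y (V j)) (cj z (V l))) :
    P4 (vx loc x i) (vx loc y j) (vx loc y k) (vx loc z l) where
  QbSa := by
    show cj y (Q j) ≤ cj x S
    rw [cjQ_eq loc hxy]
    exact cj_mono (loc j).QS
  QcSd := by
    show cj y (Q k) ≤ cj z S
    rw [cjQ_eq loc (inv_mul_symm loc hyz)]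
    exact cj_mono (loc k).QS
  VaS := inS loc h0 (wd_single (inv_mul_symm loc hxy)) i
  VdS := inS loc h0 (wd_single hyz) l
  cab := by
    show Cm (cj x (V i)) (cj y (V j))
    rw [cjV_eq loc hxy]
    exact (h0.cm0 i j).cj x
  cbc := (h0.cm0 j k).cj y
  ccd := by
    show Cm (cj y (V k)) (cj z (V l))
    rw [← cjV_eq loc hyz]
    exact (h0.cm0 k l).cj z
  nac := n1
  nbd := n2

theorem mkP5 (h0 : CommN L V 0) {x₀ x₁ x₂ x₃ : G} {i₀ i₁ i₂ i₃ i₄ : ι}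
    (s1 : x₀⁻¹ * x₁ ∈ L i₁) (s2 : x₁⁻¹ * x₂ ∈ L i₂) (s3 : x₂⁻¹ * x₃ ∈ L i₃) (m2 : x₁⁻¹ * x₂ ∉ M i₂)
    (n0 : ¬ Cm (cj x₀ (V i₀)) (cj x₁ (V i₂))) (n1 : ¬ Cm (cj x₁ (V i₁)) (cj x₂ (V i₃)))
    (n2 : ¬ Cm (cj x₂ (V i₂)) (cj x₃ (V i₄))) :
    P5 (vx loc x₀ i₀) (vx loc x₁ i₁) (vx loc x₁ i₂) (vx loc x₂ i₂) (vx loc x₂ i₃) (vx loc x₃ i₄)
      (x₁ * x₂⁻¹) where
  h1 := mkP4 loc h0 s1 s2 n0 n1
  h2 := mkP4 loc h0 s2 s3 n1 n2
  hL := by
    show cj x₁ (L i₂) = cj x₂ (L i₂)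
    have e : x₂ = x₁ * (x₁⁻¹ * x₂) := by group
    rw [e, ← cj_mul, cj_of_mem s2]
  hQ := (cjQ_eq loc s2).symm
  hV := (cjV_eq loc s2).symm
  hC := (cjC_eq loc s2 le_rfl).symm
  hg := by
    show x₁ * x₂⁻¹ ∈ cj x₂ (L i₂)
    rw [mem_cj]
    have e : x₂⁻¹ * (x₁ * x₂⁻¹) * x₂ = x₂⁻¹ * x₁ := by group
    rw [e]
    exact inv_mul_symm loc s2
  hgM := by
    show x₁ * x₂⁻¹ ∉ cj x₂ (M i₂)
    rw [mem_cj]
    have e : x₂⁻¹ * (x₁ * x₂⁻¹) * x₂ = (x₁⁻¹ * x₂)⁻¹ := by group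
    rw [e]
    exact fun h => m2 (by simpa using inv_mem h)
  hgM' := by
    show (x₁ * x₂⁻¹)⁻¹ ∉ cj x₁ (M i₂)
    rw [mem_cj]
    have e : x₁⁻¹ * (x₁ * x₂⁻¹)⁻¹ * x₁ = x₁⁻¹ * x₂ := by group
    rw [e]
    exact m2
  hT := by
    rw [cj_mul]
    congr 1
    group
  adj := by
    show Cm (cj x₂ (V i₃)) (cj (x₁ * x₂⁻¹)⁻¹ (cj x₁ (V i₁)))
    rw [cj_mul]
    have e : (x₁ * x₂⁻¹)⁻¹ * x₁ = x₂ := by group
    rw [e]
    exact (h0.cm0 i₃ i₁).cj x₂
  hM := by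
    show ⁅cj x₂ (V i₃), cj x₂ S⁆ ≤ cj x₂ (C i₂)
    rw [(loc i₃).cj_comm']
    apply cj_mono
    exact lemmaM' loc h0 (x := x₂) (u := x₁) (y := x₁) (inv_mul_symm loc s2)
      (by rw [inv_mul_cancel]; exact wd_zero.mpr rfl) (i := i₃) (j := i₁) (fun h => n1 h.symm)

theorem live_one (h0 : CommN L V 0) : ∀ w ∈ Wd L (0 + 1), ∀ i j, ¬ Cm (V i) (cj w (V j)) →
    ¬ ∀ g ∈ L i, cj g (⨆ k, V k) = ⨆ k, V k := by
  intro w hw i j hnc hE
  obtain ⟨k, l, hl, w', hw', rfl⟩ := wd_succ.mp hw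
  rw [wd_zero] at hw'
  subst hw'
  rw [mul_one] at hnc hw
  set E := ⨆ k, V k with hEd
  have hVE : ∀ m, V m ≤ E := fun m => le_iSup V m
  have hES : E ≤ S := iSup_le fun m => (loc m).VS
  have hsym : l⁻¹ * 1 ∈ Wd L (0 + 1) := by
    rw [mul_one]
    exact wd_single ((L k).inv_mem hl)
  have d : DP p (q i) (q k) (q j) E S (L i) (Q i) (V i) (C i) (M i) (L k) (Q k) (V k) (C k) (M k)
      (cj l S) (cj l (L j)) (cj l (Q j)) (cj l (V j)) (cj l (C j)) (cj l (M j)) := by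
    refine
      { c := loc i
        c₁ := loc k
        c' := (loc j).cj' l
        hE := hE
        ES := hES
        VE := hVE i
        V₁E := hVE k
        Eab := ?_
        Eq := ?_
        ES' := ?_
        V'S := ?_
        nc := hnc
        h1' := ?_
        Q₁S' := (loc k).Q_le_cjS hl
        Z'V₁ := ?_
        R₁ := ?_ }
    · exact Cm.iSup_left fun a => Cm.iSup_right fun b => h0.cm0 a b
    · intro e he s hs
      have hB : ∀ x ∈ S, cj x (cen S) = cen S := (loc i).ZScm.symm.cj_eq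
      exact cs_iSup (g := s) hB (A := V) (fun m => (loc m).VS) (fun m x hx => (loc m).quad x hx s hs) e he
    · apply iSup_le
      intro m
      have := inS loc h0 hsym m
      rwa [cj_one] at this
    · have := inS loc h0 (x := 1) (y := l) (by simpa using hw) j
      rwa [cj_one] at this
    · have := (h0.cm0 k j).cj l
      rwa [(loc k).Vn l hl] at this
    · rw [← cj_cen]
      exact (loc k).cjZV hl
    · exact lemmaM' loc h0 (x := 1) (u := l) (y := l) (k := k) (by simpa using hl)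
        (by rw [inv_mul_cancel]; exact wd_zero.mpr rfl) (i := i) (j := j) (by rwa [cj_one])
  exact d.dead1 hl ((h0.cm0 i j).cj l)

/-- **The main theorem.** -/
theorem main : (∀ n, CommN L V n) ∨ ∃ i, s0 p S ⊓ cen S ≤ C i := by
  by_cases h0 : CommN L V 0
  swap
  · right
    unfold CommN at h0
    push Not at h0
    obtain ⟨w, hw, i, j, hnc⟩ := h0
    rw [wd_zero] at hw
    subst hw
    rw [cj_one] at hnc
    exact ⟨i, (loc i).s0_zero (loc j) hnc⟩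
  by_cases h1 : CommN L V 1
  · left
    exact commN_all loc h1
  unfold CommN at h1
  push Not at h1
  obtain ⟨w, hw, i, j, hnc⟩ := h1
  obtain ⟨h, τ, T⟩ := exists_track loc (m := 0) h0 (live_one loc h0) hw hnc 3
  have s1 := T.step 0 (by norm_num)
  have s2 := T.step 1 (by norm_num)
  have s3 := T.step 2 (by norm_num)
  have s4 := T.step 3 (by norm_num)
  have m2 := T.move 1 (by norm_num) (by norm_num)
  have m3 := T.move 2 (by norm_num) (by norm_num)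
  have n0 := T.nc 0 (by norm_num)
  have n1 := T.nc 1 (by norm_num)
  have n2 := T.nc 2 (by norm_num)
  have n3 := T.nc 3 (by norm_num)
  norm_num at s1 s2 s3 s4 m2 m3 n0 n1 n2 n3
  by_cases h2 : p = 2
  · exfalso
    have P := mkP4 loc h0 s1 s2 n0 n1
    refine P.false_two h2 (g := h 2 * (h 1)⁻¹) ?_ ?_ ?_ ?_
    · show h 2 * (h 1)⁻¹ ∈ cj (h 1) (L (τ 2))
      rw [mem_cj]
      have e : (h 1)⁻¹ * (h 2 * (h 1)⁻¹) * h 1 = (h 1)⁻¹ * h 2 := by group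
      rw [e]
      exact s2
    · show h 2 * (h 1)⁻¹ ∉ cj (h 1) (M (τ 2))
      rw [mem_cj]
      have e : (h 1)⁻¹ * (h 2 * (h 1)⁻¹) * h 1 = (h 1)⁻¹ * h 2 := by group
      rw [e]
      exact m2
    · rw [cj_mul]
      congr 1
      group
    · show Cm (cj (h 1) (V (τ 1))) (cj (h 2 * (h 1)⁻¹)⁻¹ (cj (h 2) (V (τ 3))))
      rw [cj_mul]
      have e : (h 2 * (h 1)⁻¹)⁻¹ * h 2 = h 1 := by group
      rw [e]
      exact (h0.cm0 _ _).cj _
  by_cases h3 : p = 3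
  · right
    have P := (mkP4 loc h0 s1 s2 n0 n1).s0_three h3
    refine ⟨τ 1, ?_⟩
    have P' : s0 p (cj (h 1) S) ⊓ cen (cj (h 1) S) ≤ cj (h 1) (C (τ 1)) := P
    rw [← s0_cj, ← cj_cen, ← cj_inf, cj_le_cj] at P'
    exact P'
  have h5 : 5 ≤ p := by
    have := hp.out.two_le
    by_contra hlt
    have h4 : p = 4 := by omega
    exact absurd (h4 ▸ hp.out) (by norm_num)
  exfalso
  have P := mkP5 loc h0 s1 s2 s3 m2 n0 n1 n2
  have P' := mkP5 loc h0 s2 s3 s4 m3 n1 n2 n3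
  have hq : q (τ 3) ≤ q (τ 2) := P'.symm.q_le
  refine P.false_five hq h5 (g' := h 3 * (h 2)⁻¹) ?_ ?_ ?_ ?_
  · show h 3 * (h 2)⁻¹ ∈ cj (h 2) (L (τ 3))
    rw [mem_cj]
    have e : (h 2)⁻¹ * (h 3 * (h 2)⁻¹) * h 2 = (h 2)⁻¹ * h 3 := by group
    rw [e]
    exact s3
  · show h 3 * (h 2)⁻¹ ∉ cj (h 2) (M (τ 3))
    rw [mem_cj]
    have e : (h 2)⁻¹ * (h 3 * (h 2)⁻¹) * h 2 = (h 2)⁻¹ * h 3 := by group
    rw [e]
    exact m3
  · rw [cj_mul]
    congr 1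
    group
  · show Cm (cj (h 2) (V (τ 2))) (cj (h 3 * (h 2)⁻¹)⁻¹ (cj (h 3) (V (τ 4))))
    rw [cj_mul]
    have e : (h 3 * (h 2)⁻¹)⁻¹ * h 3 = h 2 := by group
    rw [e]
    exact (h0.cm0 _ _).cj _

end fam

end Cfsg.Agent.H260.GN
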