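import Cfsg.Agent.H260.GN1

/-!
# Glauberman-Niles, part 2: the extension lemma, the large abelian lemma, Lemma M
-/

set_option autoImplicit false
set_option linter.unusedSectionVars false
set_option linter.unusedVariables false
set_option linter.style.haveILetI false

namespace Cfsg.Agent.H260.GN

open Subgroup Push
open scoped commutatorElement

variable {G : Type*} [Group G]

theorem comm_sup' {A B : Subgroup G} (hA : Cm A A) (hB : Cm B B) (hAB : Cm A B) : Cm (A ⊔ B) (A ⊔ B) :=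
  comm_sup hA hB hAB

/-- numerical part -/
theorem numJ {b b0 x P i j m A t q : ℕ} (hx : 0 < x) (hi : 0 < i) (hb0 : 0 < b0) (hq : 0 < q)
    (e1 : P = q * (q * x)) (e2 : m * j = b0 * P) (e3 : m ≤ A) (e4 : A * i = b * x) (e5 : b ≤ q * b0)
    (e6 : t * i = j * x) : q * x ≤ t := by
  have h1 : (b0 * q * x) * (q * i) ≤ (b0 * q * x) * j := by
    calc (b0 * q * x) * (q * i) = (b0 * P) * i := by rw [e1]; ring
      _ = m * j * i := by rw [← e2]
      _ ≤ A * j * i := by gcongr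
      _ = (A * i) * j := by ring
      _ = b * x * j := by rw [e4]
      _ ≤ (q * b0) * x * j := by gcongr
      _ = _ := by ring
  have h2 : q * i ≤ j := Nat.le_of_mul_le_mul_left h1 (by positivity)
  have h3 : (q * x) * i ≤ t * i := by
    rw [e6]
    calc (q * x) * i = (q * i) * x := by ring
      _ ≤ j * x := by gcongr
  exact Nat.le_of_mul_le_mul_right h3 hi

theorem numJ' {b b0 x P i j m A t q : ℕ} (hx : 0 < x) (hi : 0 < i) (hb0 : 0 < b0) (hq : 0 < q)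
    (e1 : P = q * (q * x)) (e2 : m * j = b0 * P) (e3 : m ≤ A) (e4 : A * i = b * x) (e5 : b ≤ q * b0)
    (e6 : t * i = j * x) (e7 : t ≤ q * x) : b = q * b0 := by
  apply le_antisymm e5
  have h2 : j ≤ q * i := by
    have h3 : j * x ≤ (q * i) * x := by
      rw [← e6]
      calc t * i ≤ (q * x) * i := by gcongr
        _ = _ := by ring
    exact Nat.le_of_mul_le_mul_right h3 hx
  have h4 : (q * b0) * (q * x) ≤ b * (q * x) := by
    calc (q * b0) * (q * x) = b0 * P := by rw [e1]; ring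
      _ = m * j := e2.symm
      _ ≤ A * (q * i) := by gcongr
      _ = q * (A * i) := by ring
      _ = b * (q * x) := by rw [e4]; ring
  exact Nat.le_of_mul_le_mul_right h4 (by positivity)

/-- **Lemma J.** -/
theorem lemmaJ {S A B X U W1 W2 : Subgroup G} {a : G} {q : ℕ} [Finite S]
    (hA : ∀ x ∈ A, ∀ y ∈ A, x * y = y * x) (hBA : B ≤ A) (ha : a ∈ A) (hAS : LargeAb S (B ⊔ X))
    (hX : cj a X = X) (hUS : U ≤ S) (hUaS : cj a U ≤ S) (hUU : Cm U U) (hUUa : Cm U (cj a U))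
    (hUX : Cm U X) (hW1 : Cm W1 (cj a U)) (hW1X : Cm W1 X)
    (hW1U : ∀ u ∈ U, (∀ w ∈ W1, w * u = u * w) → u ∈ X) (hW2 : Cm W2 U) (hW2X : Cm W2 X)
    (hW2U : ∀ u ∈ cj a U, (∀ w ∈ W2, w * u = u * w) → u ∈ X)
    (hq1 : Nat.card U = q * Nat.card (U ⊓ X : Subgroup G))
    (hq2 : Nat.card B ≤ q * Nat.card (B ⊓ centralizer (U : Set G) : Subgroup G)) :
    Nat.card B = q * Nat.card (B ⊓ centralizer (U : Set G) : Subgroup G) ∧
      ∀ u ∈ U, ∃ u' ∈ cj a U, ∃ e ∈ X, u * u' * e ∈ B ⊔ X := by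
  set Ua := cj a U with hUa
  set B₀ := B ⊓ centralizer (U : Set G) with hB₀
  have hBS : B ≤ S := le_sup_left.trans hAS.le
  have hXS : X ≤ S := le_sup_right.trans hAS.le
  haveI : Finite U := fin_le hUS
  haveI : Finite Ua := fin_le hUaS
  haveI : Finite X := fin_le hXS
  haveI : Finite B := fin_le hBS
  have hUaX : Cm Ua X := by
    have := hUX.cj a
    rwa [hX] at this
  have hUaUa : Cm Ua Ua := hUU.cj a
  have hAc : Cm (B ⊔ X) (B ⊔ X) := hAS.comm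
  have hXX : Cm X X := hAc.mono le_sup_right le_sup_right
  have hBX : Cm B X := hAc.mono le_sup_left le_sup_right
  have hBB : Cm B B := hAc.mono le_sup_left le_sup_left
  set P := U ⊔ (Ua ⊔ X) with hP
  have hUaXc : Cm (Ua ⊔ X) (Ua ⊔ X) := comm_sup' hUaUa hXX hUaX
  have hUP : Cm U (Ua ⊔ X) := hUUa.sup_right hUX
  have hPc : Cm P P := comm_sup' hUU hUaXc hUP
  have hPS : P ≤ S := sup_le hUS (sup_le hUaS hXS)
  haveI : Finite P := fin_le hPS
  -- (i), (ii)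
  have h1 : ∀ u ∈ Ua, u ∈ U ⊔ X → u ∈ X := by
    intro u hu hu'
    exact hW2U u hu fun w hw => (hW2.sup_right hW2X) w hw u hu'
  have h2 : ∀ u ∈ U, u ∈ Ua ⊔ X → u ∈ X := by
    intro u hu hu'
    exact hW1U u hu fun w hw => (hW1.sup_right hW1X) w hw u hu'
  have e1 : U ⊓ (Ua ⊔ X) = U ⊓ X := by
    apply le_antisymm
    · exact fun x hx => ⟨hx.1, h2 x hx.1 hx.2⟩
    · exact inf_le_inf_left _ le_sup_right
  have hUXpos : 0 < Nat.card (U ⊓ X : Subgroup G) := by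
    haveI : Finite (U ⊓ X : Subgroup G) := fin_le inf_le_left
    exact Nat.card_pos
  have c1 : Nat.card P = q * Nat.card (Ua ⊔ X : Subgroup G) := by
    have := hUP.card_mul
    rw [e1, hq1] at this
    apply Nat.eq_of_mul_eq_mul_right hUXpos
    rw [hP, this]; ring
  have e2 : Ua ⊓ X = cj a (U ⊓ X) := by rw [cj_inf, hX]
  have c2 : Nat.card (Ua ⊔ X : Subgroup G) = q * Nat.card X := by
    have := hUaX.card_mul
    rw [e2, card_cj, hUa, card_cj, hq1] at this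
    apply Nat.eq_of_mul_eq_mul_right hUXpos
    rw [hUa, this]; ring
  have cP : Nat.card P = q * (q * Nat.card X) := by rw [c1, c2]
  have hq : 0 < q := by
    rcases Nat.eq_zero_or_pos q with h | h
    · rw [h, zero_mul] at hq1
      have : 0 < Nat.card U := Nat.card_pos
      omega
    · exact h
  -- (v)
  have hB₀P : Cm B₀ P := by
    have hb1 : Cm B₀ U := by
      rw [cm_iff_le]
      exact inf_le_right
    have hb2 : Cm B₀ Ua := by
      intro b hb y hy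
      rw [hUa, mem_cj] at hy
      have h3 := hb1 b hb _ hy
      have h4 : a * b = b * a := hA a ha b (hBA hb.1)
      have h4' : a⁻¹ * b = b * a⁻¹ := by
        rw [inv_mul_eq_iff_eq_mul, ← mul_assoc, h4, mul_assoc, mul_inv_cancel, mul_one]
      calc b * y = b * (a * (a⁻¹ * y * a) * a⁻¹) := by group
        _ = (b * a) * (a⁻¹ * y * a) * a⁻¹ := by group
        _ = a * (b * (a⁻¹ * y * a)) * a⁻¹ := by rw [← h4]; group
        _ = a * (a⁻¹ * y * a * b) * a⁻¹ := by rw [h3]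
        _ = y * a * (b * a⁻¹) := by group
        _ = y * a * (a⁻¹ * b) := by rw [h4']
        _ = y * b := by group
    exact hb1.sup_right (hb2.sup_right (hBX.mono inf_le_left le_rfl))
  have hB₀B₀ : Cm B₀ B₀ := hBB.mono inf_le_left inf_le_left
  have hm : Nat.card (B₀ ⊔ P : Subgroup G) ≤ Nat.card (B ⊔ X : Subgroup G) :=
    hAS.max _ (sup_le (inf_le_left.trans hBS) hPS) (comm_sup hB₀B₀ hPc hB₀P)
  set T := (B₀ ⊓ P) ⊔ X with hT
  have hXB₀ : B ⊓ X ≤ B₀ := by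
    apply le_inf inf_le_left
    intro x hx
    rw [mem_centralizer_iff]
    intro y hy
    exact hUX y hy x hx.2
  have hXP : X ≤ P := le_sup_right.trans le_sup_right
  have e3 : (B₀ ⊓ P) ⊓ X = B ⊓ X := by
    apply le_antisymm
    · exact inf_le_inf_right _ (inf_le_left.trans inf_le_left)
    · exact le_inf (le_inf hXB₀ (inf_le_right.trans hXP)) inf_le_right
  have hTcm : Cm (B₀ ⊓ P) X := hPc.mono inf_le_right hXP
  have e6 : Nat.card T * Nat.card (B ⊓ X : Subgroup G) =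
      Nat.card (B₀ ⊓ P : Subgroup G) * Nat.card X := by
    have := hTcm.card_mul
    rwa [e3] at this
  have e4 : Nat.card (B ⊔ X : Subgroup G) * Nat.card (B ⊓ X : Subgroup G) = Nat.card B * Nat.card X :=
    hBX.card_mul
  have e5 : Nat.card (B₀ ⊔ P : Subgroup G) * Nat.card (B₀ ⊓ P : Subgroup G) = Nat.card B₀ * Nat.card P :=
    hB₀P.card_mul
  have hXpos : 0 < Nat.card X := Nat.card_pos
  haveI : Finite B₀ := fin_le (inf_le_left : B₀ ≤ B)
  haveI : Finite (B ⊓ X : Subgroup G) := fin_le (inf_le_left : B ⊓ X ≤ B)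
  have hBXpos : 0 < Nat.card (B ⊓ X : Subgroup G) := Nat.card_pos
  have hB₀pos : 0 < Nat.card B₀ := Nat.card_pos
  have hT1 : q * Nat.card X ≤ Nat.card T := numJ hXpos hBXpos hB₀pos hq cP e5 hm e4 hq2 e6
  -- (vi)
  have hTA : T ≤ B ⊔ X := sup_le (inf_le_left.trans (inf_le_left.trans le_sup_left)) le_sup_right
  have hTP : T ≤ P := sup_le inf_le_right hXP
  have haB : ∀ b ∈ B, a * b * a⁻¹ = b := by
    intro b hb
    rw [hA a ha b (hBA hb), mul_assoc, mul_inv_cancel, mul_one]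
  have h3 : ∀ t ∈ B ⊔ X, t ∈ U ⊔ X → t ∈ X := by
    intro t ht htU
    obtain ⟨b, hb, x, hx, rfl⟩ := hBX.mem_sup ht
    have hx' : a * x * a⁻¹ ∈ X := by
      have := conj_mem_cj (g := a) hx
      rwa [hX] at this
    have m1 : a * (b * x) * a⁻¹ = (b * x) * (x⁻¹ * (a * x * a⁻¹)) := by
      calc a * (b * x) * a⁻¹ = (a * b * a⁻¹) * (a * x * a⁻¹) := by group
        _ = _ := by rw [haB b hb]; group
    have m2 : a * (b * x) * a⁻¹ ∈ U ⊔ X := by
      rw [m1]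
      exact mul_mem htU (mem_sup_right (X.mul_mem (X.inv_mem hx) hx'))
    have m3 : a * (b * x) * a⁻¹ ∈ Ua ⊔ X := by
      have := conj_mem_cj (g := a) htU
      rwa [cj_sup, hX] at this
    obtain ⟨u', hu', e, he, hue⟩ := hUaX.mem_sup m3
    have m4 : u' ∈ X := by
      apply h1 u' hu'
      have : u' = (a * (b * x) * a⁻¹) * e⁻¹ := by rw [← hue]; group
      rw [this]
      exact mul_mem m2 (mem_sup_right (X.inv_mem he))
    have m5 : a * (b * x) * a⁻¹ ∈ X := by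
      rw [← hue]
      exact X.mul_mem m4 he
    have m6 : b * x ∈ cj a⁻¹ X := by
      rw [mem_cj]
      simpa using m5
    rwa [cj_inv_eq hX] at m6
  have h4 : ∀ t ∈ B ⊔ X, t ∈ Ua ⊔ X → t ∈ X := by
    intro t ht htU
    have m1 : a⁻¹ * t * a ∈ B ⊔ X := by
      obtain ⟨b, hb, x, hx, rfl⟩ := hBX.mem_sup ht
      have e7 : a⁻¹ * (b * x) * a = (a⁻¹ * b * a) * (a⁻¹ * x * a) := by group
      have e8 : a⁻¹ * b * a = b := by
        have := haB b hb
        calc a⁻¹ * b * a = a⁻¹ * (a * b * a⁻¹) * a := by rw [this]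
          _ = b := by group
      have e9 : a⁻¹ * x * a ∈ X := by
        rw [← mem_cj, hX]
        exact hx
      rw [e7, e8]
      exact mul_mem (mem_sup_left hb) (mem_sup_right e9)
    have m2 : a⁻¹ * t * a ∈ U ⊔ X := by
      rw [← mem_cj, cj_sup, hX]
      exact htU
    have m3 := h3 _ m1 m2
    rwa [← mem_cj, hX] at m3
  have e7 : T ⊓ (Ua ⊔ X) = X := by
    apply le_antisymm
    · exact fun x hx => h4 x (hTA hx.1) hx.2
    · exact le_inf le_sup_right le_sup_right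
  have hTcm2 : Cm T (Ua ⊔ X) := hPc.mono hTP le_sup_right
  have e8 : Nat.card (T ⊔ (Ua ⊔ X) : Subgroup G) * Nat.card X = Nat.card T * (q * Nat.card X) := by
    have := hTcm2.card_mul
    rw [e7, c2] at this
    exact this
  have hle : T ⊔ (Ua ⊔ X) ≤ P := sup_le hTP le_sup_right
  have hle' : Nat.card (T ⊔ (Ua ⊔ X) : Subgroup G) ≤ Nat.card P := card_mono' hle
  have hT2 : Nat.card T ≤ q * Nat.card X := by
    have h5 : Nat.card T * (q * Nat.card X) ≤ (q * Nat.card X) * (q * Nat.card X) := by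
      rw [← e8]
      calc _ ≤ Nat.card P * Nat.card X := by gcongr
        _ = _ := by rw [cP]; ring
    exact Nat.le_of_mul_le_mul_right h5 (by positivity)
  refine ⟨numJ' hXpos hBXpos hB₀pos hq cP e5 hm e4 hq2 e6 hT2, ?_⟩
  have hPeq : T ⊔ (Ua ⊔ X) = P := by
    apply eq_of_card hle
    have h5 : Nat.card P * Nat.card X ≤ Nat.card (T ⊔ (Ua ⊔ X) : Subgroup G) * Nat.card X := by
      rw [e8, cP]
      calc q * (q * Nat.card X) * Nat.card X = (q * Nat.card X) * (q * Nat.card X) := by ring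
        _ ≤ _ := by gcongr
    exact Nat.le_of_mul_le_mul_right h5 hXpos
  intro u hu
  have hu' : u ∈ T ⊔ (Ua ⊔ X) := by
    rw [hPeq]
    exact mem_sup_left hu
  obtain ⟨t, ht, y, hy, hty⟩ := hTcm2.mem_sup hu'
  obtain ⟨u', hu'', e, he, hue⟩ := hUaX.mem_sup hy
  refine ⟨u'⁻¹, Ua.inv_mem hu'', e⁻¹, X.inv_mem he, ?_⟩
  have : u * u'⁻¹ * e⁻¹ = t := by
    rw [← hty, ← hue, hUaX u' hu'' e he]
    group
  rw [this]
  exact hTA ht

/-- `U/K` of `p`-power exponent gives `U = SK`. -/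
theorem sylAct {p : ℕ} [hp : Fact p.Prime] {S L U K : Subgroup G} (hL : Finite L)
    (hidx : ¬ p ∣ S.relIndex L) (hSU : S ≤ U) (hUL : U ≤ L) (hKU : K ≤ U) (hKn : ∀ g ∈ U, cj g K = K)
    (hpow : ∀ g ∈ U, ∃ k, g ^ (p ^ k) ∈ K) : U ≤ S ⊔ K := by
  haveI : Finite U := fin_le hUL
  have h1 : ¬ p ∣ S.relIndex U := by
    intro h
    apply hidx
    rw [← relIndex_mul_relIndex S U L hSU hUL]
    exact h.mul_right _
  have hSK : S ⊔ K ≤ U := sup_le hSU hKU
  have h2 : ¬ p ∣ (S ⊔ K).relIndex U := by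
    intro h
    apply h1
    rw [← relIndex_mul_relIndex S (S ⊔ K) U le_sup_left hSK]
    exact h.mul_left _
  have hn : (K.subgroupOf U).Normal := by
    constructor
    intro x hx g
    rw [mem_subgroupOf] at hx ⊢
    have := conj_mem_cj (g := (g : G)) hx
    rwa [hKn g g.2] at this
  have hpg : IsPGroup p (U ⧸ K.subgroupOf U) := by
    intro x
    obtain ⟨g, rfl⟩ := QuotientGroup.mk_surjective x
    obtain ⟨k, hk⟩ := hpow g g.2
    refine ⟨k, ?_⟩
    rw [← QuotientGroup.mk_pow, QuotientGroup.eq_one_iff, mem_subgroupOf]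
    exact hk
  obtain ⟨n, hn'⟩ := (IsPGroup.iff_card).mp hpg
  have h3 : K.relIndex U = p ^ n := hn'
  have h4 : (S ⊔ K).relIndex U ∣ p ^ n := by
    rw [← h3, ← relIndex_mul_relIndex K (S ⊔ K) U le_sup_right hSK]
    exact dvd_mul_left _ _
  obtain ⟨j, -, hj⟩ := (Nat.dvd_prime_pow hp.out).mp h4
  have hj0 : j = 0 := by
    by_contra hne
    apply h2
    rw [hj]
    exact dvd_pow_self p hne
  rw [hj0, pow_zero, relIndex_eq_one] at hj
  exact hj

/-- if `g` acts trivially on `N/K` and a `p`-power of `g` centralises `K`, then one centralises `N`. -/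
theorem unip_step {p : ℕ} [hp : Fact p.Prime] {g : G} {N K : Subgroup G} (hKN : K ≤ N) [Finite K]
    (hK : IsPGroup p K) (h1 : ∀ x ∈ N, g * x * g⁻¹ * x⁻¹ ∈ K)
    (h2 : ∃ m, ∀ k ∈ K, g ^ (p ^ m) * k = k * g ^ (p ^ m)) :
    ∃ m, ∀ x ∈ N, g ^ (p ^ m) * x = x * g ^ (p ^ m) := by
  obtain ⟨m, hm⟩ := h2
  obtain ⟨e, he⟩ := (IsPGroup.iff_card).mp hK
  have h3 : ∀ n : ℕ, ∀ x ∈ N, g ^ n * x * (g ^ n)⁻¹ * x⁻¹ ∈ K := by
    intro n
    induction n with
    | zero => intro x hx; simp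
    | succ n ih =>
      intro x hx
      have e1 : g ^ (n + 1) * x * (g ^ (n + 1))⁻¹ * x⁻¹ =
          (g * (g ^ n * x * (g ^ n)⁻¹ * x⁻¹) * g⁻¹ * (g ^ n * x * (g ^ n)⁻¹ * x⁻¹)⁻¹) *
            (g ^ n * x * (g ^ n)⁻¹ * x⁻¹) * (g * x * g⁻¹ * x⁻¹) := by
        rw [pow_succ']
        group
      rw [e1]
      exact K.mul_mem (K.mul_mem (h1 _ (hKN (ih x hx))) (ih x hx)) (h1 x hx)
  set h := g ^ (p ^ m) with hh
  have h4 : ∀ x ∈ N, h * x * h⁻¹ * x⁻¹ ∈ K := fun x hx => h3 _ x hx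
  refine ⟨m + e, ?_⟩
  intro x hx
  have h5 : ∀ n : ℕ, h ^ n * x * (h ^ n)⁻¹ = (h * x * h⁻¹ * x⁻¹) ^ n * x := by
    intro n
    induction n with
    | zero => simp
    | succ n ih =>
      have h6 : h * (h * x * h⁻¹ * x⁻¹) ^ n = (h * x * h⁻¹ * x⁻¹) ^ n * h :=
        hm _ (K.pow_mem (h4 x hx) n)
      calc h ^ (n + 1) * x * (h ^ (n + 1))⁻¹ = h * (h ^ n * x * (h ^ n)⁻¹) * h⁻¹ := by
            rw [pow_succ']; group
        _ = h * ((h * x * h⁻¹ * x⁻¹) ^ n * x) * h⁻¹ := by rw [ih]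
        _ = (h * (h * x * h⁻¹ * x⁻¹) ^ n) * x * h⁻¹ := by group
        _ = (h * x * h⁻¹ * x⁻¹) ^ n * (h * x * h⁻¹ * x⁻¹) * x := by rw [h6]; group
        _ = _ := by rw [← pow_succ]
  have h7 := h5 (p ^ e)
  have h8 : (h * x * h⁻¹ * x⁻¹) ^ (p ^ e) = 1 := by
    have : (⟨h * x * h⁻¹ * x⁻¹, h4 x hx⟩ : K) ^ (p ^ e) = 1 := by
      rw [← he]
      exact pow_card_eq_one'
    exact congrArg Subtype.val this
  rw [h8, one_mul] at h7
  rw [pow_add, pow_mul, ← hh]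
  calc h ^ p ^ e * x = (h ^ p ^ e * x * (h ^ p ^ e)⁻¹) * h ^ p ^ e := by group
    _ = x * h ^ p ^ e := by rw [h7]

/-- the elements of `M` acting trivially on `A/B`. -/
def tr (M A B : Subgroup G) (hB : ∀ g ∈ M, cj g B = B) : Subgroup G where
  carrier := {g | g ∈ M ∧ ∀ a ∈ A, g * a * g⁻¹ * a⁻¹ ∈ B}
  one_mem' := ⟨M.one_mem, fun a _ => by simp⟩
  mul_mem' := by
    rintro g h ⟨hg, hg'⟩ ⟨hh, hh'⟩
    refine ⟨M.mul_mem hg hh, fun a ha => ?_⟩
    have e : g * h * a * (g * h)⁻¹ * a⁻¹ = (g * (h * a * h⁻¹ * a⁻¹) * g⁻¹) * (g * a * g⁻¹ * a⁻¹) := by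
      group
    rw [e]
    apply B.mul_mem _ (hg' a ha)
    have := conj_mem_cj (g := g) (hh' a ha)
    rwa [hB g hg] at this
  inv_mem' := by
    rintro g ⟨hg, hg'⟩
    refine ⟨M.inv_mem hg, fun a ha => ?_⟩
    have e : g⁻¹ * a * g⁻¹⁻¹ * a⁻¹ = g⁻¹ * (g * a * g⁻¹ * a⁻¹)⁻¹ * g⁻¹⁻¹ := by group
    rw [e]
    have := conj_mem_cj (g := g⁻¹) (B.inv_mem (hg' a ha))
    rwa [hB _ (M.inv_mem hg)] at this

theorem mem_tr {M A B : Subgroup G} {hB : ∀ g ∈ M, cj g B = B} {g : G} :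
    g ∈ tr M A B hB ↔ g ∈ M ∧ ∀ a ∈ A, g * a * g⁻¹ * a⁻¹ ∈ B := Iff.rfl

theorem tr_n {M A B : Subgroup G} {hB : ∀ g ∈ M, cj g B = B} (hA : ∀ g ∈ M, cj g A = A) :
    ∀ g ∈ M, cj g (tr M A B hB) = tr M A B hB := by
  have key : ∀ g ∈ M, cj g (tr M A B hB) ≤ tr M A B hB := by
    intro g hg x hx
    rw [mem_cj] at hx
    obtain ⟨h1, h2⟩ := hx
    refine ⟨?_, ?_⟩
    · have := M.mul_mem (M.mul_mem hg h1) (M.inv_mem hg)
      have e : g * (g⁻¹ * x * g) * g⁻¹ = x := by group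
      rwa [e] at this
    · intro a ha
      have ha' : g⁻¹ * a * g ∈ A := by
        rw [← mem_cj, hA g hg]
        exact ha
      have h3 := conj_mem_cj (g := g) (h2 _ ha')
      rw [hB g hg] at h3
      have e : g * (g⁻¹ * x * g * (g⁻¹ * a * g) * (g⁻¹ * x * g)⁻¹ * (g⁻¹ * a * g)⁻¹) * g⁻¹ =
          x * a * x⁻¹ * a⁻¹ := by group
      rwa [e] at h3
  intro g hg
  apply le_antisymm (key g hg)
  rw [le_cj_iff]
  exact key _ (M.inv_mem hg)

namespace Loc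

variable {p q : ℕ} [hp : Fact p.Prime] {S L Q V C M : Subgroup G}
variable (c : Loc p q S L Q V C M)
include c

theorem pgV : IsPGroup p V := c.pg.to_le c.VS

theorem pgZ : IsPGroup p (cen S) := c.pg.to_le c.ZS

theorem pgC : IsPGroup p C := c.pg.to_le (c.CZ.trans c.ZS)

theorem MC : ∀ m ∈ M, cj m C = C := fun m hm => c.Cn m (c.ML hm)

/-- `M` normalises `R = [V,S]`. -/
theorem cjR {g : G} (hg : g ∈ M) : cj g ⁅V, S⁆ = ⁅V, S⁆ := by
  haveI := c.finZ
  haveI : Finite C := fin_le c.CZ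
  have hMV : ∀ m ∈ M, cj m V = V := fun m hm => c.Vn m (c.ML hm)
  have hMb : ∀ m ∈ M, cj m (⊥ : Subgroup G) = ⊥ := fun m hm => Subgroup.map_bot _
  set U := tr M V (cen S) c.MZ ⊓ tr M (cen S) C c.MC with hU
  set K := tr M V ⊥ hMb with hK
  have hKV : ∀ k ∈ K, ∀ v ∈ V, k * v = v * k := by
    intro k hk v hv
    have := hk.2 v hv
    rw [mem_bot] at this
    have h2 := mul_inv_eq_one.mp this
    calc k * v = (k * v * k⁻¹) * k := by group
      _ = v * k := by rw [h2]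
  have hn : ∀ m ∈ M, cj m U = U := fun m hm => cj_inf_eq (tr_n hMV m hm) (tr_n c.MZ m hm)
  have hSU : S ≤ U := by
    intro s hs
    refine ⟨⟨c.SM hs, fun v hv => c.quad v hv s hs⟩, ⟨c.SM hs, fun z hz => ?_⟩⟩
    have h1 : s * z = z * s := cen_comm hz hs
    rw [h1]
    have : z * s * s⁻¹ * z⁻¹ = 1 := by group
    rw [this]
    exact C.one_mem
  have hKU : K ≤ U := by
    intro k hk
    have h1 : ∀ v ∈ V, k * v * k⁻¹ * v⁻¹ = 1 := fun v hv => by
      rw [hKV k hk v hv]; group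
    refine ⟨⟨hk.1, fun v hv => by rw [h1 v hv]; exact one_mem _⟩,
      ⟨hk.1, fun z hz => by rw [h1 z (c.ZV hz)]; exact one_mem _⟩⟩
  have hUM : U ≤ M := fun x hx => hx.1.1
  have hsyl : U ≤ S ⊔ K := by
    apply sylAct c.fin c.idx hSU (hUM.trans c.ML) hKU
    · exact fun m hm => tr_n hMV m (hUM hm)
    · intro g hg
      have h1 : ∃ m, ∀ k ∈ C, g ^ (p ^ m) * k = k * g ^ (p ^ m) :=
        ⟨0, fun k hk => (c.CL k hk _ (L.pow_mem (c.ML (hUM hg)) _)).symm⟩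
      have h2 := unip_step c.CZ c.pgC hg.2.2 h1
      obtain ⟨m, hm⟩ := unip_step c.ZV c.pgZ hg.1.2 h2
      refine ⟨m, M.pow_mem (hUM hg) _, fun v hv => ?_⟩
      rw [hm v hv, mem_bot]
      group
  have hKn : ∀ s ∈ S, cj s K = K := fun s hs => tr_n hMV s (c.SM hs)
  haveI : Finite (⁅V, S⁆ : Subgroup G) := fin_le c.VS_le
  apply cj_eq_of_le
  rw [cj_comm, Subgroup.commutator_le, hMV g hg]
  intro v hv s hs
  have h1 : s ∈ S ⊔ K := by
    apply hsyl
    have h2 := cj_mono (g := g) hSU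
    rw [hn g hg] at h2
    exact h2 hs
  obtain ⟨s', hs', k, hk, rfl⟩ := mem_sup_of_norm hKn h1
  have : ⁅v, s' * k⁆ = ⁅v, s'⁆ := by
    rw [commutatorElement_def, commutatorElement_def]
    have h3 : k * v⁻¹ = v⁻¹ * k := hKV k hk _ (V.inv_mem hv)
    calc v * (s' * k) * v⁻¹ * (s' * k)⁻¹ = v * s' * (k * v⁻¹) * k⁻¹ * s'⁻¹ := by group
      _ = v * s' * v⁻¹ * s'⁻¹ := by rw [h3]; group
  rw [this]
  exact commutator_mem_commutator hv hs'

theorem cjR_of_le {g : G} (hg : g ∈ L) (h : cj g ⁅V, S⁆ ≤ cen S) : cj g ⁅V, S⁆ = ⁅V, S⁆ :=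
  c.cjR (c.mem_M_of_R hg h)

/-- If `R^g ≤ Z` then `g ∈ M`; hence `R ≤ Z ∩ Z^g` is impossible for `g ∉ M`. -/
theorem R_not_le {g : G} (hg : g ∈ L) (hgM : g ∉ M) : ¬ cj g ⁅V, S⁆ ≤ cen S :=
  fun h => hgM (c.mem_M_of_R hg h)

theorem crit_R {q' : ℕ} {S' L' Q' V' C' M' : Subgroup G} (c' : Loc p q' S' L' Q' V' C' M')
    (h1 : V ≤ S') (h2 : V' ≤ S) (hnc : ¬ Cm V V') : ⁅V', S'⁆ = ⁅V, S⁆ := (c.crit c' h1 h2 hnc).2.2.2.2.2.2

theorem crit_S {q' : ℕ} {S' L' Q' V' C' M' : Subgroup G} (c' : Loc p q' S' L' Q' V' C' M')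
    (h1 : V ≤ S') (h2 : V' ≤ S) (hnc : ¬ Cm V V') : V' ⊔ Q = S := (c.crit c' h1 h2 hnc).2.1

theorem crit_mem {q' : ℕ} {S' L' Q' V' C' M' : Subgroup G} (c' : Loc p q' S' L' Q' V' C' M')
    (h1 : V ≤ S') (h2 : V' ≤ S) (hnc : ¬ Cm V V') {v : G} (hv : v ∈ V) (h : ∀ y ∈ V', y * v = v * y) :
    v ∈ cen S := by
  have hV'Q : ¬ V' ≤ Q := fun h => hnc (c.VQc.mono le_rfl h)
  obtain ⟨b, hb, hbQ⟩ := SetLike.not_le_iff_exists.mp hV'Q
  exact c.fix (h2 hb) hbQ hv (h b hb)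

theorem cj_comm' (g : G) : ⁅cj g V, cj g S⁆ = cj g ⁅V, S⁆ := (cj_comm g V S).symm

/-- **The extension lemma.** -/
theorem extend {q' : ℕ} {S' L' Q' V' C' M' : Subgroup G} (c' : Loc p q' S' L' Q' V' C' M')
    (h1 : V ≤ S') (h2 : V' ≤ S) (hnc : ¬ Cm V V') {g : G} (hg : g ∈ L) (hgM : g ∉ M) {E : Subgroup G}
    (hVE : V ≤ E) (hES : ∀ s ∈ S, cj s E = E) (hE' : cj g E ≤ S') : ∀ l ∈ L, cj l E = E := by
  haveI := c'.finS
  haveI : Finite (cj g E) := fin_le hE'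
  have hR := c.crit_R c' h1 h2 hnc
  have hVE' : V ≤ cj g E := by
    have := cj_mono (g := g) hVE
    rwa [c.Vn g hg] at this
  have k1 : ∀ b ∈ V', cj b (cj g E) = cj g E := by
    intro b hb
    apply cj_eq_of_forall
    intro e he
    have h3 : ⁅b, e⁆ ∈ cj g E := by
      apply hVE'
      apply c.ZV
      apply c.VS_le
      rw [← hR]
      exact commutator_mem_commutator hb (hE' he)
    have e1 : b * e * b⁻¹ = ⁅b, e⁆ * e := by rw [commutatorElement_def]; group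
    rw [e1]
    exact mul_mem h3 he
  have k2 : ∀ k ∈ cj g S, cj k (cj g E) = cj g E := by
    intro k hk
    rw [mem_cj] at hk
    have := hES _ hk
    have e1 : k * g = g * (g⁻¹ * k * g) := by group
    rw [cj_mul, e1, ← cj_mul, this]
  have k3 : ∀ k ∈ Q, cj k (cj g E) = cj g E := by
    intro k hk
    apply k2
    have := cj_mono (g := g) c.QS
    rw [c.Qn g hg] at this
    exact this hk
  have k4 : ∀ k ∈ L, cj k (cj g E) = cj g E := by
    rw [← c.gen g hg hgM]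
    apply norm_sup _ k2
    rw [← c.crit_S c' h1 h2 hnc]
    exact norm_sup k1 k3
  have k5 : cj g E = E := by
    have := k4 _ (L.inv_mem hg)
    rw [cj_inv_cj] at this
    exact this.symm
  rw [k5] at k4
  exact k4

theorem Q_le_cjS {g : G} (hg : g ∈ L) : Q ≤ cj g S := by
  have := cj_mono (g := g) c.QS
  rwa [c.Qn g hg] at this

/-- `|B : B ∩ Q| ≤ q` for `B ≤ S`. -/
theorem card_le_q' {B : Subgroup G} (hB : B ≤ S) :
    Nat.card B ≤ q * Nat.card (B ⊓ Q : Subgroup G) ∧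
      (q * Nat.card (B ⊓ Q : Subgroup G) ≤ Nat.card B → B ⊔ Q = S) := by
  haveI := c.finS
  haveI := c.finQ
  haveI : Finite B := fin_le hB
  haveI : Finite (B ⊓ Q : Subgroup G) := fin_le inf_le_left
  have h1 : Nat.card (B ⊔ Q : Subgroup G) * Nat.card (B ⊓ Q : Subgroup G) = Nat.card B * Nat.card Q :=
    card_mul_norm fun k hk => c.Qn k (c.SL (hB hk))
  have hle : B ⊔ Q ≤ S := sup_le hB c.QS
  have h2 := card_mono' hle
  rw [c.cardS] at h2
  have hQ : 0 < Nat.card Q := Nat.card_pos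
  have hI : 0 < Nat.card (B ⊓ Q : Subgroup G) := Nat.card_pos
  refine ⟨?_, fun h => ?_⟩
  · have h3 : Nat.card B * Nat.card Q ≤ (q * Nat.card (B ⊓ Q : Subgroup G)) * Nat.card Q := by
      rw [← h1]
      calc _ ≤ q * Nat.card Q * Nat.card (B ⊓ Q : Subgroup G) := by gcongr
        _ = _ := by ring
    exact Nat.le_of_mul_le_mul_right h3 hQ
  · apply eq_of_card hle
    rw [c.cardS]
    have h3 : q * Nat.card Q * Nat.card (B ⊓ Q : Subgroup G) ≤
        Nat.card (B ⊔ Q : Subgroup G) * Nat.card (B ⊓ Q : Subgroup G) := by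
      rw [h1]
      calc _ = (q * Nat.card (B ⊓ Q : Subgroup G)) * Nat.card Q := by ring
        _ ≤ _ := by gcongr
    exact Nat.le_of_mul_le_mul_right h3 hI

theorem centU {B : Subgroup G} (hB : B ≤ S) : B ⊓ centralizer (V : Set G) = B ⊓ Q := by
  apply le_antisymm
  · apply le_inf inf_le_left
    rw [← c.cV]
    exact inf_le_inf_right _ hB
  · apply le_inf inf_le_left
    refine inf_le_right.trans ?_
    rw [← cm_iff_le]
    exact c.VQc.symm

/-- **Lemma M.** -/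
theorem lemmaM {q₁ q' : ℕ} {L₁ Q₁ V₁ C₁ M₁ S' L' Q' V' C' M' : Subgroup G}
    (c₁ : Loc p q₁ S L₁ Q₁ V₁ C₁ M₁) (c' : Loc p q' S' L' Q' V' C' M') (h01 : Cm V V₁)
    (h1' : Cm V₁ V') (hS' : ∀ l ∈ L₁, cj l V ≤ S') (hS : ∀ l ∈ L₁, cj l V' ≤ S) (hnc : ¬ Cm V V') :
    ⁅V, S⁆ ≤ C₁ := by
  haveI := c.finS
  have hVS' : V ≤ S' := by
    have := hS' 1 L₁.one_mem
    rwa [cj_one] at this
  have hV'S : V' ≤ S := by
    have := hS 1 L₁.one_mem
    rwa [cj_one] at this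
  have hR := c.crit_R c' hVS' hV'S hnc
  have hback : ∀ l ∈ L₁, cj l ⁅V, S⁆ ≤ C₁ → ⁅V, S⁆ ≤ C₁ := by
    intro l hl h
    have := cj_mono (g := l⁻¹) h
    rwa [cj_inv_cj, c₁.Cn _ (L₁.inv_mem hl)] at this
  by_cases hcase : ∃ l ∈ L₁, l ∉ M₁ ∧ ¬ Cm (cj l V) V'
  · obtain ⟨l, hl, hlM, hlc⟩ := hcase
    have h3 := (c.cj' l).crit_R c' (hS' l hl) (by
      rw [le_cj_iff]; exact hS _ (L₁.inv_mem hl)) hlc
    rw [c.cj_comm', hR] at h3
    intro x hx
    apply c₁.two' hl hlM (c.VS_le hx)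
    rw [h3] at hx
    exact cj_mono c.VS_le hx
  push Not at hcase
  obtain ⟨l₀, hl₀, hl₀M⟩ := c₁.ex
  obtain ⟨A, hA, hAQ₁⟩ := c₁.big
  obtain ⟨a, ha, haQ⟩ := SetLike.not_le_iff_exists.mp hAQ₁
  have haS := hA.le ha
  have haL := c₁.SL haS
  have hal₀ : a * l₀ ∈ L₁ := L₁.mul_mem haL hl₀
  have m1 : l₀⁻¹ * (a * l₀) ∉ M₁ := by
    have := c₁.ti l₀ hl₀ hl₀M a haS haQ
    rwa [mul_assoc] at this
  have m2 : (a * l₀)⁻¹ * l₀ ∉ M₁ := by
    intro h
    apply m1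
    have := M₁.inv_mem h
    have e : ((a * l₀)⁻¹ * l₀)⁻¹ = l₀⁻¹ * (a * l₀) := by group
    rwa [e] at this
  have hVQ₁ : V ≤ Q₁ := c₁.le_Q c.VS h01.symm
  have hcjQ : ∀ l ∈ L₁, cj l V ≤ Q₁ := by
    intro l hl
    have := cj_mono (g := l) hVQ₁
    rwa [c₁.Qn l hl] at this
  have hQcj : ∀ l ∈ L₁, Q₁ ≤ cj l S := fun l hl => c₁.Q_le_cjS hl
  by_cases hUU : Cm (cj l₀ V) (cj (a * l₀) V)
  swap
  · have h3 := (c.cj' l₀).crit_R (c.cj' (a * l₀)) ((hcjQ _ hl₀).trans (hQcj _ hal₀))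
      ((hcjQ _ hal₀).trans (hQcj _ hl₀)) hUU
    rw [c.cj_comm', c.cj_comm'] at h3
    apply hback l₀ hl₀
    intro x hx
    apply c₁.two hl₀ hal₀ m1 (cj_mono c.VS_le hx)
    rw [← h3] at hx
    exact cj_mono c.VS_le hx
  have hVV₁ : V ⊓ V₁ = cen S := by
    apply le_antisymm
    · rintro x ⟨hx, hx1⟩
      exact c.crit_mem c' hVS' hV'S hnc hx fun y hy => (h1' x hx1 y hy).symm
    · exact le_inf c.ZV c₁.ZV
  set U := cj l₀ V with hU
  have hUa : cj a U = cj (a * l₀) V := cj_mul _ _ _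
  have hUX : Cm U V₁ := by
    have := h01.cj l₀
    rwa [c₁.Vn l₀ hl₀] at this
  set B := A ⊓ Q₁ with hB
  have hBS' : ∀ l ∈ L₁, B ≤ cj l S := fun l hl => inf_le_right.trans (hQcj l hl)
  have hcentU : B ⊓ centralizer (U : Set G) = B ⊓ cj l₀ Q := (c.cj' l₀).centU (hBS' l₀ hl₀)
  obtain ⟨j1, j2⟩ := lemmaJ (W1 := cj l₀ V') (W2 := cj (a * l₀) V') (q := q) hA.comm
    (inf_le_left : B ≤ A) ha (c₁.large hA hAQ₁).2.2 (c₁.Vn a haL) ((hcjQ l₀ hl₀).trans c₁.QS)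
    (by rw [hUa]; exact (hcjQ _ hal₀).trans c₁.QS) (c.Vab.cj l₀) (by rw [hUa]; exact hUU) hUX
    (by
      rw [hUa, cm_cj_left, cj_mul]
      exact (hcase _ (L₁.mul_mem (L₁.inv_mem hl₀) hal₀) m1).symm)
    (by
      have := h1'.symm.cj l₀
      rwa [c₁.Vn l₀ hl₀] at this)
    (by
      intro u hu hw
      rw [mem_cj] at hu
      have h3 : l₀⁻¹ * u * l₀ ∈ cen S := by
        apply c.crit_mem c' hVS' hV'S hnc hu
        intro y hy
        have h4 := hw _ (conj_mem_cj (g := l₀) hy)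
        calc y * (l₀⁻¹ * u * l₀) = l₀⁻¹ * (l₀ * y * l₀⁻¹ * u) * l₀ := by group
          _ = l₀⁻¹ * (u * (l₀ * y * l₀⁻¹)) * l₀ := by rw [h4]
          _ = _ := by group
      rw [← mem_cj] at h3
      exact c₁.cjZV hl₀ h3)
    (by
      rw [cm_cj_left, cj_mul]
      exact (hcase _ (L₁.mul_mem (L₁.inv_mem hal₀) hl₀) m2).symm)
    (by
      have := h1'.symm.cj (a * l₀)
      rwa [c₁.Vn _ hal₀] at this)
    (by
      intro u hu hw
      rw [hUa, mem_cj] at hu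
      have h3 : (a * l₀)⁻¹ * u * (a * l₀) ∈ cen S := by
        apply c.crit_mem c' hVS' hV'S hnc hu
        intro y hy
        have h4 := hw _ (conj_mem_cj (g := a * l₀) hy)
        calc y * ((a * l₀)⁻¹ * u * (a * l₀)) =
              (a * l₀)⁻¹ * (a * l₀ * y * (a * l₀)⁻¹ * u) * (a * l₀) := by group
          _ = (a * l₀)⁻¹ * (u * (a * l₀ * y * (a * l₀)⁻¹)) * (a * l₀) := by rw [h4]
          _ = _ := by group
      rw [← mem_cj] at h3
      exact c₁.cjZV hal₀ h3)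
    (by
      have h3 : U ⊓ V₁ = cj l₀ (V ⊓ V₁) := by rw [cj_inf, c₁.Vn l₀ hl₀]
      rw [h3, hVV₁, card_cj, card_cj, c.cardV])
    (by
      rw [hcentU]
      exact ((c.cj' l₀).card_le_q' (hBS' l₀ hl₀)).1)
  rw [hcentU] at j1
  have hBQ : B ⊔ cj l₀ Q = cj l₀ S := ((c.cj' l₀).card_le_q' (hBS' l₀ hl₀)).2 (le_of_eq j1.symm)
  apply hback l₀ hl₀
  rw [cj_comm, Subgroup.commutator_le]
  intro u hu s hs
  rw [← hBQ] at hs
  obtain ⟨b, hb, t, ht, rfl⟩ := mem_sup_of_norm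
    (fun k hk => (c.cj' l₀).Qn k ((c.cj' l₀).SL (hBS' l₀ hl₀ hk))) hs
  have e1 : ⁅u, b * t⁆ = ⁅u, b⁆ := by
    rw [commutatorElement_def, commutatorElement_def]
    have h3 : t * u⁻¹ = u⁻¹ * t := ((c.cj' l₀).VQc _ (inv_mem hu) t ht).symm
    calc u * (b * t) * u⁻¹ * (b * t)⁻¹ = u * b * (t * u⁻¹) * t⁻¹ * b⁻¹ := by group
      _ = u * b * u⁻¹ * b⁻¹ := by rw [h3]; group
  rw [e1]
  obtain ⟨u', hu', e, he, hx⟩ := j2 u hu
  rw [hUa] at hu'
  have hbx : (u * u' * e) * b = b * (u * u' * e) :=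
    (c₁.large hA hAQ₁).2.2.comm _ hx b (mem_sup_left hb)
  have heb : e * b = b * e := c₁.VQc e he b hb.2
  -- d' = [u',b]
  have hd' : u' * b * u'⁻¹ * b⁻¹ ∈ cj (a * l₀) (cen S) := by
    have h3 := (c.cj' (a * l₀)).quad u' hu' b⁻¹ (inv_mem (hBS' _ hal₀ hb))
    have h4 := (c.cj' (a * l₀)).quad u' hu' b (hBS' _ hal₀ hb)
    have h5 : u' * b * u'⁻¹ * b⁻¹ = (cm u' b)⁻¹ := by unfold cm; group
    rw [h5, cj_cen]
    exact inv_mem h4
  have hd : u * b * u⁻¹ * b⁻¹ ∈ cj l₀ (cen S) := by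
    have h4 := (c.cj' l₀).quad u hu b (hBS' _ hl₀ hb)
    have h5 : u * b * u⁻¹ * b⁻¹ = (cm u b)⁻¹ := by unfold cm; group
    rw [h5, cj_cen]
    exact inv_mem h4
  have h6 : u * b * u⁻¹ * b⁻¹ = (u' * b * u'⁻¹ * b⁻¹)⁻¹ := by
    set d := u' * b * u'⁻¹ * b⁻¹ with hdd
    have h7 : u * d = d * u := by
      have := hUX u hu d (c₁.cjZV hal₀ hd')
      exact this
    have h8 : u' * b = d * b * u' := by rw [hdd]; group
    have h9 : u * u' * b = b * u * u' := by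
      have h10 : (u * u' * b) * e = (b * u * u') * e := by
        calc (u * u' * b) * e = (u * u') * (b * e) := by group
          _ = (u * u') * (e * b) := by rw [heb]
          _ = (u * u' * e) * b := by group
          _ = b * (u * u' * e) := hbx
          _ = (b * u * u') * e := by group
      exact mul_right_cancel h10
    have h11 : d * (u * b) * u' = (b * u) * u' := by
      calc d * (u * b) * u' = (d * u) * b * u' := by group
        _ = (u * d) * b * u' := by rw [h7]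
        _ = u * (d * b * u') := by group
        _ = u * (u' * b) := by rw [h8]
        _ = u * u' * b := by group
        _ = (b * u) * u' := h9
    have h12 : d * (u * b) = b * u := mul_right_cancel h11
    calc u * b * u⁻¹ * b⁻¹ = d⁻¹ * (d * (u * b)) * u⁻¹ * b⁻¹ := by group
      _ = d⁻¹ * (b * u) * u⁻¹ * b⁻¹ := by rw [h12]
      _ = d⁻¹ := by group
  rw [commutatorElement_def]
  apply c₁.two hl₀ hal₀ m1 hd
  rw [h6]
  exact inv_mem hd'

end Loc

end Cfsg.Agent.H260.GN
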