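import Cfsg.Agent.H260.GN3

/-!
# Glauberman-Niles, part 4: words; no non-commuting pair at distance at least two
-/

set_option autoImplicit false
set_option linter.unusedSectionVars false
set_option linter.unusedVariables false
set_option linter.style.haveILetI false

namespace Cfsg.Agent.H260.GN

open Subgroup Push
open scoped commutatorElement

variable {G : Type*} [Group G] {ι : Type*}

/-- products of `n` elements of the `L i`. -/
def Wd (L : ι → Subgroup G) : ℕ → Set G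
  | 0 => {1}
  | n + 1 => {w | ∃ i, ∃ l ∈ L i, ∃ w' ∈ Wd L n, w = l * w'}

section words

variable {L : ι → Subgroup G}

theorem wd_zero {w : G} : w ∈ Wd L 0 ↔ w = 1 := Iff.rfl

theorem wd_succ {n : ℕ} {w : G} : w ∈ Wd L (n + 1) ↔ ∃ i, ∃ l ∈ L i, ∃ w' ∈ Wd L n, w = l * w' := Iff.rfl

theorem wd_cons {n : ℕ} {i : ι} {l w : G} (hl : l ∈ L i) (hw : w ∈ Wd L n) : l * w ∈ Wd L (n + 1) :=
  ⟨i, l, hl, w, hw, rfl⟩

theorem wd_single {i : ι} {l : G} (hl : l ∈ L i) : l ∈ Wd L 1 :=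
  ⟨i, l, hl, 1, rfl, (mul_one l).symm⟩

theorem wd_mul {m n : ℕ} {a b : G} (ha : a ∈ Wd L m) (hb : b ∈ Wd L n) : a * b ∈ Wd L (m + n) := by
  induction m generalizing a with
  | zero =>
    rw [wd_zero.mp ha, one_mul, zero_add]
    exact hb
  | succ m ih =>
    obtain ⟨i, l, hl, w', hw', rfl⟩ := ha
    rw [mul_assoc, show m + 1 + n = (m + n) + 1 by omega]
    exact wd_cons hl (ih hw')

theorem wd_snoc {n : ℕ} {i : ι} {l w : G} (hw : w ∈ Wd L n) (hl : l ∈ L i) : w * l ∈ Wd L (n + 1) :=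
  wd_mul hw (wd_single hl)

theorem wd_one (i : ι) (n : ℕ) : (1 : G) ∈ Wd L n := by
  induction n with
  | zero => rfl
  | succ n ih => exact ⟨i, 1, (L i).one_mem, 1, ih, (mul_one 1).symm⟩

theorem wd_le (i : ι) {m n : ℕ} (h : m ≤ n) {w : G} (hw : w ∈ Wd L m) : w ∈ Wd L n := by
  have := wd_mul hw (wd_one (L := L) i (n - m))
  rwa [mul_one, Nat.add_sub_cancel' h] at this

theorem wd_inv {n : ℕ} {w : G} (hw : w ∈ Wd L n) : w⁻¹ ∈ Wd L n := by
  induction n generalizing w with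
  | zero => rw [wd_zero] at hw ⊢; rw [hw, inv_one]
  | succ n ih =>
    obtain ⟨i, l, hl, w', hw', rfl⟩ := hw
    rw [mul_inv_rev]
    exact wd_snoc (ih hw') ((L i).inv_mem hl)

theorem wd_succ_right {n : ℕ} {w : G} (hw : w ∈ Wd L (n + 1)) :
    ∃ w' ∈ Wd L n, ∃ i, ∃ l ∈ L i, w = w' * l := by
  obtain ⟨i, l, hl, w', hw', e⟩ := wd_inv hw
  refine ⟨w'⁻¹, wd_inv hw', i, l⁻¹, (L i).inv_mem hl, ?_⟩
  rw [← mul_inv_rev, ← e, inv_inv]

theorem wd_symm {n : ℕ} {x y : G} (h : x⁻¹ * y ∈ Wd L n) : y⁻¹ * x ∈ Wd L n := by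
  have := wd_inv h
  rwa [mul_inv_rev, inv_inv] at this

theorem wd_trans {m n : ℕ} {x y z : G} (h : x⁻¹ * y ∈ Wd L m) (h' : y⁻¹ * z ∈ Wd L n) :
    x⁻¹ * z ∈ Wd L (m + n) := by
  have := wd_mul h h'
  have e : x⁻¹ * y * (y⁻¹ * z) = x⁻¹ * z := by group
  rwa [e] at this

end words

/-- all `V i`, `(V j)^w`, `w` a word of length `n`, commute. -/
def CommN (L V : ι → Subgroup G) (n : ℕ) : Prop := ∀ w ∈ Wd L n, ∀ i j, Cm (V i) (cj w (V j))

section fam

variable {p : ℕ} [hp : Fact p.Prime] {S : Subgroup G} {q : ι → ℕ} {L Q V C M : ι → Subgroup G}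

theorem CommN.le {m n : ℕ} (h : CommN L V n) (hmn : m ≤ n) : CommN L V m :=
  fun w hw i j => h w (wd_le i hmn hw) i j

theorem CommN.cm {n : ℕ} (h : CommN L V n) {x y : G} (hxy : x⁻¹ * y ∈ Wd L n) (i j : ι) :
    Cm (cj x (V i)) (cj y (V j)) := by
  have := (h _ hxy i j).cj x
  rw [cj_mul] at this
  have e : x * (x⁻¹ * y) = y := by group
  rwa [e] at this

theorem CommN.cm0 {n : ℕ} (h : CommN L V n) (i j : ι) : Cm (V i) (V j) := by
  have := h 1 (wd_one i n) i j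
  rwa [cj_one] at this

variable (loc : ∀ i, Loc p (q i) S (L i) (Q i) (V i) (C i) (M i))
include loc

theorem inQ_aux {n : ℕ} : CommN L V n → (∀ w ∈ Wd L (n + 1), ∀ j, cj w (V j) ≤ S) ∧
    (∀ i, ∀ l ∈ L i, ∀ w ∈ Wd L n, ∀ j, cj (l * w) (V j) ≤ Q i) := by
  induction n with
  | zero =>
    intro h
    have h1 : ∀ i, ∀ l ∈ L i, ∀ w ∈ Wd L 0, ∀ j, cj (l * w) (V j) ≤ Q i := by
      intro i l hl w hw j
      rw [wd_zero.mp hw, mul_one, cj_le_iff, (loc i).Qn _ ((L i).inv_mem hl)]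
      exact (loc i).le_Q (loc j).VS (h.cm0 i j)
    refine ⟨?_, h1⟩
    intro w hw j
    obtain ⟨i, l, hl, w', hw', rfl⟩ := hw
    exact (h1 i l hl w' hw' j).trans (loc i).QS
  | succ n ih =>
    intro h
    have ih' := ih (h.le (Nat.le_succ n))
    have h1 : ∀ i, ∀ l ∈ L i, ∀ w ∈ Wd L (n + 1), ∀ j, cj (l * w) (V j) ≤ Q i := by
      intro i l hl w hw j
      rw [← cj_mul, cj_le_iff, (loc i).Qn _ ((L i).inv_mem hl)]
      exact (loc i).le_Q (ih'.1 w hw j) (h w hw i j)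
    refine ⟨?_, h1⟩
    intro w hw j
    obtain ⟨i, l, hl, w', hw', rfl⟩ := hw
    exact (h1 i l hl w' hw' j).trans (loc i).QS

/-- `V_y ≤ S_x` at distance at most `n+1`. -/
theorem inS {n : ℕ} (h : CommN L V n) {x y : G} (hxy : x⁻¹ * y ∈ Wd L (n + 1)) (j : ι) :
    cj y (V j) ≤ cj x S := by
  have := cj_mono (g := x) ((inQ_aux loc h).1 _ hxy j)
  rw [cj_mul] at this
  have e : x * (x⁻¹ * y) = y := by group
  rwa [e] at this

theorem cjQ_eq {x u : G} {k : ι} (h : x⁻¹ * u ∈ L k) : cj u (Q k) = cj x (Q k) := by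
  have e : u = x * (x⁻¹ * u) := by group
  rw [e, ← cj_mul, (loc k).Qn _ h]

theorem cjV_eq {x u : G} {k : ι} (h : x⁻¹ * u ∈ L k) : cj u (V k) = cj x (V k) := by
  have e : u = x * (x⁻¹ * u) := by group
  rw [e, ← cj_mul, (loc k).Vn _ h]

theorem cjC_eq {x u : G} {k : ι} (h : x⁻¹ * u ∈ L k) {X : Subgroup G} (hX : X ≤ C k) :
    cj u X = cj x X := by
  have e : u = x * (x⁻¹ * u) := by group
  rw [e, ← cj_mul, (loc k).cj_le_C h hX]

/-- a subgroup in `S_u` commuting with `V_u` lies in `Q_u`. -/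
theorem le_cjQ {u : G} {k : ι} {X : Subgroup G} (h1 : X ≤ cj u S) (h2 : Cm (cj u (V k)) X) :
    X ≤ cj u (Q k) := ((loc k).cj' u).le_Q h1 h2

theorem crit_R' {m : ℕ} (h : CommN L V m) {x y : G} (hxy : x⁻¹ * y ∈ Wd L (m + 1)) {i j : ι}
    (hnc : ¬ Cm (cj x (V i)) (cj y (V j))) : cj y ⁅V j, S⁆ = cj x ⁅V i, S⁆ := by
  have := ((loc i).cj' x).crit_R ((loc j).cj' y) (inS loc h (wd_symm hxy) i) (inS loc h hxy j) hnc
  rwa [(loc i).cj_comm', (loc j).cj_comm'] at this

/-- Lemma M for words. -/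
theorem lemmaM' {m : ℕ} (h : CommN L V m) {x u y : G} {k : ι} (hxu : x⁻¹ * u ∈ L k)
    (huy : u⁻¹ * y ∈ Wd L m) {i j : ι} (hnc : ¬ Cm (cj x (V i)) (cj y (V j))) : ⁅V i, S⁆ ≤ C k := by
  have hxy : ∀ l ∈ L k, l * (x⁻¹ * y) ∈ Wd L (m + 1) := by
    intro l hl
    have := wd_cons ((L k).mul_mem hl hxu) huy
    have e : l * (x⁻¹ * u) * (u⁻¹ * y) = l * (x⁻¹ * y) := by group
    rwa [e] at this
  have hnc' : ¬ Cm (V i) (cj (x⁻¹ * y) (V j)) := by
    intro h'
    apply hnc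
    have := h'.cj x
    rw [cj_mul] at this
    have e : x * (x⁻¹ * y) = y := by group
    rwa [e] at this
  apply (loc i).lemmaM (loc k) ((loc j).cj' (x⁻¹ * y)) (h.cm0 i k) _ _ _ hnc'
  · have h1 := h.cm huy k j
    rw [cjV_eq loc hxu] at h1
    rw [← cm_cj_iff (g := x), cj_mul]
    have e : x * (x⁻¹ * y) = y := by group
    rwa [e]
  · intro l hl
    apply inS loc h
    have := wd_inv (hxy l⁻¹ ((L k).inv_mem hl))
    have e : (l⁻¹ * (x⁻¹ * y))⁻¹ = (x⁻¹ * y)⁻¹ * l := by group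
    rwa [e] at this
  · intro l hl
    rw [cj_mul]
    have := inS loc h (x := 1) (y := l * (x⁻¹ * y)) (by simpa using hxy l hl) j
    rwa [cj_one] at this

theorem S_inv_sup (E : Subgroup G) (hE : E = ⨆ k, V k) : ∀ s ∈ S, cj s E = E := by
  intro s hs
  rw [hE, cj_iSup]
  congr 1
  ext1 k
  exact (loc k).Vn s ((loc k).SL hs)

/-- **No dead ends** at distance at least two. -/
theorem dead_words {k : ℕ} (h : CommN L V (k + 1)) {w : G} (hw : w ∈ Wd L (k + 2)) {i j : ι}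
    (hnc : ¬ Cm (V i) (cj w (V j))) : ¬ ∀ g ∈ L i, cj g (⨆ k, V k) = ⨆ k, V k := by
  intro hE
  set E := ⨆ k, V k with hEd
  have hm : (k + 1) + 1 = k + 2 := rfl
  obtain ⟨u, hu, β, b, hb, rfl⟩ := wd_succ_right hw
  obtain ⟨t, ht, α, a, ha, rfl⟩ := wd_succ_right hu
  set c := loc i with hc
  set V' := cj (t * a * b) (V j) with hV'
  set S' := cj (t * a * b) S with hS'
  set R := ⁅V i, S⁆ with hR
  have c' : Loc p (q j) S' (cj (t * a * b) (L j)) (cj (t * a * b) (Q j)) V' (cj (t * a * b) (C j))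
      (cj (t * a * b) (M j)) := (loc j).cj' (t * a * b)
  have hmem : ∀ (x y : G) (n : ℕ), x⁻¹ * y ∈ Wd L n → n ≤ k + 2 → x⁻¹ * y ∈ Wd L ((k + 1) + 1) :=
    fun x y n h1 h2 => wd_le i h2 h1
  have h1w : (1 : G)⁻¹ * (t * a * b) ∈ Wd L (k + 2) := by simpa using hw
  have hV'S : V' ≤ S := by
    have := inS loc h (x := 1) (y := t * a * b) h1w j
    rwa [cj_one] at this
  have hVS' : ∀ j', V j' ≤ S' := by
    intro j'
    have := inS loc h (x := t * a * b) (y := 1) (wd_symm h1w) j'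
    rwa [cj_one] at this
  have hES' : E ≤ S' := iSup_le hVS'
  have hub : (t * a)⁻¹ * (t * a * b) ∈ L β := by
    have e : (t * a)⁻¹ * (t * a * b) = b := by group
    rw [e]
    exact hb
  -- choice of the first letter
  obtain ⟨i₁, l₁, w', hl₁, hw', hww, hkey⟩ : ∃ (i₁ : ι) (l₁ w' : G), l₁ ∈ L i₁ ∧ w' ∈ Wd L (k + 1) ∧
      t * a * b = l₁ * w' ∧ (k = 0 → t = 1 ∧ α = i₁) := by
    rcases k with _ | k
    · have ht1 : t = 1 := ht
      subst ht1
      exact ⟨α, a, b, ha, wd_single hb, by group, fun _ => ⟨rfl, rfl⟩⟩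
    · obtain ⟨i₁, l₁, hl₁, t', ht', rfl⟩ := ht
      refine ⟨i₁, l₁, t' * a * b, hl₁, wd_snoc (wd_snoc ht' ha) hb, by group, fun h => ?_⟩
      omega
  set c₁ := loc i₁ with hc₁
  have h01 : Cm (V i) (V i₁) := h.cm0 i i₁
  have h1' : Cm (V i₁) V' := by
    have h2 : Cm (V i₁) (cj w' (V j)) := h w' hw' i₁ j
    have := h2.cj l₁
    rwa [cj_mul, ← hww, c₁.Vn l₁ hl₁] at this
  have hl : Cm (cj l₁ (V i)) V' := by
    have h2 : Cm (V i) (cj w' (V j)) := h w' hw' i j
    have := h2.cj l₁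
    rwa [cj_mul, ← hww] at this
  have hW : ∀ l ∈ L i₁, Cm (V i) (cj l (V i)) := fun l hl =>
    h l (wd_le i (by omega) (wd_single hl)) i i
  have hnc1 : ¬ Cm (cj 1 (V i)) (cj (t * a * b) (V j)) := by rwa [cj_one]
  have hR₁ : R ≤ C i₁ := by
    apply lemmaM' loc h (x := 1) (u := l₁) (y := t * a * b) (by simpa using hl₁) _ hnc1
    rw [hww]
    have e : l₁⁻¹ * (l₁ * w') = w' := by group
    rw [e]
    exact hw'
  have hX : ∀ g ∈ L i, cj g (V i ⊔ V i₁) = V i ⊔ V i₁ :=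
    c.dead_X c₁ c' (hVS' i) hV'S hnc hE (le_iSup V i₁) hES'
  have hni := c.notInv c₁ h1' hl₁ hl hnc
  have hRZ : R ≤ cen S := c.VS_le
  -- elements of `R^g` centralised by `V'`
  have hRg : ∀ g ∈ L i, (∀ x ∈ cj g R, ∀ y ∈ V', y * x = x * y) → cj g R = R := by
    intro g hg hx
    apply c.cjR_of_le hg
    intro x hx'
    apply c.crit_mem c' (hVS' i) hV'S hnc _ (hx x hx')
    have := cj_mono (g := g) (hRZ.trans c.ZV)
    rw [c.Vn g hg] at this
    exact this hx'
  have hcjR : ∀ g ∈ L i, ∀ l ∈ L i₁, cj (g * l) R = cj g R := by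
    intro g hg l hl
    rw [← cj_mul, c₁.cj_le_C hl hR₁]
  -- Step A
  have hgl : ∀ g ∈ L i, ∀ l ∈ L i₁, ∀ x, ∀ n, x ∈ Wd L n → x⁻¹ * (g * l) ∈ Wd L (n + 2) := by
    intro g hg l hl x n hx
    have := wd_snoc (wd_snoc (wd_inv hx) hg) hl
    have e : x⁻¹ * g * l = x⁻¹ * (g * l) := by group
    rwa [e] at this
  have htY : ∀ g ∈ L i, ∀ l ∈ L i₁, cj (g * l) (V i) ≤ cj t S := fun g hg l hl =>
    inS loc h (hmem _ _ _ (hgl g hg l hl t k ht) le_rfl) i
  have htV' : V' ≤ cj t S := by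
    apply inS loc h (hmem _ _ 2 _ (by omega))
    have e : t⁻¹ * (t * a * b) = a * b := by group
    rw [e]
    exact wd_snoc (wd_single ha) hb
  have hA : ∀ g ∈ L i, ∀ l ∈ L i₁, Cm (cj (g * l) (V i)) (cj t (V α)) := by
    rcases Nat.eq_zero_or_pos k with hk | hk
    · obtain ⟨ht1, hα⟩ := hkey hk
      subst hα
      intro g hg l hl
      rw [ht1, cj_one, ← cj_mul, cm_cj_left]
      have h2 : cj g⁻¹ (V α) ≤ V i ⊔ V α := by
        have := cj_mono (g := g⁻¹) (le_sup_right : V α ≤ V i ⊔ V α)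
        rwa [hX _ ((L i).inv_mem hg)] at this
      have h3 : Cm (cj l (V i)) (V i ⊔ V α) := by
        apply Cm.sup_right
        · exact (hW l hl).symm
        · have := h01.cj l
          rwa [c₁.Vn l hl] at this
      exact h3.mono le_rfl h2
    · apply c.stepA c₁ ((loc α).cj' t) h01 hW hR₁ hX hni
      · apply Cm.sup_left
        · have := h.cm (x := 1) (y := t) (by simpa using wd_le i (Nat.le_succ k) ht) i α
          rwa [cj_one] at this
        · have := h.cm (x := 1) (y := t) (by simpa using wd_le i (Nat.le_succ k) ht) i₁ α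
          rwa [cj_one] at this
      · exact htY
      · exact fun g hg l hl => inS loc h (hmem _ _ _ (wd_symm (hgl g hg l hl t k ht)) le_rfl) α
      · intro g hg l hl hnc2
        apply hRg g hg
        intro x hx y hy
        have h3 := crit_R' loc h (hmem _ _ _ (wd_symm (hgl g hg l hl t k ht)) le_rfl) hnc2
        rw [← hR, hcjR g hg l hl] at h3
        rw [← h3] at hx
        have h4 : x ∈ cen (cj t S) := by
          rw [← cj_cen]
          exact cj_mono (loc α).VS_le hx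
        exact cen_comm h4 (htV' hy)
  have hA' : ∀ g ∈ L i, ∀ l ∈ L i₁, cj (g * l) (V i) ≤ cj (t * a) S := by
    intro g hg l hl
    have h2 := le_cjQ loc (k := α) (htY g hg l hl) (hA g hg l hl).symm
    rw [← cjQ_eq loc (x := t) (u := t * a) (k := α) (by simpa using ha)] at h2
    exact h2.trans (cj_mono (loc α).QS)
  -- Step B
  have hB : ∀ g ∈ L i, ∀ l ∈ L i₁, Cm (cj (g * l) (V i)) (cj (t * a) (V β)) := by
    intro g hg l hl
    by_contra hnc2
    have hXu : Cm (V i ⊔ V i₁) (cj (t * a) (V β)) := by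
      apply Cm.sup_left
      · have := h.cm (x := 1) (y := t * a) (by simpa using hu) i β
        rwa [cj_one] at this
      · have := h.cm (x := 1) (y := t * a) (by simpa using hu) i₁ β
        rwa [cj_one] at this
    have h2 : cj (t * a) (V β) ≤ cj (g * l) S := by
      rw [← cj_mul g l S, le_cj_iff, cj_mul]
      have h3 : cj (g⁻¹ * (t * a)) (V β) ≤ S := by
        have h4 : (1 : G)⁻¹ * (g⁻¹ * (t * a)) ∈ Wd L (k + 1 + 1) := by
          simpa using wd_cons ((L i).inv_mem hg) hu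
        have := inS loc h h4 β
        rwa [cj_one] at this
      have h5 : cj (g⁻¹ * (t * a)) (V β) ≤ Q i₁ := by
        apply c₁.le_Q h3
        rw [← cj_mul, cm_cj_right, inv_inv]
        apply hXu.mono _ le_rfl
        have := cj_mono (g := g) (le_sup_right : V i₁ ≤ V i ⊔ V i₁)
        rwa [hX g hg] at this
      exact h5.trans (c₁.Q_le_cjS hl)
    have h3 := (c.cj' (g * l)).crit_R ((loc β).cj' (t * a)) (hA' g hg l hl) h2 hnc2
    rw [c.cj_comm', (loc β).cj_comm', ← hR, hcjR g hg l hl] at h3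
    have huV' : V' ≤ cj (t * a) S := by
      apply inS loc h (hmem _ _ 1 _ (by omega))
      have e : (t * a)⁻¹ * (t * a * b) = b := by group
      rw [e]
      exact wd_single hb
    have h4 : cj g R = R := by
      apply hRg g hg
      intro x hx y hy
      rw [← h3] at hx
      have h4 : x ∈ cen (cj (t * a) S) := by
        rw [← cj_cen]
        exact cj_mono (loc β).VS_le hx
      exact cen_comm h4 (huV' hy)
    rw [h4] at h3
    -- `R ≤ C_β^u`
    have h5 : ⁅V j, S⁆ ≤ C β := by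
      apply lemmaM' loc h (x := t * a * b) (u := t * a) (y := 1) (i := j) (j := i)
      · have e : (t * a * b)⁻¹ * (t * a) = b⁻¹ := by group
        rw [e]
        exact (L β).inv_mem hb
      · simpa using wd_inv hu
      · intro h'
        apply hnc1
        exact h'.symm
    have h6 := crit_R' loc h (x := 1) (y := t * a * b) h1w hnc1
    rw [cj_one, cjC_eq loc (x := t * a) (u := t * a * b) (k := β) hub h5, ← hR] at h6
    rw [← h6] at h3
    apply (loc β).R_not_le_C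
    rw [cj_le_cj.mp h3.le |>.antisymm (cj_le_cj.mp h3.ge)]
    exact h5
  have h5 : ∀ g ∈ L i, ∀ l ∈ L i₁, cj (g * l) (V i) ≤ S' := by
    intro g hg l hl
    have h2 := le_cjQ loc (k := β) (hA' g hg l hl) (hB g hg l hl).symm
    rw [← cjQ_eq loc (x := t * a) (u := t * a * b) (k := β) hub] at h2
    exact h2.trans (cj_mono (loc β).QS)
  exact c.dead2 c₁ c' hV'S hnc h01 h1' hW hR₁ hX h5 hl₁ hl

end fam

end Cfsg.Agent.H260.GN
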