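import Cfsg.Agent.H260.GN5

/-!
# Glauberman-Niles, part 6: tools for distance one
-/

set_option autoImplicit false
set_option linter.unusedSectionVars false
set_option linter.unusedVariables false
set_option linter.style.haveILetI false

namespace Cfsg.Agent.H260.GN

open Subgroup Push
open scoped commutatorElement

variable {G : Type*} [Group G]

/-- in a `p`-group: `x^m ∈ K`, `m` prime to `p`, gives `x ∈ K`. -/
theorem mem_of_pow {p m : ℕ} {x : G} {K : Subgroup G} (hm : Nat.Coprime m p) {e : ℕ}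
    (hx : x ^ (p ^ e) = 1) (h : x ^ m ∈ K) : x ∈ K := by
  have h1 : Nat.Coprime m (p ^ e) := Nat.Coprime.pow_right e hm
  have h2 := Int.gcd_eq_gcd_ab (m : ℤ) ((p ^ e : ℕ) : ℤ)
  have h3 : ((m : ℤ).gcd ((p ^ e : ℕ) : ℤ) : ℤ) = 1 := by
    rw [Int.gcd_natCast_natCast]
    exact_mod_cast h1
  rw [h3] at h2
  have h4 : x = (x ^ m) ^ (Int.gcdA (m : ℤ) ((p ^ e : ℕ) : ℤ)) := by
    have h5 : x ^ (1 : ℤ) = x ^ ((m : ℤ) * Int.gcdA (m : ℤ) ((p ^ e : ℕ) : ℤ) +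
        ((p ^ e : ℕ) : ℤ) * Int.gcdB (m : ℤ) ((p ^ e : ℕ) : ℤ)) := by rw [← h2]
    rw [zpow_one, zpow_add, zpow_mul, zpow_mul, zpow_natCast, zpow_natCast, hx, one_zpow, mul_one] at h5
    exact h5
  rw [h4]
  exact K.zpow_mem h _

theorem exists_pow_one {p : ℕ} {S : Subgroup G} (hS : IsPGroup p S) {x : G} (hx : x ∈ S) :
    ∃ e, x ^ (p ^ e) = 1 := by
  obtain ⟨e, he⟩ := hS ⟨x, hx⟩
  exact ⟨e, congrArg Subtype.val he⟩

/-- coprime action. -/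
theorem coprime_step {p m : ℕ} {x : G} {A B K : Subgroup G} (hA : IsPGroup p A) (hKB : K ≤ B)
    (hBA : B ≤ A) (hxK : cj x K = K) (hBK : ∀ b ∈ B, cj b K = K)
    (h1 : ∀ a ∈ A, x * a * x⁻¹ * a⁻¹ ∈ B) (h2 : ∀ b ∈ B, x * b * x⁻¹ * b⁻¹ ∈ K) (hm : Nat.Coprime m p)
    (hx : x ^ m = 1) : ∀ a ∈ A, x * a * x⁻¹ * a⁻¹ ∈ K := by
  intro a ha
  set f := x * a * x⁻¹ * a⁻¹ with hf
  have hfB : f ∈ B := h1 a ha
  have hxk : ∀ k ∈ K, x * k * x⁻¹ ∈ K := by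
    intro k hk
    have := conj_mem_cj (g := x) hk
    rwa [hxK] at this
  have hbk : ∀ b ∈ B, ∀ k ∈ K, b * k * b⁻¹ ∈ K := by
    intro b hb k hk
    have := conj_mem_cj (g := b) hk
    rwa [hBK b hb] at this
  have hk1 : x * f * x⁻¹ * f⁻¹ ∈ K := h2 f hfB
  -- `x f^n x⁻¹ f⁻ⁿ ∈ K`
  have h3 : ∀ n : ℕ, x * f ^ n * x⁻¹ * (f ^ n)⁻¹ ∈ K := fun n => h2 _ (B.pow_mem hfB n)
  have h4 : ∀ n : ℕ, x ^ n * a * (x ^ n)⁻¹ * a⁻¹ * (f ^ n)⁻¹ ∈ K := by
    intro n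
    induction n with
    | zero => simp
    | succ n ih =>
      have e : x ^ (n + 1) * a * (x ^ (n + 1))⁻¹ * a⁻¹ * (f ^ (n + 1))⁻¹ =
          (x * (x ^ n * a * (x ^ n)⁻¹ * a⁻¹ * (f ^ n)⁻¹) * x⁻¹) *
            (x * f ^ n * x⁻¹ * (f ^ n)⁻¹) := by
        have e2 : (f ^ (n + 1))⁻¹ = f⁻¹ * (f ^ n)⁻¹ := by rw [pow_succ]; group
        have e3 : f⁻¹ = a * x * a⁻¹ * x⁻¹ := by rw [hf]; group
        rw [e2, e3, pow_succ']
        group
      rw [e]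
      exact K.mul_mem (hxk _ ih) (h3 n)
  have h5 := h4 m
  rw [hx] at h5
  have h6 : (f ^ m)⁻¹ ∈ K := by simpa using h5
  have h7 : f ^ m ∈ K := by
    have := K.inv_mem h6
    rwa [inv_inv] at this
  obtain ⟨e, he⟩ := exists_pow_one hA (hBA hfB)
  exact mem_of_pow hm he h7

/-- the subgroup generated by the `p'`-elements of `N`. -/
def Op (p : ℕ) (N : Subgroup G) : Subgroup G := closure {x | x ∈ N ∧ ∃ m, Nat.Coprime m p ∧ x ^ m = 1}

theorem Op_le {p : ℕ} {N : Subgroup G} : Op p N ≤ N := by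
  unfold Op
  rw [closure_le]
  exact fun x hx => hx.1

theorem Op_cj {p : ℕ} {N : Subgroup G} {g : G} (h : cj g N = N) : cj g (Op p N) = Op p N := by
  have key : ∀ g, cj g N = N → cj g (Op p N) ≤ Op p N := by
    intro g h
    rw [cj_le_iff]
    unfold Op
    rw [closure_le]
    rintro x ⟨hx, m, hm, hxm⟩
    rw [SetLike.mem_coe, mem_cj, inv_inv]
    apply Subgroup.subset_closure
    refine ⟨?_, m, hm, ?_⟩
    · have := conj_mem_cj (g := g) hx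
      rwa [h] at this
    · rw [conj_pow, hxm]; group
  apply le_antisymm (key g h)
  rw [le_cj_iff]
  exact key _ (cj_inv_eq h)

namespace Loc

variable {p q : ℕ} [hp : Fact p.Prime] {S L Q V C M : Subgroup G}
variable (c : Loc p q S L Q V C M)
include c

theorem pgQ : IsPGroup p Q := c.pg.to_le c.QS

/-- `L = S Op(N)` if `L = N Q`. -/
theorem le_S_Op {N : Subgroup G} (hNL : N ≤ L) (hN : ∀ g ∈ L, cj g N = N) (hNQ : N ⊔ Q = L) :
    L ≤ S ⊔ Op p N := by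
  apply sylAct c.fin c.idx c.SL le_rfl (Op_le.trans hNL) (fun g hg => Op_cj (hN g hg))
  intro g hg
  rw [← hNQ] at hg
  obtain ⟨y, hy, t, ht, rfl⟩ := mem_sup_of_norm' (fun k hk => hN k (c.QL hk)) hg
  obtain ⟨e, he⟩ := exists_pow_one c.pgQ ht
  have h1 : ∀ n : ℕ, (y * t) ^ n * (t ^ n)⁻¹ ∈ N := by
    intro n
    induction n with
    | zero => simp
    | succ n ih =>
      have e1 : (y * t) ^ (n + 1) * (t ^ (n + 1))⁻¹ =
          ((y * t) ^ n * (t ^ n)⁻¹) * (t ^ n * y * (t ^ n)⁻¹) := by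
        rw [pow_succ, pow_succ]
        group
      rw [e1]
      apply N.mul_mem ih
      have := conj_mem_cj (g := t ^ n) hy
      rwa [hN _ (L.pow_mem (c.QL ht) n)] at this
  have h2 := h1 (p ^ e)
  rw [he, inv_one, mul_one] at h2
  set w := (y * t) ^ p ^ e with hw
  have hwL : w ∈ L := hNL h2
  haveI := c.fin
  -- the order of w
  have hfin : IsOfFinOrder w := by
    rw [isOfFinOrder_iff_pow_eq_one]
    refine ⟨Nat.card L, Nat.card_pos, ?_⟩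
    have : (⟨w, hwL⟩ : L) ^ Nat.card L = 1 := pow_card_eq_one'
    exact congrArg Subtype.val this
  have hpos := hfin.orderOf_pos
  obtain ⟨a, m, hm, ham⟩ := Nat.exists_eq_pow_mul_and_not_dvd hpos.ne' p hp.out.ne_one
  refine ⟨e + a, ?_⟩
  rw [pow_add, pow_mul, ← hw]
  apply Subgroup.subset_closure
  refine ⟨N.pow_mem h2 _, m, ?_, ?_⟩
  · exact ((Nat.Prime.coprime_iff_not_dvd hp.out).mpr hm).symm
  · rw [← pow_mul, ← ham, pow_orderOf_eq_one]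

/-- the elements of `L` trivial on `V/C` have an `m`-th power in `Q`, `m` prime to `p`. -/
theorem exists_m : ∃ m, Nat.Coprime m p ∧ ∀ k ∈ L, (∀ v ∈ V, k * v * k⁻¹ * v⁻¹ ∈ C) → k ^ m ∈ Q := by
  haveI := c.fin
  haveI := c.finS
  haveI := c.finQ
  set U := tr L V C c.Cn with hU
  have hUL : U ≤ L := fun x hx => hx.1
  haveI : Finite U := fin_le hUL
  have hUn : ∀ g ∈ L, cj g U = U := tr_n c.Vn
  have hQU : Q ≤ U := by
    intro x hx
    refine ⟨c.QL hx, fun v hv => ?_⟩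
    rw [← c.VQc v hv x hx]
    have : v * x * x⁻¹ * v⁻¹ = 1 := by group
    rw [this]
    exact C.one_mem
  have hSU : S ⊓ U = Q := by
    apply le_antisymm
    · rintro x ⟨hx, hxU⟩
      by_contra hxQ
      obtain ⟨v, hv, hvZ⟩ := c.ZneV
      exact hvZ (c.cmc x hx hxQ v hv (hxU.2 v hv))
    · exact le_inf c.QS hQU
  have h1 := card_mul_norm (H := U) (K := S) (fun k hk => hUn k (c.SL hk))
  rw [hSU] at h1
  have hle : S ⊔ U ≤ L := sup_le c.SL hUL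
  haveI : Finite (S ⊔ U : Subgroup G) := fin_le hle
  have h2 : Nat.card S * S.relIndex (S ⊔ U) = Nat.card (S ⊔ U : Subgroup G) := card_mul_relIndex le_sup_left
  have h3 : Nat.card Q * Q.relIndex U = Nat.card U := card_mul_relIndex hQU
  have h4 : S.relIndex (S ⊔ U) = Q.relIndex U := by
    rw [← h2, ← h3] at h1
    have h5 : (Nat.card S * Nat.card Q) * S.relIndex (S ⊔ U) = (Nat.card S * Nat.card Q) * Q.relIndex U := by
      calc _ = Nat.card S * S.relIndex (S ⊔ U) * Nat.card Q := by ring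
        _ = _ := h1
        _ = _ := by ring
    exact Nat.eq_of_mul_eq_mul_left (Nat.mul_pos Nat.card_pos Nat.card_pos) h5
  refine ⟨Q.relIndex U, ?_, ?_⟩
  · apply Nat.Coprime.symm
    rw [Nat.Prime.coprime_iff_not_dvd hp.out, ← h4]
    intro h
    apply c.idx
    rw [← relIndex_mul_relIndex S (S ⊔ U) L le_sup_left hle]
    exact h.mul_right _
  · intro k hk hkV
    have hkU : k ∈ U := ⟨hk, hkV⟩
    have hn : (Q.subgroupOf U).Normal := by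
      constructor
      intro x hx g
      rw [mem_subgroupOf] at hx ⊢
      have := conj_mem_cj (g := (g : G)) hx
      rwa [c.Qn g (hUL g.2)] at this
    have := Subgroup.pow_index_mem (Q.subgroupOf U) ⟨k, hkU⟩
    rw [mem_subgroupOf] at this
    exact this

/-- **Lemma triv**. -/
theorem triv {k x : G} (hk : k ∈ L) (hkV : ∀ v ∈ V, k * v * k⁻¹ * v⁻¹ ∈ C)
    (h1 : k * x * k⁻¹ * x⁻¹ ∈ V) (h2 : ∀ s ∈ Q, s * x * s⁻¹ * x⁻¹ ∈ V → s * x * s⁻¹ * x⁻¹ ∈ C) :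
    k * x * k⁻¹ * x⁻¹ ∈ C := by
  obtain ⟨m, hm, hmk⟩ := c.exists_m
  set v := k * x * k⁻¹ * x⁻¹ with hv
  have h3 : ∀ n : ℕ, k ^ n * x * (k ^ n)⁻¹ * x⁻¹ * (v ^ n)⁻¹ ∈ C := by
    intro n
    induction n with
    | zero => simp
    | succ n ih =>
      have e2 : (v ^ (n + 1))⁻¹ = v⁻¹ * (v ^ n)⁻¹ := by rw [pow_succ]; group
      have e3 : v⁻¹ = x * k * x⁻¹ * k⁻¹ := by rw [hv]; group
      have e : k ^ (n + 1) * x * (k ^ (n + 1))⁻¹ * x⁻¹ * (v ^ (n + 1))⁻¹ =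
          (k * (k ^ n * x * (k ^ n)⁻¹ * x⁻¹ * (v ^ n)⁻¹) * k⁻¹) * (k * v ^ n * k⁻¹ * (v ^ n)⁻¹) := by
        rw [e2, e3, pow_succ']
        group
      rw [e]
      apply C.mul_mem
      · exact c.cj_mem hk c.Cn ih
      · exact hkV _ (V.pow_mem h1 n)
  have h4 := h3 m
  have h5 : k ^ m * x * (k ^ m)⁻¹ * x⁻¹ ∈ V := by
    have e : k ^ m * x * (k ^ m)⁻¹ * x⁻¹ = (k ^ m * x * (k ^ m)⁻¹ * x⁻¹ * (v ^ m)⁻¹) * v ^ m := by group
    rw [e]
    exact V.mul_mem (c.CV h4) (V.pow_mem h1 m)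
  have h6 := h2 _ (hmk k hk hkV) h5
  have h7 : v ^ m ∈ C := by
    have e : v ^ m = (k ^ m * x * (k ^ m)⁻¹ * x⁻¹ * (v ^ m)⁻¹)⁻¹ * (k ^ m * x * (k ^ m)⁻¹ * x⁻¹) := by group
    rw [e]
    exact C.mul_mem (C.inv_mem h4) h6
  apply mem_of_pow (e := 1) hm _ h7
  rw [pow_one]
  exact c.elV v h1

theorem cm_inv' {v s : G} (hv : v ∈ V) (hs : s ∈ S) : cm v⁻¹ s = (cm v s)⁻¹ := by
  have h9 := c.cm_mul' (V.inv_mem hv) hv hs
  rw [inv_mul_cancel] at h9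
  have h10 : cm 1 s = 1 := by simp [cm]
  rw [h10] at h9
  exact eq_inv_of_mul_eq_one_left h9.symm

/-- **Swap**: `n = xyx` interchanges `Z` and `Z^g` and `n²` inverts `V/C`. -/
theorem swap {V' : Subgroup G} (hV' : V' ⊔ Q = S) {g : G} (hg : g ∈ L) (hgM : g ∉ M) {x : G}
    (hx : x ∈ S) (hxQ : x ∉ Q) :
    ∃ y ∈ cj g V', cj (x * y * x) (cen S) = cj g (cen S) ∧ cj (x * y * x) (cj g (cen S)) = cen S ∧
      ∀ v ∈ V, (x * y * x) ^ 2 * v * ((x * y * x) ^ 2)⁻¹ * v ∈ C := by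
  have hxL := c.SL hx
  -- a noncentral element of `Z^g`
  obtain ⟨z', hz', hz'C⟩ := SetLike.not_le_iff_exists.mp c.Z_ne_C
  set w₀ := g * z' * g⁻¹ with hw₀
  have hw₀g : w₀ ∈ cj g (cen S) := conj_mem_cj hz'
  have hw₀C : w₀ ∉ C := by
    intro h
    apply hz'C
    have := c.cj_mem (L.inv_mem hg) c.Cn h
    rw [hw₀] at this
    have e : g⁻¹ * (g * z' * g⁻¹) * g⁻¹⁻¹ = z' := by group
    rwa [e] at this
  have hw₀V : w₀ ∈ V := c.cjZV hg hw₀g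
  have hw₀Z : w₀ ∉ cen S := fun h => hw₀C (c.two' hg hgM h hw₀g)
  set z₀ := cm w₀ x with hz₀
  have hz₀Z : z₀ ∈ cen S := c.quad w₀ hw₀V x hx
  have hz₀C : z₀ ∉ C := fun h => hw₀Z (c.cmc x hx hxQ w₀ hw₀V h)
  have hz₀g : z₀ ∉ cj g (cen S) := fun h => hz₀C (c.two' hg hgM hz₀Z h)
  have cg := c.cj' g
  obtain ⟨s, hs, d, hd, hsd⟩ := cg.surj (v := z₀) (z := w₀⁻¹) (by rw [c.Vn g hg]; exact c.ZV hz₀Z)
    (by rw [← cj_cen]; exact hz₀g) (by rw [← cj_cen]; exact inv_mem hw₀g)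
  rw [c.Cn g hg] at hd
  have hs' : s ∈ cj g V' ⊔ Q := by
    rw [← hV', cj_sup, c.Qn g hg] at hs
    exact hs
  have hV'S : V' ≤ S := by rw [← hV']; exact le_sup_left
  obtain ⟨y, hy, t, ht, rfl⟩ := mem_sup_of_norm (fun k hk => by
    have hkL : k ∈ L := by
      have := cj_mono (g := g) (hV'S.trans c.SL) hk
      rwa [cj_of_mem hg] at this
    exact c.Qn k hkL) hs'
  have hyS : y ∈ cj g S := cj_mono hV'S hy
  have hyL : y ∈ L := by
    have := cj_mono (g := g) c.SL hyS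
    rwa [cj_of_mem hg] at this
  have htz : cm z₀ (y * t) = cm z₀ y := by
    unfold cm
    have h1 : t * z₀ = z₀ * t := (c.VQc z₀ (c.ZV hz₀Z) t ht).symm
    calc y * t * z₀ * (y * t)⁻¹ * z₀⁻¹ = y * (t * z₀) * t⁻¹ * y⁻¹ * z₀⁻¹ := by group
      _ = y * (z₀ * t) * t⁻¹ * y⁻¹ * z₀⁻¹ := by rw [h1]
      _ = y * z₀ * y⁻¹ * z₀⁻¹ := by group
  rw [htz] at hsd
  set n := x * y * x with hn
  have hnL : n ∈ L := L.mul_mem (L.mul_mem hxL hyL) hxL
  have hab : ∀ a ∈ V, ∀ b ∈ V, a * b = b * a := c.Vab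
  -- basic action
  have ax : ∀ v ∈ V, x * v * x⁻¹ = cm v x * v := by intro v hv; unfold cm; group
  have ay : ∀ v : G, y * v * y⁻¹ = cm v y * v := by intro v; unfold cm; group
  have axZ : ∀ z ∈ cen S, x * z * x⁻¹ = z := by
    intro z hz
    rw [cen_comm hz hx]; group
  have ayZ : ∀ z ∈ cj g (cen S), y * z * y⁻¹ = z := by
    intro z hz
    rw [cj_cen] at hz
    rw [cen_comm hz hyS]; group
  have hcmy : ∀ v ∈ V, cm v y ∈ cj g (cen S) := by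
    intro v hv
    rw [cj_cen]
    exact cg.quad v (by rw [c.Vn g hg]; exact hv) y hyS
  have aC : ∀ γ ∈ C, ∀ k ∈ L, k * γ * k⁻¹ = γ := by
    intro γ hγ k hk
    rw [← c.CL γ hγ k hk]; group
  have nconj : ∀ v, n * v * n⁻¹ = x * (y * (x * v * x⁻¹) * y⁻¹) * x⁻¹ := by
    intro v; rw [hn]; group
  have cmul : ∀ (k a b : G), k * (a * b) * k⁻¹ = (k * a * k⁻¹) * (k * b * k⁻¹) := by
    intro k a b; group
  -- n w₀ n⁻¹ = z₀ d⁻¹
  have hyz₀ : y * z₀ * y⁻¹ = w₀⁻¹ * d⁻¹ * z₀ := by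
    rw [ay z₀]
    have : cm z₀ y = w₀⁻¹ * d⁻¹ := by rw [← hsd]; group
    rw [this]
  have hdV : d ∈ V := c.CV hd
  have e1 : n * w₀ * n⁻¹ = z₀ * d⁻¹ := by
    rw [nconj, ax w₀ hw₀V, cmul y, ayZ w₀ hw₀g, ← hz₀, hyz₀]
    have e2 : w₀⁻¹ * d⁻¹ * z₀ * w₀ = z₀ * d⁻¹ := by
      have h1 : z₀ * w₀ = w₀ * z₀ := hab _ (c.ZV hz₀Z) _ hw₀V
      have h2 : d⁻¹ * w₀ = w₀ * d⁻¹ := hab _ (V.inv_mem hdV) _ hw₀V
      have h3 : d⁻¹ * z₀ = z₀ * d⁻¹ := hab _ (V.inv_mem hdV) _ (c.ZV hz₀Z)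
      calc w₀⁻¹ * d⁻¹ * z₀ * w₀ = w₀⁻¹ * d⁻¹ * (z₀ * w₀) := by group
        _ = w₀⁻¹ * (d⁻¹ * w₀) * z₀ := by rw [h1]; group
        _ = d⁻¹ * z₀ := by rw [h2]; group
        _ = _ := h3
    rw [e2, axZ]
    exact mul_mem hz₀Z (c.CZ (inv_mem hd))
  have e2 : n * z₀ * n⁻¹ = w₀⁻¹ * d⁻¹ := by
    rw [nconj, axZ z₀ hz₀Z, hyz₀, cmul x, cmul x, axZ z₀ hz₀Z, aC _ (C.inv_mem hd) x hxL]
    have h1 : x * w₀⁻¹ * x⁻¹ = w₀⁻¹ * z₀⁻¹ := by
      have : x * w₀⁻¹ * x⁻¹ = (x * w₀ * x⁻¹)⁻¹ := by group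
      rw [this, ax w₀ hw₀V, mul_inv_rev]
    rw [h1]
    have h3 : d⁻¹ * z₀ = z₀ * d⁻¹ := hab _ (V.inv_mem hdV) _ (c.ZV hz₀Z)
    calc w₀⁻¹ * z₀⁻¹ * d⁻¹ * z₀ = w₀⁻¹ * z₀⁻¹ * (d⁻¹ * z₀) := by group
      _ = _ := by rw [h3]; group
  have hngM : n * g ∈ M := by
    by_contra hcon
    have h1 : z₀ * d⁻¹ ∈ C := by
      apply c.two' (L.mul_mem hnL hg) hcon (mul_mem hz₀Z (c.CZ (inv_mem hd)))
      rw [← e1, ← cj_mul]
      exact conj_mem_cj hw₀g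
    apply hz₀C
    have := C.mul_mem h1 hd
    rwa [inv_mul_cancel_right] at this
  have k2 : cj n (cj g (cen S)) = cen S := by rw [cj_mul]; exact c.MZ _ hngM
  have hngM' : n⁻¹ * g ∈ M := by
    by_contra hcon
    have h1 : w₀⁻¹ * d⁻¹ ∈ C := by
      apply c.two hnL hg hcon
      · rw [← e2]
        exact conj_mem_cj hz₀Z
      · exact mul_mem (inv_mem hw₀g) (c.C_cj hg (inv_mem hd))
    apply hw₀C
    have := C.inv_mem (C.mul_mem h1 hd)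
    rw [inv_mul_cancel_right, inv_inv] at this
    exact this
  have k1 : cj n (cen S) = cj g (cen S) := by
    have := c.MZ _ hngM'
    rw [← cj_mul, cj_eq_iff, inv_inv] at this
    exact this.symm
  -- action on Z^g: n w n⁻¹ = cm w x * γ with γ ∈ C and n (cm w x) n⁻¹ = γ w⁻¹
  have hA : ∀ w ∈ cj g (cen S), ∃ γ ∈ C, n * w * n⁻¹ = cm w x * γ ∧
      n * cm w x * n⁻¹ = γ * w⁻¹ := by
    intro w hw
    have hwV := c.cjZV hg hw
    set α := cm w x with hα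
    have hαZ : α ∈ cen S := c.quad w hwV x hx
    set β := cm α y with hβ
    have hβg : β ∈ cj g (cen S) := hcmy α (c.ZV hαZ)
    have hβV := c.cjZV hg hβg
    set β' := cm β x with hβ'
    have hβ'Z : β' ∈ cen S := c.quad β hβV x hx
    have hαV := c.ZV hαZ
    have hβ'V := c.ZV hβ'Z
    have e3 : n * w * n⁻¹ = β' * (β * w) * (α * α) := by
      rw [nconj, ax w hwV, cmul y, ayZ w hw, ay α, cmul x, cmul x, ax w hwV, axZ α hαZ, ax β hβV]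
      have h1 : β * α = α * β := hab _ hβV _ hαV
      have h2 : w * (α * α) = (α * α) * w := hab _ hwV _ (V.mul_mem hαV hαV)
      calc β' * β * α * (α * w) = β' * β * ((α * α) * w) := by group
        _ = β' * β * (w * (α * α)) := by rw [h2]
        _ = _ := by group
    have h4 : n * w * n⁻¹ ∈ cen S := by
      rw [← k2]
      exact conj_mem_cj hw
    have h5 : β * w ∈ C := by
      apply c.two' hg hgM _ (mul_mem hβg hw)
      have : β * w = β'⁻¹ * (n * w * n⁻¹) * (α * α)⁻¹ := by rw [e3]; group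
      rw [this]
      exact mul_mem (mul_mem (inv_mem hβ'Z) h4) (inv_mem (mul_mem hαZ hαZ))
    set γ := β * w with hγ
    have hβe : β = γ * w⁻¹ := by rw [hγ]; group
    have hβ'e : β' = α⁻¹ := by
      rw [hβ', hβe, c.cm_mul' (c.CV h5) (V.inv_mem hwV) hx, c.cm_inv' hwV hx]
      have : cm γ x = 1 := by
        unfold cm
        rw [aC γ h5 x hxL]; group
      rw [this, one_mul]
    have hγV := c.CV h5
    refine ⟨γ, h5, ?_, ?_⟩
    · rw [e3, hβ'e]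
      have h6 : γ * (α * α) = (α * α) * γ := hab _ hγV _ (V.mul_mem hαV hαV)
      rw [mul_assoc, h6]
      group
    · rw [nconj, axZ α hαZ, ay α, cmul x, axZ α hαZ, ax β hβV, ← hβ', hβ'e]
      have h6 : β * α = α * β := hab _ hβV _ hαV
      calc α⁻¹ * β * α = α⁻¹ * (β * α) := by group
        _ = β := by rw [h6]; group
        _ = _ := hβe
  have nsq : ∀ v, n ^ 2 * v * (n ^ 2)⁻¹ = n * (n * v * n⁻¹) * n⁻¹ := by
    intro v; rw [pow_two]; group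
  have hinv1 : ∀ w ∈ cj g (cen S), n ^ 2 * w * (n ^ 2)⁻¹ * w ∈ C := by
    intro w hw
    obtain ⟨γ, hγ, h1, h2⟩ := hA w hw
    rw [nsq, h1, cmul n, h2, aC γ hγ n hnL]
    have h3 : w⁻¹ * γ = γ * w⁻¹ := hab _ (V.inv_mem (c.cjZV hg hw)) _ (c.CV hγ)
    have : γ * w⁻¹ * γ * w = γ * γ := by
      calc γ * w⁻¹ * γ * w = γ * (w⁻¹ * γ) * w := by group
        _ = _ := by rw [h3]; group
    rw [this]
    exact C.mul_mem hγ hγ
  have hinv2 : ∀ z ∈ cen S, n ^ 2 * z * (n ^ 2)⁻¹ * z ∈ C := by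
    intro z hz
    have hzV := c.ZV hz
    set δ := cm z y with hδ
    have hδg : δ ∈ cj g (cen S) := hcmy z hzV
    have hδV := c.cjZV hg hδg
    set δ' := cm δ x with hδ'
    have hδ'Z : δ' ∈ cen S := c.quad δ hδV x hx
    have hδ'V := c.ZV hδ'Z
    have e3 : n * z * n⁻¹ = (δ' * z) * δ := by
      rw [nconj, axZ z hz, ay z, cmul x, axZ z hz, ax δ hδV]
      have h1 : δ * z = z * δ := hab _ hδV _ hzV
      rw [← hδ', mul_assoc, h1]
      group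
    have h4 : n * z * n⁻¹ ∈ cj g (cen S) := by
      rw [← k1]
      exact conj_mem_cj hz
    have h5 : δ' * z ∈ C := by
      apply c.two' hg hgM (mul_mem hδ'Z hz)
      have : δ' * z = (n * z * n⁻¹) * δ⁻¹ := by rw [e3]; group
      rw [this]
      exact mul_mem h4 (inv_mem hδg)
    obtain ⟨γ, hγ, h1, h2⟩ := hA δ hδg
    rw [nsq, e3, cmul n, aC _ h5 n hnL, h1, ← hδ']
    have h6 : γ * z = z * γ := hab _ (c.CV hγ) _ hzV
    have : δ' * z * (δ' * γ) * z = (δ' * z) * (δ' * z) * γ := by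
      calc δ' * z * (δ' * γ) * z = δ' * z * δ' * (γ * z) := by group
        _ = _ := by rw [h6]; group
    rw [this]
    exact C.mul_mem (C.mul_mem h5 h5) hγ
  refine ⟨y, hy, k1, k2, ?_⟩
  intro v hv
  obtain ⟨z, hz, w, hw, rfl⟩ := c.dec hg hgM hv
  have h1 := hinv2 z hz
  have h2 := hinv1 w hw
  have hn2 : n ^ 2 ∈ L := L.pow_mem hnL 2
  have h3 : (n ^ 2 * w * (n ^ 2)⁻¹) * z = z * (n ^ 2 * w * (n ^ 2)⁻¹) :=
    hab _ (c.cjV_mem hn2 (c.cjZV hg hw)) _ (c.ZV hz)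
  have e : n ^ 2 * (z * w) * (n ^ 2)⁻¹ * (z * w) =
      (n ^ 2 * z * (n ^ 2)⁻¹ * z) * (n ^ 2 * w * (n ^ 2)⁻¹ * w) := by
    calc n ^ 2 * (z * w) * (n ^ 2)⁻¹ * (z * w) =
        (n ^ 2 * z * (n ^ 2)⁻¹) * ((n ^ 2 * w * (n ^ 2)⁻¹) * z) * w := by group
      _ = (n ^ 2 * z * (n ^ 2)⁻¹) * (z * (n ^ 2 * w * (n ^ 2)⁻¹)) * w := by rw [h3]
      _ = _ := by group
  rw [e]
  exact C.mul_mem h1 h2

end Loc

end Cfsg.Agent.H260.GN
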