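import Cfsg.Agent.H260.GN6

/-!
# Glauberman-Niles, part 7: dead ends at distance one
-/

set_option autoImplicit false
set_option linter.unusedSectionVars false
set_option linter.unusedVariables false
set_option linter.style.haveILetI false

namespace Cfsg.Agent.H260.GN

open Subgroup Push
open scoped commutatorElement

variable {G : Type*} [Group G]

/-- a critical pair at distance one whose first end is dead. -/
structure DP (p q q₁ q' : ℕ)
    (E S L Q V C M L₁ Q₁ V₁ C₁ M₁ S' L' Q' V' C' M' : Subgroup G) : Prop where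
  c : Loc p q S L Q V C M
  c₁ : Loc p q₁ S L₁ Q₁ V₁ C₁ M₁
  c' : Loc p q' S' L' Q' V' C' M'
  hE : ∀ g ∈ L, cj g E = E
  ES : E ≤ S
  VE : V ≤ E
  V₁E : V₁ ≤ E
  Eab : Cm E E
  Eq : ∀ e ∈ E, ∀ s ∈ S, cm e s ∈ cen S
  ES' : E ≤ S'
  V'S : V' ≤ S
  nc : ¬ Cm V V'
  h1' : Cm V₁ V'
  Q₁S' : Q₁ ≤ S'
  Z'V₁ : cen S' ≤ V₁
  R₁ : ⁅V, S⁆ ≤ C₁

namespace DP

variable {p q q₁ q' : ℕ} [hp : Fact p.Prime]
variable {E S L Q V C M L₁ Q₁ V₁ C₁ M₁ S' L' Q' V' C' M' : Subgroup G}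
variable (d : DP p q q₁ q' E S L Q V C M L₁ Q₁ V₁ C₁ M₁ S' L' Q' V' C' M')
include d

theorem VS' : V ≤ S' := d.VE.trans d.ES'

theorem h01 : Cm V V₁ := d.Eab.mono d.VE d.V₁E

theorem VQ₁ : V ≤ Q₁ := d.c₁.le_Q d.c.VS d.h01.symm

theorem EQ₁ : E ≤ Q₁ := d.c₁.le_Q d.ES (d.Eab.mono d.V₁E le_rfl)

theorem V'Q₁ : V' ≤ Q₁ := d.c₁.le_Q d.V'S d.h1'

theorem V₁Q' : V₁ ≤ Q' := d.c'.le_Q (d.V₁E.trans d.ES') d.h1'.symm

theorem ZQ' : cen S ≤ Q' := d.c₁.ZV.trans d.V₁Q'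

theorem hS : V' ⊔ Q = S := d.c.crit_S d.c' d.VS' d.V'S d.nc

theorem hS' : V ⊔ Q' = S' := (d.c.crit d.c' d.VS' d.V'S d.nc).2.2.1

theorem hR : ⁅V', S'⁆ = ⁅V, S⁆ := d.c.crit_R d.c' d.VS' d.V'S d.nc

theorem cen' {z : G} (hz : z ∈ cen S) {s : G} (hs : s ∈ S) : s * z = z * s := cen_comm hz hs

/-- `F = C_Q(E)`. -/
theorem F_inv : ∀ g ∈ L, cj g (Q ⊓ centralizer (E : Set G)) = Q ⊓ centralizer (E : Set G) := by
  intro g hg
  rw [cj_inf, d.c.Qn g hg, cj_centralizer, d.hE g hg]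

theorem F_le : Q ⊓ centralizer (E : Set G) ≤ Q₁ := by
  apply d.c₁.le_Q (inf_le_left.trans d.c.QS)
  rintro y hy x ⟨-, hx⟩
  exact mem_centralizer_iff.mp hx y (d.V₁E hy)

theorem V_le_F : V ≤ Q ⊓ centralizer (E : Set G) := by
  apply le_inf d.c.VQ
  rw [← cm_iff_le]
  exact d.Eab.mono d.VE le_rfl

/-- commutators of elements of `S` centralise `E`. -/
theorem comm_cent {s t : G} (hs : s ∈ S) (ht : t ∈ S) : s * t * s⁻¹ * t⁻¹ ∈ centralizer (E : Set G) := by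
  rw [mem_centralizer_iff]
  intro e he
  have h1 := d.Eq e he s hs
  have h2 := d.Eq e he t ht
  set z := cm e s with hz
  set w := cm e t with hw
  have e1 : s * e = z * e * s := by rw [hz]; unfold cm; group
  have e2 : t * e = w * e * t := by rw [hw]; unfold cm; group
  have f1 : s * z = z * s := d.cen' h1 hs
  have f2 : s * w = w * s := d.cen' h2 hs
  have f3 : t * z = z * t := d.cen' h1 ht
  have f4 : t * w = w * t := d.cen' h2 ht
  have f5 : z * w = w * z := d.cen' h2 (d.c.ZS h1)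
  have g1 : (s * t) * e = z * w * e * (s * t) := by
    calc (s * t) * e = s * (t * e) := by group
      _ = s * (w * e * t) := by rw [e2]
      _ = (s * w) * e * t := by group
      _ = w * (s * e) * t := by rw [f2]; group
      _ = w * (z * e * s) * t := by rw [e1]
      _ = (w * z) * e * (s * t) := by group
      _ = _ := by rw [← f5]
  have g2 : (t * s) * e = z * w * e * (t * s) := by
    calc (t * s) * e = t * (s * e) := by group
      _ = t * (z * e * s) := by rw [e1]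
      _ = (t * z) * e * s := by group
      _ = z * (t * e) * s := by rw [f3]; group
      _ = z * (w * e * t) * s := by rw [e2]
      _ = _ := by group
  have g3 : (z * w)⁻¹ * (t * s) = (t * s) * (z * w)⁻¹ := by
    have h5 : (t * s) * (z * w) = (z * w) * (t * s) := by
      calc (t * s) * (z * w) = t * (s * z) * w := by group
        _ = (t * z) * (s * w) := by rw [f1]; group
        _ = z * (t * w) * s := by rw [f3, f2]; group
        _ = _ := by rw [f4]; group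
    rw [eq_mul_inv_iff_mul_eq, mul_assoc, h5, inv_mul_cancel_left]
  -- (ts)⁻¹ e = (z w)⁻¹ e (ts)⁻¹
  have g4 : (t * s)⁻¹ * e = (z * w)⁻¹ * e * (t * s)⁻¹ := by
    rw [inv_mul_eq_iff_eq_mul]
    calc e = (z * w)⁻¹ * (z * w * e * (t * s)) * (t * s)⁻¹ := by group
      _ = (z * w)⁻¹ * ((t * s) * e) * (t * s)⁻¹ := by rw [g2]
      _ = ((z * w)⁻¹ * (t * s)) * e * (t * s)⁻¹ := by group
      _ = _ := by rw [g3]; group
  have g5 : (s * t) * (z * w)⁻¹ = (z * w)⁻¹ * (s * t) := by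
    have h5 : (s * t) * (z * w) = (z * w) * (s * t) := by
      calc (s * t) * (z * w) = s * (t * z) * w := by group
        _ = (s * z) * (t * w) := by rw [f3]; group
        _ = z * (s * w) * t := by rw [f1, f4]; group
        _ = _ := by rw [f2]; group
    rw [mul_inv_eq_iff_eq_mul, mul_assoc, h5, inv_mul_cancel_left]
  symm
  have ee : s * t * s⁻¹ * t⁻¹ = (s * t) * (t * s)⁻¹ := by group
  rw [ee]
  calc (s * t) * (t * s)⁻¹ * e = (s * t) * ((t * s)⁻¹ * e) := by group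
    _ = ((s * t) * (z * w)⁻¹) * e * (t * s)⁻¹ := by rw [g4]; group
    _ = (z * w)⁻¹ * ((s * t) * e) * (t * s)⁻¹ := by rw [g5]; group
    _ = e * ((s * t) * (t * s)⁻¹) := by rw [g1]; group

theorem N_le : cl L V' ≤ L := by
  apply cl_le
  intro l hl
  have := cj_mono (g := l) (d.V'S.trans d.c.SL)
  rwa [cj_of_mem hl] at this

theorem NQ : cl L V' ⊔ Q = L := by
  apply le_antisymm (sup_le d.N_le d.c.QL)
  obtain ⟨g, hg, hgM⟩ := d.c.ex
  have h := d.c.gen g hg hgM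
  refine h.ge.trans ?_
  apply sup_le
  · exact d.hS.ge.trans (sup_le_sup_right le_cl' Q)
  · have : cj g S = cj g V' ⊔ Q := by
      rw [← d.hS, cj_sup, d.c.Qn g hg]
    rw [this]
    exact sup_le_sup_right (le_cl hg) Q

/-- `N` acts trivially on `Q/F` and `F/V`. -/
theorem N_tr : (∀ x ∈ cl L V', ∀ t ∈ Q, x * t * x⁻¹ * t⁻¹ ∈ Q ⊓ centralizer (E : Set G)) ∧
    ∀ x ∈ cl L V', ∀ t ∈ Q ⊓ centralizer (E : Set G), x * t * x⁻¹ * t⁻¹ ∈ V := by
  have k1 : V' ≤ tr L Q (Q ⊓ centralizer (E : Set G)) d.F_inv := by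
    intro b hb
    have hbL := d.c.SL (d.V'S hb)
    refine ⟨hbL, fun t ht => ⟨?_, d.comm_cent (d.V'S hb) (d.c.QS ht)⟩⟩
    exact Q.mul_mem (d.c.cj_mem hbL d.c.Qn ht) (Q.inv_mem ht)
  have k2 : V' ≤ tr L (Q ⊓ centralizer (E : Set G)) V d.c.Vn := by
    intro b hb
    have hbL := d.c.SL (d.V'S hb)
    refine ⟨hbL, fun t ht => ?_⟩
    apply d.c.ZV
    apply d.c.VS_le
    rw [← d.hR, ← commutatorElement_def]
    exact commutator_mem_commutator hb (d.Q₁S' (d.F_le ht))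
  have m1 : cl L V' ≤ tr L Q (Q ⊓ centralizer (E : Set G)) d.F_inv := by
    apply cl_le
    intro l hl
    have := cj_mono (g := l) k1
    rwa [tr_n d.c.Qn l hl] at this
  have m2 : cl L V' ≤ tr L (Q ⊓ centralizer (E : Set G)) V d.c.Vn := by
    apply cl_le
    intro l hl
    have := cj_mono (g := l) k2
    rwa [tr_n d.F_inv l hl] at this
  exact ⟨fun x hx => (m1 hx).2, fun x hx => (m2 hx).2⟩

/-- `p'`-elements of `N` act trivially on `Q/V`. -/
theorem N_tr' {x : G} (hx : x ∈ cl L V') {m : ℕ} (hm : Nat.Coprime m p) (hxm : x ^ m = 1) :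
    ∀ t ∈ Q, x * t * x⁻¹ * t⁻¹ ∈ V := by
  obtain ⟨h1, h2⟩ := d.N_tr
  apply coprime_step d.c.pgQ d.V_le_F inf_le_left (d.c.Vn x (d.N_le hx))
    (fun b hb => d.c.Vn b (d.c.QL hb.1)) (h1 x hx) (h2 x hx) hm hxm

/-- `Φ(Q)` is centralised by the `p'`-elements of `N`. -/
theorem phi_cent {x : G} (hx : x ∈ cl L V') {m : ℕ} (hm : Nat.Coprime m p) (hxm : x ^ m = 1) :
    ∀ y ∈ phi p Q, y * x = x * y := by
  have h0 := d.N_tr' hx hm hxm
  have h1 : phi p Q ≤ centralizer ({x} : Set G) := by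
    unfold phi
    rw [closure_le]
    have hcj : ∀ s ∈ Q, ∃ v ∈ V, x * s * x⁻¹ = v * s := by
      intro s hs
      exact ⟨_, h0 s hs, by group⟩
    rintro _ (⟨s, hs, t, ht, rfl⟩ | ⟨s, hs, rfl⟩)
    · rw [SetLike.mem_coe, mem_centralizer_singleton_iff]
      obtain ⟨v, hv, hvs⟩ := hcj s hs
      obtain ⟨w, hw, hwt⟩ := hcj t ht
      have e1 : x * ⁅s, t⁆ * x⁻¹ = ⁅x * s * x⁻¹, x * t * x⁻¹⁆ := by
        rw [commutatorElement_def, commutatorElement_def]; group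
      have f1 : s * v = v * s := (d.c.VQc v hv s hs).symm
      have f2 : s * w = w * s := (d.c.VQc w hw s hs).symm
      have f3 : t * v = v * t := (d.c.VQc v hv t ht).symm
      have f4 : t * w = w * t := (d.c.VQc w hw t ht).symm
      have f5 : v * w = w * v := d.c.Vab v hv w hw
      have e2 : ⁅v * s, w * t⁆ = ⁅s, t⁆ := by
        rw [commutatorElement_def, commutatorElement_def]
        have g1 : v * s * (w * t) = (v * w) * (s * t) := by
          calc v * s * (w * t) = v * (s * w) * t := by group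
            _ = _ := by rw [f2]; group
        have g2 : (w * t) * (v * s) = (v * w) * (t * s) := by
          calc (w * t) * (v * s) = w * (t * v) * s := by group
            _ = (w * v) * (t * s) := by rw [f3]; group
            _ = _ := by rw [← f5]
        calc v * s * (w * t) * (v * s)⁻¹ * (w * t)⁻¹ = (v * s * (w * t)) * ((w * t) * (v * s))⁻¹ := by group
          _ = (v * w) * (s * t) * ((v * w) * (t * s))⁻¹ := by rw [g1, g2]
          _ = (v * w) * (s * t * s⁻¹ * t⁻¹) * (v * w)⁻¹ := by group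
          _ = s * t * s⁻¹ * t⁻¹ := by
            have h3 : (v * w) * (s * t * s⁻¹ * t⁻¹) = (s * t * s⁻¹ * t⁻¹) * (v * w) := by
              apply d.c.VQc _ (V.mul_mem hv hw)
              exact Q.mul_mem (Q.mul_mem (Q.mul_mem hs ht) (Q.inv_mem hs)) (Q.inv_mem ht)
            rw [h3]; group
      rw [hvs, hwt, e2] at e1
      calc ⁅s, t⁆ * x = (x * ⁅s, t⁆ * x⁻¹) * x := by rw [e1]
        _ = x * ⁅s, t⁆ := by group
    · rw [SetLike.mem_coe, mem_centralizer_singleton_iff]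
      obtain ⟨v, hv, hvs⟩ := hcj s hs
      have f1 : Commute v s := d.c.VQc v hv s hs
      have e1 : x * s ^ p * x⁻¹ = s ^ p := by
        rw [← conj_pow, hvs, f1.mul_pow, d.c.elV v hv, one_mul]
      calc s ^ p * x = (x * s ^ p * x⁻¹) * x := by rw [e1]
        _ = x * s ^ p := by group
  intro y hy
  exact mem_centralizer_singleton_iff.mp (h1 hy)

theorem phi_Z : phi p Q ⊓ cen S ≤ C := by
  rintro y ⟨hy, hyZ⟩
  have h1 := d.c.le_S_Op d.N_le cl_inv d.NQ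
  apply d.c.mem_C hyZ
  intro g hg
  have h2 : S ⊔ Op p (cl L V') ≤ centralizer ({y} : Set G) := by
    apply sup_le
    · intro s hs
      rw [mem_centralizer_singleton_iff]
      exact d.cen' hyZ hs
    · unfold Op
      rw [closure_le]
      rintro x ⟨hx, m, hm, hxm⟩
      rw [SetLike.mem_coe, mem_centralizer_singleton_iff]
      exact (d.phi_cent hx hm hxm y hy).symm
  exact mem_centralizer_singleton_iff.mp (h2 (h1 hg))

theorem phi_inv : ∀ g ∈ L, cj g (phi p Q) = phi p Q := by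
  intro g hg
  rw [phi_cj, d.c.Qn g hg]

theorem exists_b : ∃ b ∈ V', b ∉ Q := by
  by_contra h
  push Not at h
  exact d.nc (d.c.VQc.mono le_rfl h)

theorem phi_V : phi p Q ⊓ V ≤ C := by
  rintro y ⟨hy, hyV⟩
  obtain ⟨b, hb, hbQ⟩ := d.exists_b
  have hbS := d.V'S hb
  have h1 : cm y b ∈ C := by
    apply d.phi_Z
    refine ⟨?_, d.c.quad y hyV b hbS⟩
    unfold cm
    exact (phi p Q).mul_mem (d.c.cj_mem (d.c.SL hbS) d.phi_inv hy) ((phi p Q).inv_mem hy)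
  exact d.phi_Z ⟨hy, d.c.cmc b hbS hbQ y hyV h1⟩

/-- the claim on `[t,b]`. -/
theorem claim_aux {t b : G} (ht : t ∈ Q) (hb : b ∈ V') (hbQ : b ∉ Q)
    (h : cm ⁅t, b⁆ b ∈ cen S → cm ⁅t, b⁆ b ∈ C) : ⁅t, b⁆ ∈ Q' := by
  have hbS := d.V'S hb
  have hbL := d.c.SL hbS
  set f := ⁅t, b⁆ with hf
  have hfQ : f ∈ Q := by
    rw [hf, commutatorElement_def]
    have e : t * b * t⁻¹ * b⁻¹ = t * (b * t⁻¹ * b⁻¹) := by group
    rw [e]
    exact Q.mul_mem ht (d.c.cj_mem hbL d.c.Qn (Q.inv_mem ht))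
  have hfF : f ∈ Q ⊓ centralizer (E : Set G) := ⟨hfQ, by
    rw [hf, commutatorElement_def]; exact d.comm_cent (d.c.QS ht) hbS⟩
  have hfS' : f ∈ S' := d.Q₁S' (d.F_le hfF)
  rw [← d.hS'] at hfS'
  obtain ⟨v, hv, k, hk, hvk⟩ := mem_sup_of_norm (fun k hk => d.c'.Qn k (d.c'.SL (d.VS' hk))) hfS'
  have hkQ : k ∈ Q := by
    have e : k = v⁻¹ * f := by rw [← hvk]; group
    rw [e]
    exact Q.mul_mem (Q.inv_mem (d.c.VQ hv)) hfQ
  have hbk : b * k = k * b := d.c'.VQc b hb k hk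
  have hvk' : v * k = k * v := d.c.VQc v hv k hkQ
  have h1 : cm f b = cm v b := by
    unfold cm
    rw [← hvk]
    calc b * (v * k) * b⁻¹ * (v * k)⁻¹ = b * v * (k * b⁻¹) * k⁻¹ * v⁻¹ := by group
      _ = b * v * (b⁻¹ * k) * k⁻¹ * v⁻¹ := by
        have : k * b⁻¹ = b⁻¹ * k := by
          rw [eq_inv_mul_iff_mul_eq, ← mul_assoc, hbk]; group
        rw [this]
      _ = _ := by group
  have h2 : cm f b ∈ cen S := by
    rw [h1]
    exact d.c.quad v hv b hbS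
  have h3 := h h2
  rw [h1] at h3
  have h4 := d.c.cmc b hbS hbQ v hv h3
  rw [← hvk]
  exact Q'.mul_mem (d.ZQ' h4) hk

/-- an element of `N` of order prime to `p` inverting `V/C`. -/
theorem exists_z : ∃ z ∈ cl L V', ∃ m, Nat.Coprime m p ∧ z ^ m = 1 ∧
    (Odd p → ∀ v ∈ V, z * v * z⁻¹ * v ∈ C) := by
  obtain ⟨g, hg, hgM⟩ := d.c.ex
  obtain ⟨x, hx, hxQ⟩ := d.exists_b
  obtain ⟨y, hy, h1, h2, h3⟩ := d.c.swap d.hS hg hgM (d.V'S hx) hxQ
  set n := x * y * x with hn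
  have hxN : x ∈ cl L V' := le_cl' hx
  have hyN : y ∈ cl L V' := le_cl hg hy
  have hnN : n ∈ cl L V' := mul_mem (mul_mem hxN hyN) hxN
  set w := n ^ 2 with hw
  have hwN : w ∈ cl L V' := (cl L V').pow_mem hnN 2
  have hwL : w ∈ L := d.N_le hwN
  haveI := d.c.fin
  have hfin : IsOfFinOrder w := by
    rw [isOfFinOrder_iff_pow_eq_one]
    refine ⟨Nat.card L, Nat.card_pos, ?_⟩
    have : (⟨w, hwL⟩ : L) ^ Nat.card L = 1 := pow_card_eq_one'
    exact congrArg Subtype.val this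
  have hpos := hfin.orderOf_pos
  obtain ⟨a, m, hm, ham⟩ := Nat.exists_eq_pow_mul_and_not_dvd hpos.ne' p hp.out.ne_one
  refine ⟨w ^ (p ^ a), (cl L V').pow_mem hwN _, m, ((Nat.Prime.coprime_iff_not_dvd hp.out).mpr hm).symm,
    ?_, ?_⟩
  · rw [← pow_mul, ← ham, pow_orderOf_eq_one]
  · intro hodd v hv
    have key : ∀ k : ℕ, (Even k → w ^ k * v * (w ^ k)⁻¹ * v⁻¹ ∈ C) ∧
        (Odd k → w ^ k * v * (w ^ k)⁻¹ * v ∈ C) := by
      intro k
      induction k with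
      | zero => simp
      | succ k ih =>
        have hu : w ^ k * v * (w ^ k)⁻¹ ∈ V := d.c.cjV_mem (L.pow_mem hwL k) hv
        have h4 := h3 _ hu
        have e : w ^ (k + 1) * v * (w ^ (k + 1))⁻¹ = w * (w ^ k * v * (w ^ k)⁻¹) * w⁻¹ := by
          rw [pow_succ']; group
        set u := w ^ k * v * (w ^ k)⁻¹ with hud
        constructor
        · intro hk
          have hk' : Odd k := by
            rcases Nat.even_or_odd k with h5 | h5
            · exfalso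
              rw [Nat.even_add_one] at hk
              exact hk h5
            · exact h5
          have h5 := ih.2 hk'
          rw [e]
          have e4 : w * u * w⁻¹ * v⁻¹ = (w * u * w⁻¹ * u) * (u⁻¹ * v⁻¹) := by group
          rw [e4]
          apply C.mul_mem h4
          have e5 : u⁻¹ * v⁻¹ = (u * v)⁻¹ := by
            have : u * v = v * u := d.c.Vab u hu v hv
            rw [this]; group
          rw [e5]
          exact C.inv_mem h5
        · intro hk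
          have hk' : Even k := by
            rcases Nat.even_or_odd k with h5 | h5
            · exact h5
            · exfalso
              rw [Nat.odd_add_one] at hk
              exact hk h5
          have h5 := ih.1 hk'
          rw [e]
          have e6 : w * u * w⁻¹ * v = (w * u * w⁻¹ * u) * (u⁻¹ * v) := by group
          rw [e6]
          apply C.mul_mem h4
          have e5 : u⁻¹ * v = (u * v⁻¹)⁻¹ := by
            have : u * v⁻¹ = v⁻¹ * u := d.c.Vab u hu _ (V.inv_mem hv)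
            rw [this]; group
          rw [e5]
          exact C.inv_mem h5
    exact (key (p ^ a)).2 hodd.pow

theorem claim_odd (hodd : Odd p) {t b : G} (ht : t ∈ Q) (hb : b ∈ V') (hbQ : b ∉ Q) :
    ⁅t, b⁆ ∈ Q' := by
  have hbS := d.V'S hb
  have hbL := d.c.SL hbS
  obtain ⟨z, hzN, m, hm, hzm, hinv⟩ := d.exists_z
  have hinv := hinv hodd
  have hzL := d.N_le hzN
  have hzQ := d.N_tr' hzN hm hzm
  apply d.claim_aux ht hb hbQ
  set f := ⁅t, b⁆ with hf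
  intro hyZ
  set y := cm f b with hy
  have hfQ : f ∈ Q := by
    rw [hf, commutatorElement_def]
    have e : t * b * t⁻¹ * b⁻¹ = t * (b * t⁻¹ * b⁻¹) := by group
    rw [e]
    exact Q.mul_mem ht (d.c.cj_mem hbL d.c.Qn (Q.inv_mem ht))
  set k := b⁻¹ * (z * b * z⁻¹) with hk
  have hkL : k ∈ L := L.mul_mem (L.inv_mem hbL) (L.mul_mem (L.mul_mem hzL hbL) (L.inv_mem hzL))
  have aC : ∀ γ ∈ C, ∀ k ∈ L, k * γ = γ * k := fun γ hγ k hk => (d.c.CL γ hγ k hk).symm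
  -- k acts trivially on V / C
  have hkV : ∀ v ∈ V, k * v * k⁻¹ * v⁻¹ ∈ C := by
    intro v hv
    have hv₁ : z⁻¹ * v * z ∈ V := by
      have := d.c.cjV_mem (L.inv_mem hzL) hv
      rwa [inv_inv] at this
    set v₁ := z⁻¹ * v * z with hv₁d
    have h1 := hinv v₁ hv₁
    have e1 : z * v₁ * z⁻¹ = v := by rw [hv₁d]; group
    rw [e1] at h1
    have hu : b * v₁ * b⁻¹ ∈ V := d.c.cjV_mem hbL hv₁
    have h2 := hinv _ hu
    set u := b * v₁ * b⁻¹ with hud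
    have e2 : k * v * k⁻¹ = b⁻¹ * (z * u * z⁻¹) * b := by rw [hk, hud, hv₁d]; group
    set γ₁ := z * u * z⁻¹ * u with hγ₁
    set γ₂ := v * v₁ with hγ₂
    have e3 : z * u * z⁻¹ = γ₁ * u⁻¹ := by rw [hγ₁]; group
    have e4 : u⁻¹ = b * γ₂⁻¹ * v * b⁻¹ := by
      rw [hud, hγ₂]; group
    rw [e2, e3, e4]
    have g1 : b⁻¹ * γ₁ = γ₁ * b⁻¹ := aC _ h2 _ (L.inv_mem hbL)
    have e5 : b⁻¹ * (γ₁ * (b * γ₂⁻¹ * v * b⁻¹)) * b * v⁻¹ = γ₁ * γ₂⁻¹ := by
      calc b⁻¹ * (γ₁ * (b * γ₂⁻¹ * v * b⁻¹)) * b * v⁻¹ = (b⁻¹ * γ₁) * b * γ₂⁻¹ := by group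
        _ = _ := by rw [g1]; group
    rw [e5]
    exact C.mul_mem h2 (C.inv_mem h1)
  -- k acts trivially on Q / V
  have hkQ : ∀ x ∈ Q, k * x * k⁻¹ * x⁻¹ ∈ V := by
    have hz1 : z ∈ tr L Q V d.c.Vn := ⟨hzL, hzQ⟩
    have h2 : b⁻¹ * z * b ∈ tr L Q V d.c.Vn := by
      have := conj_mem_cj (g := b⁻¹) hz1
      rwa [tr_n d.c.Qn _ (L.inv_mem hbL), inv_inv] at this
    have h3 : k ∈ tr L Q V d.c.Vn := by
      have e : k = (b⁻¹ * z * b) * z⁻¹ := by rw [hk]; group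
      rw [e]
      exact mul_mem h2 (inv_mem hz1)
    exact h3.2
  have hkC : ∀ x ∈ Q, k * x * k⁻¹ * x⁻¹ ∈ C := by
    intro x hx
    apply d.c.triv hkL hkV (hkQ x hx)
    intro s hs hsV
    apply d.phi_V
    refine ⟨?_, hsV⟩
    have : s * x * s⁻¹ * x⁻¹ = ⁅s, x⁆ := by rw [commutatorElement_def]
    rw [this]
    exact comm_mem_phi hs hx
  have hkx : ∀ x ∈ Q, ∃ γ ∈ C, k * x = γ * x * k := by
    intro x hx
    exact ⟨_, hkC x hx, by group⟩
  -- z f z⁻¹ = ζ f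
  have hzf : ∃ ζ ∈ cen S, z * f * z⁻¹ = ζ * f := by
    have hv₁ := hzQ t ht
    set v₁ := z * t * z⁻¹ * t⁻¹ with hv₁d
    obtain ⟨γa, hγa, ha⟩ := hkx t⁻¹ (Q.inv_mem ht)
    obtain ⟨γb, hγb, hb'⟩ := hkx v₁⁻¹ (Q.inv_mem (d.c.VQ hv₁))
    have hζ : cm v₁ b ∈ cen S := d.c.quad v₁ hv₁ b hbS
    refine ⟨γa * γb * (cm v₁ b)⁻¹, mul_mem (mul_mem (d.c.CZ hγa) (d.c.CZ hγb)) (inv_mem hζ), ?_⟩
    have e1 : z * t * z⁻¹ = v₁ * t := by rw [hv₁d]; group
    have e2 : z * b * z⁻¹ = b * k := by rw [hk]; group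
    have e3 : z * f * z⁻¹ = v₁ * t * (b * (k * t⁻¹)) * v₁⁻¹ * k⁻¹ * b⁻¹ := by
      have : z * f * z⁻¹ = (z * t * z⁻¹) * (z * b * z⁻¹) * (z * t * z⁻¹)⁻¹ * (z * b * z⁻¹)⁻¹ := by
        rw [hf, commutatorElement_def]; group
      rw [this, e1, e2]; group
    have f1 : v₁ * f = f * v₁ := d.c.VQc v₁ hv₁ f hfQ
    have gL : ∀ γ ∈ C, ∀ x ∈ L, x * γ = γ * x := aC
    have htL := d.c.QL ht
    have hv₁L := d.c.VL hv₁
    rw [e3, ha]
    have s1 : v₁ * t * (b * (γa * t⁻¹ * k)) * v₁⁻¹ * k⁻¹ * b⁻¹ =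
        (v₁ * t * b * γa) * t⁻¹ * (k * v₁⁻¹) * k⁻¹ * b⁻¹ := by group
    rw [s1, hb', aC γa hγa (v₁ * t * b) (L.mul_mem (L.mul_mem hv₁L htL) hbL)]
    have s2 : γa * (v₁ * t * b) * t⁻¹ * (γb * v₁⁻¹ * k) * k⁻¹ * b⁻¹ =
        γa * (v₁ * t * b * t⁻¹ * γb) * v₁⁻¹ * b⁻¹ := by group
    rw [s2, aC γb hγb (v₁ * t * b * t⁻¹) (L.mul_mem (L.mul_mem (L.mul_mem hv₁L htL) hbL) (L.inv_mem htL))]
    have s3 : γa * (γb * (v₁ * t * b * t⁻¹)) * v₁⁻¹ * b⁻¹ = γa * γb * (v₁ * f) * (b * v₁⁻¹ * b⁻¹) := by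
      rw [hf, commutatorElement_def]; group
    rw [s3, f1]
    have s4 : b * v₁⁻¹ * b⁻¹ = v₁⁻¹ * (cm v₁ b)⁻¹ := by unfold cm; group
    rw [s4]
    have s5 : f * (cm v₁ b)⁻¹ = (cm v₁ b)⁻¹ * f := d.cen' (inv_mem hζ) (d.c.QS hfQ)
    calc γa * γb * (f * v₁) * (v₁⁻¹ * (cm v₁ b)⁻¹) = γa * γb * (f * (cm v₁ b)⁻¹) := by group
      _ = _ := by rw [s5]; group
  obtain ⟨ζ, hζ, hzf⟩ := hzf
  -- z y z⁻¹ = γ y
  have hzy : ∃ γ ∈ C, z * y * z⁻¹ = γ * y := by
    obtain ⟨γ₃, hγ₃, h3⟩ := hkx ζ (d.c.ZQ hζ)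
    obtain ⟨γ₄, hγ₄, h4⟩ := hkx f hfQ
    refine ⟨γ₃ * γ₄, C.mul_mem hγ₃ hγ₄, ?_⟩
    have e2 : z * b * z⁻¹ = b * k := by rw [hk]; group
    have e3 : z * y * z⁻¹ = b * (k * ζ) * f * k⁻¹ * b⁻¹ * f⁻¹ * ζ⁻¹ := by
      have : z * y * z⁻¹ = (z * b * z⁻¹) * (z * f * z⁻¹) * (z * b * z⁻¹)⁻¹ * (z * f * z⁻¹)⁻¹ := by
        rw [hy]; unfold cm; group
      rw [this, e2, hzf]; group
    have hfL := d.c.QL hfQ
    have hζL := d.c.ZS.trans d.c.SL hζ
    rw [e3, h3]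
    have s1 : b * (γ₃ * ζ * k) * f * k⁻¹ * b⁻¹ * f⁻¹ * ζ⁻¹ = (b * γ₃) * ζ * (k * f) * k⁻¹ * b⁻¹ * f⁻¹ * ζ⁻¹ := by
      group
    rw [s1, h4, aC γ₃ hγ₃ b hbL]
    have s2 : γ₃ * b * ζ * (γ₄ * f * k) * k⁻¹ * b⁻¹ * f⁻¹ * ζ⁻¹ =
        γ₃ * (b * ζ * γ₄) * f * b⁻¹ * f⁻¹ * ζ⁻¹ := by group
    rw [s2, aC γ₄ hγ₄ (b * ζ) (L.mul_mem hbL hζL)]
    have s3 : b * ζ = ζ * b := d.cen' hζ hbS
    have s4 : γ₃ * (γ₄ * (b * ζ)) * f * b⁻¹ * f⁻¹ * ζ⁻¹ = γ₃ * γ₄ * (ζ * y * ζ⁻¹) := by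
      rw [s3, hy]; unfold cm; group
    rw [s4]
    have s5 : ζ * y = y * ζ := d.cen' hyZ (d.c.ZS hζ)
    rw [s5]; group
  obtain ⟨γ, hγ, hzy⟩ := hzy
  have h1 := hinv y (d.c.ZV hyZ)
  rw [hzy] at h1
  have h2 : y ^ 2 ∈ C := by
    have e : y ^ 2 = γ⁻¹ * (γ * y * y) := by rw [pow_two]; group
    rw [e]
    exact C.mul_mem (C.inv_mem hγ) h1
  apply mem_of_pow (p := p) (e := 1) _ _ h2
  · exact (Nat.coprime_two_left).mpr hodd
  · rw [pow_one]
    exact d.c.el y hyZ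

/-- `[Q, V'] ≤ Q'`. -/
theorem claim {t b : G} (ht : t ∈ Q) (hb : b ∈ V') : ⁅t, b⁆ ∈ Q' := by
  have hbS := d.V'S hb
  by_cases hbQ : b ∈ Q
  · have h1 : b ∈ cen S' := by
      rw [← (d.c.crit d.c' d.VS' d.V'S d.nc).2.2.2.1]
      exact ⟨hb, hbQ⟩
    have h2 := d.Z'V₁ h1
    have h3 : ⁅t, b⁆ = cm b t := by unfold cm; rw [commutatorElement_def]
    rw [h3]
    exact d.ZQ' (d.c₁.quad b h2 t (d.c.QS ht))
  rcases hp.out.eq_two_or_odd' with h2 | hodd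
  · apply d.claim_aux ht hb hbQ
    intro hyZ
    have hbL := d.c.SL hbS
    have hb2 : b ^ 2 = 1 := by
      have := d.c'.elV b hb
      rwa [h2] at this
    have hbb : b⁻¹ = b := by
      rw [inv_eq_iff_mul_eq_one, ← pow_two]
      exact hb2
    have hfQ : ⁅t, b⁆ ∈ Q := by
      rw [commutatorElement_def]
      have e : t * b * t⁻¹ * b⁻¹ = t * (b * t⁻¹ * b⁻¹) := by group
      rw [e]
      exact Q.mul_mem ht (d.c.cj_mem hbL d.c.Qn (Q.inv_mem ht))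
    have e1 : cm ⁅t, b⁆ b = (⁅t, b⁆⁻¹) ^ p := by
      have h3 : b * ⁅t, b⁆ * b⁻¹ = ⁅t, b⁆⁻¹ := by
        rw [commutatorElement_def]
        have e3 : b * (t * b * t⁻¹ * b⁻¹) * b⁻¹ = b * t * b * t⁻¹ * (b ^ 2)⁻¹ := by
          rw [pow_two]; group
        have e4 : (t * b * t⁻¹ * b⁻¹)⁻¹ = b * t * b⁻¹ * t⁻¹ := by group
        rw [e3, e4, hb2, hbb]; group
      unfold cm
      rw [h3, h2, pow_two]
    apply d.phi_Z
    refine ⟨?_, hyZ⟩
    rw [e1]
    exact pow_mem_phi (Q.inv_mem hfQ)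
  · exact d.claim_odd hodd ht hb hbQ

/-- **Dead ends at distance one**: contradiction. -/
theorem dead1 {l₁ : G} (hl₁ : l₁ ∈ L₁) (hl : Cm (cj l₁ V) V') : False := by
  haveI := d.c.finS
  set R := ⁅V, S⁆ with hRd
  set W := cl L₁ V with hWd
  have hRZ : R ≤ cen S := d.c.VS_le
  have hWQ₁ : W ≤ Q₁ := by
    apply cl_le
    intro l hl
    have := cj_mono (g := l) d.VQ₁
    rwa [d.c₁.Qn l hl] at this
  have hWS : W ≤ S := hWQ₁.trans d.c₁.QS
  have hVW : V ≤ W := le_cl'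
  have hcjR : ∀ x ∈ S, cj x R = R := by
    intro x hx
    apply cj_of_cm
    intro y hy
    exact d.cen' (hRZ hy) hx
  have hQW : ∀ x ∈ Q₁, ∀ w ∈ W, x * w * x⁻¹ * w⁻¹ ∈ R := by
    intro x hx
    apply cs_iSup (N := W) (fun y hy => hcjR y (hWS hy)) (fun l => le_cl l.2)
    intro l y hy
    rw [mem_cj] at hy
    have hl := l.2
    have hx' : (l : G)⁻¹ * x * l ∈ Q₁ := by
      rw [← mem_cj, d.c₁.Qn _ hl]
      exact hx
    have h1 : cm ((l : G)⁻¹ * y * l) ((l : G)⁻¹ * x * l) ∈ R := d.c.cm_mem_R hy (d.c₁.QS hx')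
    have e : x * y * x⁻¹ * y⁻¹ = l * (cm ((l : G)⁻¹ * y * l) ((l : G)⁻¹ * x * l)) * (l : G)⁻¹ := by
      unfold cm; group
    rw [e]
    have := conj_mem_cj (g := (l : G)) h1
    rwa [d.c₁.cj_le_C hl d.R₁] at this
  -- T*
  have hB : ∀ g ∈ Q₁, cj g (R ⊓ C) = R ⊓ C := by
    intro g hg
    apply cj_of_cm
    intro y hy
    exact d.cen' (hRZ hy.1) (d.c₁.QS hg)
  set T := tr Q₁ Q₁ (R ⊓ C) hB with hT
  have hTn : ∀ g ∈ L₁, cj g T = T := by
    intro g hg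
    exact tr_cj (d.c₁.Qn g hg) (d.c₁.Qn g hg) (d.c₁.cj_le_C hg (inf_le_left.trans d.R₁))
  have hZT : cen S ≤ T := by
    intro z hz
    refine ⟨d.c₁.ZQ hz, fun y hy => ?_⟩
    have h3 : y * z = z * y := d.cen' hz (d.c₁.QS hy)
    rw [← h3]
    have : y * z * z⁻¹ * y⁻¹ = 1 := by group
    rw [this]
    exact one_mem _
  -- elements of W in Φ(Q)
  have hWphi : ∀ y ∈ W, y ∈ phi p Q → y ∈ T := by
    intro y hy hyp
    refine ⟨hWQ₁ hy, fun x hx => ?_⟩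
    have h1 : y * x * y⁻¹ * x⁻¹ ∈ R := by
      have := hQW x hx y hy
      have e : y * x * y⁻¹ * x⁻¹ = (x * y * x⁻¹ * y⁻¹)⁻¹ := by group
      rw [e]
      exact R.inv_mem this
    refine ⟨h1, d.phi_Z ⟨?_, hRZ h1⟩⟩
    have e : y * x * y⁻¹ * x⁻¹ = y * (x * y⁻¹ * x⁻¹) := by group
    rw [e]
    exact (phi p Q).mul_mem hyp (d.c.cj_mem (d.c.SL (d.c₁.QS hx)) d.phi_inv ((phi p Q).inv_mem hyp))
  have hSW' : ∀ s ∈ S, ∀ w ∈ W, s * w * s⁻¹ * w⁻¹ ∈ W := by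
    intro s hs w hw
    apply W.mul_mem _ (W.inv_mem hw)
    exact d.c₁.cj_mem (d.c₁.SL hs) cl_inv hw
  -- [Q, W] ≤ T
  have hQWT : ∀ t ∈ Q, ∀ w ∈ W, t * w * t⁻¹ * w⁻¹ ∈ T := by
    by_cases hWQ : W ≤ Q
    · intro t ht w hw
      apply hWphi _ (hSW' t (d.c.QS ht) w hw)
      have : t * w * t⁻¹ * w⁻¹ = ⁅t, w⁆ := by rw [commutatorElement_def]
      rw [this]
      exact comm_mem_phi ht (hWQ hw)
    · obtain ⟨l, hl', hlQ⟩ : ∃ l ∈ L₁, ¬ cj l V ≤ Q := by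
        by_contra hcon
        push Not at hcon
        exact hWQ (cl_le hcon)
      have hV₂Q₁ : cj l V ≤ Q₁ := (le_cl hl').trans hWQ₁
      have hV₂S : cj l V ≤ S := hV₂Q₁.trans d.c₁.QS
      have hnc2 : ¬ Cm V (cj l V) := fun h => hlQ (d.c.le_Q hV₂S h)
      have d₂ : DP p q q₁ q E S L Q V C M L₁ Q₁ V₁ C₁ M₁ (cj l S) (cj l L) (cj l Q) (cj l V) (cj l C)
          (cj l M) :=
        { c := d.c, c₁ := d.c₁, c' := d.c.cj' l, hE := d.hE, ES := d.ES, VE := d.VE, V₁E := d.V₁E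
          Eab := d.Eab, Eq := d.Eq, ES' := d.EQ₁.trans (d.c₁.Q_le_cjS hl'), V'S := hV₂S, nc := hnc2
          h1' := by
            have := d.h01.symm.cj l
            rwa [d.c₁.Vn l hl'] at this
          Q₁S' := d.c₁.Q_le_cjS hl'
          Z'V₁ := by
            rw [← cj_cen]
            exact d.c₁.cjZV hl'
          R₁ := d.R₁ }
      -- decomposition of Q₁
      have hdec : ∀ x ∈ Q₁, ∃ b ∈ cj l V, ∃ v ∈ V, ∃ k, k ∈ Q ∧ k ∈ cj l Q ∧ b * (v * k) = x := by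
        intro x hx
        have hx' := d.c₁.QS hx
        rw [← d₂.hS] at hx'
        obtain ⟨b, hb, x', hx'', rfl⟩ := mem_sup_of_norm (fun k hk => d.c.Qn k (d.c.SL (hV₂S hk))) hx'
        have hx'Q₁ : x' ∈ Q₁ := by
          have e : x' = b⁻¹ * (b * x') := by group
          rw [e]
          exact Q₁.mul_mem (Q₁.inv_mem (hV₂Q₁ hb)) hx
        have hx'S₂ : x' ∈ cj l S := d.c₁.Q_le_cjS hl' hx'Q₁
        rw [← d₂.hS'] at hx'S₂
        obtain ⟨v, hv, k, hk, rfl⟩ := mem_sup_of_norm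
          (fun k hk => d₂.c'.Qn k (d₂.c'.SL (d₂.VS' hk))) hx'S₂
        refine ⟨b, hb, v, hv, k, ?_, hk, rfl⟩
        have e : k = v⁻¹ * (v * k) := by group
        rw [e]
        exact Q.mul_mem (Q.inv_mem (d.c.VQ hv)) hx''
      intro t ht w hw
      have htS := d.c.QS ht
      obtain ⟨b, hb, v, hv, k, hkQ, hkQ₂, rfl⟩ := hdec w (hWQ₁ hw)
      have hbW : b ∈ W := le_cl hl' hb
      have hkW : k ∈ W := by
        have e : k = v⁻¹ * (b⁻¹ * (b * (v * k))) := by group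
        rw [e]
        exact W.mul_mem (W.inv_mem (hVW hv)) (W.mul_mem (W.inv_mem hbW) hw)
      -- [t,b] ∈ T
      have h1 : ⁅t, b⁆ ∈ T := by
        have hf2 : ⁅t, b⁆ ∈ cj l Q := d₂.claim ht hb
        have hfW : ⁅t, b⁆ ∈ W := by
          rw [commutatorElement_def]
          exact hSW' t htS b hbW
        have hfQ : ⁅t, b⁆ ∈ Q := by
          rw [commutatorElement_def]
          have e : t * b * t⁻¹ * b⁻¹ = t * (b * t⁻¹ * b⁻¹) := by group
          rw [e]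
          exact Q.mul_mem ht (d.c.cj_mem (d.c.SL (hV₂S hb)) d.c.Qn (Q.inv_mem ht))
        set f := ⁅t, b⁆ with hf
        refine ⟨hWQ₁ hfW, fun x hx => ?_⟩
        have h2 : f * x * f⁻¹ * x⁻¹ ∈ R := by
          have := hQW x hx f hfW
          have e : f * x * f⁻¹ * x⁻¹ = (x * f * x⁻¹ * f⁻¹)⁻¹ := by group
          rw [e]
          exact R.inv_mem this
        refine ⟨h2, d.phi_Z ⟨?_, hRZ h2⟩⟩
        obtain ⟨b', hb', v', hv', k', hk'Q, hk'Q₂, rfl⟩ := hdec x hx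
        have g1 : b' * f = f * b' := d₂.c'.VQc b' hb' f hf2
        have g2 : v' * f = f * v' := d.c.VQc v' hv' f hfQ
        set z := f * (b' * (v' * k')) * f⁻¹ * (b' * (v' * k'))⁻¹ with hz
        have g3 : z = (b' * v') * ⁅f, k'⁆ * (b' * v')⁻¹ := by
          rw [hz, commutatorElement_def]
          have g4 : f * (b' * v') = (b' * v') * f := by
            calc f * (b' * v') = (f * b') * v' := by group
              _ = b' * (f * v') := by rw [← g1]; group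
              _ = _ := by rw [← g2]; group
          calc f * (b' * (v' * k')) * f⁻¹ * (b' * (v' * k'))⁻¹ =
              (f * (b' * v')) * k' * f⁻¹ * k'⁻¹ * (b' * v')⁻¹ := by group
            _ = _ := by rw [g4]; group
        have hb'v'S : b' * v' ∈ S := S.mul_mem (hV₂S hb') (d.c.VS hv')
        have g5 : z = ⁅f, k'⁆ := by
          have g6 : (b' * v') * z = z * (b' * v') := d.cen' (hRZ h2) hb'v'S
          have g7 : ⁅f, k'⁆ = (b' * v')⁻¹ * z * (b' * v') := by rw [g3]; group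
          rw [g7, mul_assoc, ← g6]; group
        rw [g5]
        exact comm_mem_phi hfQ hk'Q
      have h2 : ⁅t, k⁆ ∈ T := by
        apply hWphi
        · rw [commutatorElement_def]
          exact hSW' t htS k hkW
        · exact comm_mem_phi ht hkQ
      have htv : t * v = v * t := (d.c.VQc v hv t ht).symm
      have e : t * (b * (v * k)) * t⁻¹ * (b * (v * k))⁻¹ =
          ⁅t, b⁆ * ((b * v) * ⁅t, k⁆ * (b * v)⁻¹) := by
        rw [commutatorElement_def, commutatorElement_def]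
        calc t * (b * (v * k)) * t⁻¹ * (b * (v * k))⁻¹ =
            (t * b * t⁻¹ * b⁻¹) * b * (t * v) * k * t⁻¹ * k⁻¹ * v⁻¹ * b⁻¹ := by group
          _ = _ := by rw [htv]; group
      rw [e]
      apply T.mul_mem h1
      have hbvL : b * v ∈ L₁ := L₁.mul_mem (d.c₁.SL (hV₂S hb)) (d.c₁.SL (d.c.VS hv))
      exact d.c₁.cj_mem hbvL hTn h2
  -- S acts trivially on W / T
  have hSW : ∀ s ∈ S, ∀ w ∈ W, s * w * s⁻¹ * w⁻¹ ∈ T := by
    have hsub : S ≤ tr L₁ W T hTn := by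
      refine d.hS.ge.trans (sup_le ?_ ?_)
      · intro b hb
        refine ⟨d.c₁.SL (d.V'S hb), fun w hw => ?_⟩
        exact hZT (hRZ (hQW b (d.V'Q₁ hb) w hw))
      · intro t ht
        exact ⟨d.c₁.SL (d.c.QS ht), fun w hw => hQWT t ht w hw⟩
    exact fun s hs => (hsub hs).2
  have hall := d.c₁.tr_all cl_inv hTn hSW
  -- conclusion
  obtain ⟨v, hv, hvZ⟩ := d.c.ZneV
  apply hvZ
  obtain ⟨b, hb, hbQ⟩ := d.exists_b
  have hbS := d.V'S hb
  apply d.c.cmc b hbS hbQ v hv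
  have hx := hall l₁ hl₁ v (hVW hv)
  set x := l₁ * v * l₁⁻¹ * v⁻¹ with hxd
  have h3 := hx.2 b (d.V'Q₁ hb)
  have h4 : (x * v) * b = b * (x * v) := by
    have e : x * v = l₁ * v * l₁⁻¹ := by rw [hxd]; group
    rw [e]
    exact hl _ (conj_mem_cj hv) b hb
  set z := x * b * x⁻¹ * b⁻¹ with hz
  have h5 : cm v b = z := by
    have h6 : x * cm v b = cm v b * x := d.cen' (d.c.quad v hv b hbS) (d.c₁.QS hx.1)
    have e : z = x * (cm v b) * x⁻¹ := by
      have h7 : b * x = x * (v * b * v⁻¹ * b⁻¹) * b * x⁻¹ * x := by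
        calc b * x = b * (x * v) * v⁻¹ := by group
          _ = (x * v) * b * v⁻¹ := by rw [← h4]
          _ = _ := by group
      have h8 : x⁻¹ * b⁻¹ = (b * x)⁻¹ := by group
      calc z = x * b * (x⁻¹ * b⁻¹) := by rw [hz]; group
        _ = x * b * (x * (v * b * v⁻¹ * b⁻¹) * b * x⁻¹ * x)⁻¹ := by rw [h8, h7]
        _ = x * (cm v b) * x⁻¹ := by unfold cm; group
    rw [e, h6]
    group
  rw [h5]
  exact h3.2

end DP

end Cfsg.Agent.H260.GN
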