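import Cfsg.Agent.H260.GN1

/-!
# Glauberman-Niles: the computation with the Weyl element on `X/C`
-/

set_option autoImplicit false
set_option linter.unusedSectionVars false
set_option linter.unusedVariables false
set_option linter.style.haveILetI false

namespace Cfsg.Agent.H260.GN

open Subgroup Push

theorem calc_lemma {A : Type*} [AddCommGroup A] (x y : A →+ A) (Am Ap Zm Zp : AddSubgroup A)
    (hdis : ∀ a ∈ Am, a ∈ Ap → a = 0) (hZm : Zm ≤ Am) (hZp : Zp ≤ Ap)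
    (hx : ∀ w ∈ Ap, x w = w) (hy : ∀ t ∈ Am, y t = t)
    (h2 : ∀ t ∈ Am, ∃ c ∈ Zm, ∃ e ∈ Ap, x t = t + c + e)
    (h3 : ∀ z ∈ Zm, ∃ e ∈ Ap, x z = z + e)
    (h4 : ∀ w ∈ Ap, ∃ f ∈ Am, ∃ d ∈ Zp, y w = w + f + d)
    (h5 : ∀ z ∈ Zp, ∃ f ∈ Zm, y z = z + f)
    (h8 : ∀ z ∈ Zm, x z = z → z = 0)
    (hn1 : ∀ t ∈ Am, x (y (x t)) ∈ Ap) (hn2 : ∀ w ∈ Ap, x (y (x w)) ∈ Am)
    (hinv : ∀ z ∈ Zm, x (y (x (x (y (x z))))) = -z)
    {t c e : A} (ht : t ∈ Am) (hc : c ∈ Zm) (he : e ∈ Ap) (hxt : x t = t + c + e) :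
    x (y (x (x (y (x (x (y (x (x (y (x t))))))))))) = t + (6 : ℕ) • c := by
  have uAp : ∀ a ∈ Am, ∀ w ∈ Ap, a + w ∈ Ap → a = 0 := by
    intro a ha w hw h
    apply hdis a ha
    have := Ap.sub_mem h hw
    rwa [add_sub_cancel_right] at this
  have uAm : ∀ a ∈ Am, ∀ w ∈ Ap, a + w ∈ Am → w = 0 := by
    intro a ha w hw h
    apply hdis w _ hw
    have := Am.sub_mem h ha
    rwa [add_sub_cancel_left] at this
  have hcA := hZm hc
  obtain ⟨e₁, he₁, hxc⟩ := h3 c hc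
  obtain ⟨f, hf, d, hd, hye⟩ := h4 e he
  have hdA := hZp hd
  obtain ⟨c₂, hc₂, e₂, he₂, hxf⟩ := h2 f hf
  obtain ⟨e₃, he₃, hxc₂⟩ := h3 c₂ hc₂
  have hc₂A := hZm hc₂
  have nt : x (y (x t)) = (t + c + c + f + c₂) + (e + e₁ + e + e₂ + d) := by
    rw [hxt]
    simp only [map_add, hy t ht, hy c hcA, hye, hxt, hxc, hx e he, hxf, hx d hdA]
    abel
  have r1 : t + c + c + f + c₂ = 0 := by
    apply uAp _ _ (e + e₁ + e + e₂ + d)
    · exact Ap.add_mem (Ap.add_mem (Ap.add_mem (Ap.add_mem he he₁) he) he₂) hdA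
    · rw [← nt]
      exact hn1 t ht
    · exact Am.add_mem (Am.add_mem (Am.add_mem (Am.add_mem ht hcA) hcA) hf) hc₂A
  have r2 : f = -(t + c + c + c₂) := by
    rw [eq_neg_iff_add_eq_zero, ← r1]; abel
  have hxf' : x f = -((t + c + c + c + c₂) + (e + e₁ + e₁ + e₃)) := by
    rw [r2, map_neg, map_add, map_add, map_add, hxt, hxc, hxc₂]
    abel
  have r3 : (c + c₂) + (e + e₁ + e₁ + e₃ + e₂) = 0 := by
    have h1 : f + c₂ + e₂ = -((t + c + c + c + c₂) + (e + e₁ + e₁ + e₃)) := by rw [← hxf, hxf']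
    rw [r2] at h1
    have h2 : -(t + c + c + c₂) + c₂ + e₂ + ((t + c + c + c + c₂) + (e + e₁ + e₁ + e₃)) = 0 := by
      rw [h1]; abel
    rw [← h2]
    abel
  have hE : e + e₁ + e₁ + e₃ + e₂ ∈ Ap :=
    Ap.add_mem (Ap.add_mem (Ap.add_mem (Ap.add_mem he he₁) he₁) he₃) he₂
  have r4 : c + c₂ = 0 := by
    apply uAp _ (Am.add_mem hcA hc₂A) _ hE
    rw [r3]
    exact Ap.zero_mem
  have r5 : c₂ = -c := (neg_eq_of_add_eq_zero_right r4).symm
  have r6 : e₃ = -e₁ := by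
    have h1 : x c₂ = -(c + e₁) := by rw [r5, map_neg, hxc]
    rw [hxc₂, r5] at h1
    have h2 : -c + e₃ = -c + -e₁ := by rw [h1]; abel
    exact add_left_cancel h2
  have r7 : e₂ = -(e + e₁) := by
    have h1 : e + e₁ + e₁ + e₃ + e₂ = 0 := by
      rw [r4, zero_add] at r3
      exact r3
    rw [r6] at h1
    rw [eq_neg_iff_add_eq_zero, ← h1]
    abel
  have r8 : f = -(t + c) := by rw [r2, r5]; abel
  -- d = e₁
  have r9 : d = e₁ := by
    have h1 : x (y (x e)) = (f + c₂) + (e + e₂ + d) := by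
      rw [hx e he, hye, map_add, map_add, hx e he, hxf, hx d hdA]
      abel
    have h2 : e + e₂ + d = 0 := by
      apply uAm _ (Am.add_mem hf hc₂A) _ (Ap.add_mem (Ap.add_mem he he₂) hdA)
      rw [← h1]
      exact hn2 e he
    rw [r7] at h2
    have h3 : -e₁ + d = 0 := by rw [← h2]; abel
    have h4 : d = -(-e₁) := (neg_eq_of_add_eq_zero_right h3).symm
    rw [h4, neg_neg]
  obtain ⟨f', hf', hyd⟩ := h5 d hd
  obtain ⟨e₄, he₄, hxf4⟩ := h3 f' hf'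
  have hf'A := hZm hf'
  have r10 : e₄ = -d := by
    have h1 : x (y (x d)) = f' + (d + e₄) := by
      rw [hx d hdA, hyd, map_add, hx d hdA, hxf4]
      abel
    have h2 : d + e₄ = 0 := by
      apply uAm _ hf'A _ (Ap.add_mem hdA he₄)
      rw [← h1]
      exact hn2 d hdA
    exact (neg_eq_of_add_eq_zero_right h2).symm
  have r11 : f' = -c := by
    have h1 : x (f' + c) = f' + c := by
      rw [map_add, hxf4, hxc, r10, r9]
      abel
    have h2 := h8 _ (Zm.add_mem hf' hc) h1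
    rw [eq_neg_iff_add_eq_zero]
    exact h2
  have nt' : x (y (x t)) = e + d := by
    rw [nt, r1, zero_add, r7, r9]
    abel
  have nnt : x (y (x (x (y (x t))))) = -(t + c + c + c) := by
    rw [nt']
    simp only [map_add, hx e he, hx d hdA, hye, hyd, hxf, hxf4]
    rw [r8, r5, r7, r10, r11, r9]
    abel
  have hcc : x (y (x (x (y (x c))))) = -c := hinv c hc
  have e3 : ∀ a b : A, x (y (x (x (y (x (a + b)))))) =
      x (y (x (x (y (x a))))) + x (y (x (x (y (x b))))) := by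
    intro a b
    simp only [map_add]
  have e4 : ∀ a : A, x (y (x (x (y (x (-a)))))) = -x (y (x (x (y (x a))))) := by
    intro a
    simp only [map_neg]
  rw [nnt, e4, e3, e3, e3, nnt, hcc]
  have : (6 : ℕ) • c = c + c + c + c + c + c := by
    simp only [succ_nsmul, zero_nsmul, zero_add]
  rw [this]
  abel

variable {G : Type*} [Group G]

theorem live_calc {L X Cz : Subgroup G} (hXn : ∀ g ∈ L, cj g X = X) (hCX : Cz ≤ X)
    (hC : Cm Cz L) (hXL : X ≤ L) (hXX : ∀ a ∈ X, ∀ b ∈ X, a * b * a⁻¹ * b⁻¹ ∈ Cz) {x y : G}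
    (hxL : x ∈ L) (hyL : y ∈ L) {Am Ap Zm Zp : Subgroup G} (hAm : Am ≤ X) (hAp : Ap ≤ X)
    (hCm : Cz ≤ Zm) (hCp : Cz ≤ Zp) (hdis : Am ⊓ Ap ≤ Cz) (hZm : Zm ≤ Am) (hZp : Zp ≤ Ap)
    (hx : ∀ w ∈ Ap, x * w * x⁻¹ * w⁻¹ ∈ Cz) (hy : ∀ t ∈ Am, y * t * y⁻¹ * t⁻¹ ∈ Cz)
    (h2 : ∀ t ∈ Am, ∃ c ∈ Zm, ∃ e ∈ Ap, x * t * x⁻¹ * (t * c * e)⁻¹ ∈ Cz)
    (h3 : ∀ z ∈ Zm, ∃ e ∈ Ap, x * z * x⁻¹ * (z * e)⁻¹ ∈ Cz)
    (h4 : ∀ w ∈ Ap, ∃ f ∈ Am, ∃ d ∈ Zp, y * w * y⁻¹ * (w * f * d)⁻¹ ∈ Cz)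
    (h5 : ∀ z ∈ Zp, ∃ f ∈ Zm, y * z * y⁻¹ * (z * f)⁻¹ ∈ Cz)
    (h8 : ∀ z ∈ Zm, x * z * x⁻¹ * z⁻¹ ∈ Cz → z ∈ Cz)
    (hn1 : ∀ t ∈ Am, (x * y * x) * t * (x * y * x)⁻¹ ∈ Ap)
    (hn2 : ∀ w ∈ Ap, (x * y * x) * w * (x * y * x)⁻¹ ∈ Am)
    (hinv : ∀ z ∈ Zm, (x * y * x) ^ 2 * z * ((x * y * x) ^ 2)⁻¹ * z ∈ Cz)
    {t c e : G} (ht : t ∈ Am) (hc : c ∈ Zm) (he : e ∈ Ap)
    (hxt : x * t * x⁻¹ * (t * c * e)⁻¹ ∈ Cz) :
    (x * y * x) ^ 4 * t * ((x * y * x) ^ 4)⁻¹ * (t * c ^ 6)⁻¹ ∈ Cz := by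
  set N : Subgroup X := Cz.subgroupOf X with hN
  haveI hNn : N.Normal := by
    constructor
    intro a ha b
    rw [hN, mem_subgroupOf] at ha ⊢
    have h1 : (a : G) * (b : G) = b * a := hC _ ha _ (hXL b.2)
    have : ((b * a * b⁻¹ : X) : G) = a := by
      rw [coe_mul, coe_mul, coe_inv, ← h1]; group
    rw [this]
    exact ha
  letI instC : CommGroup (X ⧸ N) :=
    { (inferInstance : Group (X ⧸ N)) with
      mul_comm := by
        intro a b
        obtain ⟨a, rfl⟩ := QuotientGroup.mk_surjective a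
        obtain ⟨b, rfl⟩ := QuotientGroup.mk_surjective b
        change (QuotientGroup.mk (a * b) : X ⧸ N) = QuotientGroup.mk (b * a)
        rw [QuotientGroup.eq, hN, mem_subgroupOf]
        have h1 := hXX (b⁻¹ : G) (inv_mem b.2) (a⁻¹ : G) (inv_mem a.2)
        have e : (((a * b)⁻¹ * (b * a) : X) : G) = (b : G)⁻¹ * (a : G)⁻¹ * (b : G)⁻¹⁻¹ * (a : G)⁻¹⁻¹ := by
          simp only [coe_mul, coe_inv, mul_inv_rev]
          group
        rw [e]
        exact h1 }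
  -- action
  let cX : ∀ k ∈ L, X →* X := fun k hk =>
    { toFun := fun v => ⟨k * v * k⁻¹, by
        have := conj_mem_cj (g := k) v.2
        rwa [hXn k hk] at this⟩
      map_one' := by apply Subtype.ext; simp
      map_mul' := fun v w => by
        apply Subtype.ext
        change k * (v * w) * k⁻¹ = (k * v * k⁻¹) * (k * w * k⁻¹)
        group }
  have hcX : ∀ k (hk : k ∈ L), N ≤ N.comap (cX k hk) := by
    intro k hk a ha
    rw [Subgroup.mem_comap, hN, mem_subgroupOf]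
    rw [hN, mem_subgroupOf] at ha
    have h1 : (a : G) * k = k * a := hC _ ha _ hk
    have : ((cX k hk a : X) : G) = a := by
      change k * a * k⁻¹ = a
      rw [← h1]; group
    rw [this]
    exact ha
  let act : ∀ k ∈ L, Additive (X ⧸ N) →+ Additive (X ⧸ N) := fun k hk =>
    MonoidHom.toAdditive (QuotientGroup.map N N (cX k hk) (hcX k hk))
  let cls : ∀ v ∈ X, Additive (X ⧸ N) := fun v hv => Additive.ofMul (QuotientGroup.mk ⟨v, hv⟩)
  have act_cls : ∀ k (hk : k ∈ L) v (hv : v ∈ X) (hv' : k * v * k⁻¹ ∈ X),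
      act k hk (cls v hv) = cls (k * v * k⁻¹) hv' := fun k hk v hv hv' => rfl
  have cls_add : ∀ v (hv : v ∈ X) w (hw : w ∈ X) (hvw : v * w ∈ X),
      cls (v * w) hvw = cls v hv + cls w hw := fun v hv w hw hvw => rfl
  have cls_eq : ∀ v (hv : v ∈ X) w (hw : w ∈ X), cls v hv = cls w hw ↔ v * w⁻¹ ∈ Cz := by
    intro v hv w hw
    have h1 : cls v hv = cls w hw ↔
        (QuotientGroup.mk (⟨v, hv⟩ : X) : X ⧸ N) = QuotientGroup.mk ⟨w, hw⟩ := Iff.rfl
    rw [h1, QuotientGroup.eq, hN, mem_subgroupOf]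
    change v⁻¹ * w ∈ Cz ↔ v * w⁻¹ ∈ Cz
    constructor
    · intro h
      have h2 : v⁻¹ * w * w = w * (v⁻¹ * w) := hC _ h _ (hXL hw)
      have e : v * w⁻¹ = (v⁻¹ * w)⁻¹ := by
        have h3 : v⁻¹ * w = w * v⁻¹ := by
          have : v⁻¹ * w * w * w⁻¹ = w * (v⁻¹ * w) * w⁻¹ := by rw [h2]
          calc v⁻¹ * w = v⁻¹ * w * w * w⁻¹ := by group
            _ = w * (v⁻¹ * w) * w⁻¹ := this
            _ = w * v⁻¹ := by group
        rw [h3]; group
      rw [e]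
      exact inv_mem h
    · intro h
      have h2 : v * w⁻¹ * w⁻¹ = w⁻¹ * (v * w⁻¹) := hC _ h _ (inv_mem (hXL hw))
      have e : v⁻¹ * w = (v * w⁻¹)⁻¹ := by
        have h3 : v * w⁻¹ = w⁻¹ * v := by
          calc v * w⁻¹ = v * w⁻¹ * w⁻¹ * w := by group
            _ = w⁻¹ * (v * w⁻¹) * w := by rw [h2]
            _ = w⁻¹ * v := by group
        rw [h3]; group
      rw [e]
      exact inv_mem h
  have cls_zero : ∀ v (hv : v ∈ X), cls v hv = 0 ↔ v ∈ Cz := by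
    intro v hv
    have h1 : (0 : Additive (X ⧸ N)) = cls 1 X.one_mem := rfl
    rw [h1, cls_eq, inv_one, mul_one]
  let sub : Subgroup G → AddSubgroup (Additive (X ⧸ N)) := fun H =>
    Subgroup.toAddSubgroup ((H.subgroupOf X).map (QuotientGroup.mk' N))
  have mem_sub : ∀ (H : Subgroup G) a, a ∈ sub H ↔ ∃ v, ∃ (_ : v ∈ H) (hv : v ∈ X), cls v hv = a := by
    intro H a
    constructor
    · rintro ⟨v, hv, e⟩
      exact ⟨v, hv, v.2, e⟩
    · rintro ⟨v, hv, hvX, e⟩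
      exact ⟨⟨v, hvX⟩, hv, e⟩
  have cls_mem : ∀ (H : Subgroup G), Cz ≤ H → ∀ v (hv : v ∈ X), cls v hv ∈ sub H → v ∈ H := by
    intro H hCH v hv h
    obtain ⟨w, hw, hwX, e⟩ := (mem_sub H _).mp h
    rw [cls_eq] at e
    have : v = (w * v⁻¹)⁻¹ * w := by group
    rw [this]
    exact mul_mem (inv_mem (hCH e)) hw
  have mem_cls : ∀ (H : Subgroup G) v (hv : v ∈ X), v ∈ H → cls v hv ∈ sub H :=
    fun H v hv h => (mem_sub H _).mpr ⟨v, h, hv, rfl⟩
  have hcong : ∀ k (hk : k ∈ L) v (hv : v ∈ X) w (hw : w ∈ X), k * v * k⁻¹ * w⁻¹ ∈ Cz →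
      act k hk (cls v hv) = cls w hw := by
    intro k hk v hv w hw h
    have hv' : k * v * k⁻¹ ∈ X := by
      have := conj_mem_cj (g := k) hv
      rwa [hXn k hk] at this
    rw [act_cls k hk v hv hv', cls_eq]
    exact h
  have hCAm : Cz ≤ Am := hCm.trans hZm
  have hCAp : Cz ≤ Ap := hCp.trans hZp
  have hmul3 : ∀ v (hv : v ∈ X) w (hw : w ∈ X) u (hu : u ∈ X),
      cls v hv + cls w hw + cls u hu = cls (v * w * u) (mul_mem (mul_mem hv hw) hu) :=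
    fun v hv w hw u hu => rfl
  have hnact : ∀ v (hv : v ∈ X) (hv' : (x * y * x) * v * (x * y * x)⁻¹ ∈ X),
      act x hxL (act y hyL (act x hxL (cls v hv))) = cls ((x * y * x) * v * (x * y * x)⁻¹) hv' := by
    intro v hv hv'
    have g1 : x * v * x⁻¹ ∈ X := by
      have := conj_mem_cj (g := x) hv
      rwa [hXn x hxL] at this
    have g2 : y * (x * v * x⁻¹) * y⁻¹ ∈ X := by
      have := conj_mem_cj (g := y) g1
      rwa [hXn y hyL] at this
    have g3 : x * (y * (x * v * x⁻¹) * y⁻¹) * x⁻¹ ∈ X := by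
      have := conj_mem_cj (g := x) g2
      rwa [hXn x hxL] at this
    rw [act_cls x hxL v hv g1, act_cls y hyL _ g1 g2, act_cls x hxL _ g2 g3, cls_eq]
    have : x * (y * (x * v * x⁻¹) * y⁻¹) * x⁻¹ * (x * y * x * v * (x * y * x)⁻¹)⁻¹ = 1 := by group
    rw [this]
    exact one_mem _
  have hnL : x * y * x ∈ L := mul_mem (mul_mem hxL hyL) hxL
  have hnX : ∀ v ∈ X, (x * y * x) * v * (x * y * x)⁻¹ ∈ X := by
    intro v hv
    have := conj_mem_cj (g := x * y * x) hv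
    rwa [hXn _ hnL] at this
  have htX := hAm ht
  have hcX' := hAm (hZm hc)
  have heX := hAp he
  have key := calc_lemma (act x hxL) (act y hyL) (sub Am) (sub Ap) (sub Zm) (sub Zp)
    (by
      intro a ha ha'
      obtain ⟨v, hv, hvX, rfl⟩ := (mem_sub _ _).mp ha
      rw [cls_zero]
      exact hdis ⟨hv, cls_mem Ap hCAp v hvX ha'⟩)
    (by
      intro a ha
      obtain ⟨v, hv, hvX, rfl⟩ := (mem_sub _ _).mp ha
      exact mem_cls _ _ _ (hZm hv))
    (by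
      intro a ha
      obtain ⟨v, hv, hvX, rfl⟩ := (mem_sub _ _).mp ha
      exact mem_cls _ _ _ (hZp hv))
    (by
      intro a ha
      obtain ⟨v, hv, hvX, rfl⟩ := (mem_sub _ _).mp ha
      exact hcong x hxL v hvX v hvX (hx v hv))
    (by
      intro a ha
      obtain ⟨v, hv, hvX, rfl⟩ := (mem_sub _ _).mp ha
      exact hcong y hyL v hvX v hvX (hy v hv))
    (by
      intro a ha
      obtain ⟨v, hv, hvX, rfl⟩ := (mem_sub _ _).mp ha
      obtain ⟨c, hc, e, he, h⟩ := h2 v hv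
      refine ⟨cls c (hAm (hZm hc)), mem_cls _ _ _ hc, cls e (hAp he), mem_cls _ _ _ he, ?_⟩
      rw [hmul3]
      exact hcong x hxL v hvX _ _ h)
    (by
      intro a ha
      obtain ⟨v, hv, hvX, rfl⟩ := (mem_sub _ _).mp ha
      obtain ⟨e, he, h⟩ := h3 v hv
      refine ⟨cls e (hAp he), mem_cls _ _ _ he, ?_⟩
      rw [← cls_add v hvX e (hAp he) (mul_mem hvX (hAp he))]
      exact hcong x hxL v hvX _ _ h)
    (by
      intro a ha
      obtain ⟨v, hv, hvX, rfl⟩ := (mem_sub _ _).mp ha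
      obtain ⟨f, hf, d, hd, h⟩ := h4 v hv
      refine ⟨cls f (hAm hf), mem_cls _ _ _ hf, cls d (hAp (hZp hd)), mem_cls _ _ _ hd, ?_⟩
      rw [hmul3]
      exact hcong y hyL v hvX _ _ h)
    (by
      intro a ha
      obtain ⟨v, hv, hvX, rfl⟩ := (mem_sub _ _).mp ha
      obtain ⟨f, hf, h⟩ := h5 v hv
      refine ⟨cls f (hAm (hZm hf)), mem_cls _ _ _ hf, ?_⟩
      rw [← cls_add v hvX f (hAm (hZm hf)) (mul_mem hvX (hAm (hZm hf)))]
      exact hcong y hyL v hvX _ _ h)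
    (by
      intro a ha hxa
      obtain ⟨v, hv, hvX, rfl⟩ := (mem_sub _ _).mp ha
      have hv' : x * v * x⁻¹ ∈ X := by
        have := conj_mem_cj (g := x) hvX
        rwa [hXn x hxL] at this
      rw [act_cls x hxL v hvX hv', cls_eq] at hxa
      rw [cls_zero]
      exact h8 v hv hxa)
    (by
      intro a ha
      obtain ⟨v, hv, hvX, rfl⟩ := (mem_sub _ _).mp ha
      rw [hnact v hvX (hnX v hvX)]
      exact mem_cls _ _ _ (hn1 v hv))
    (by
      intro a ha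
      obtain ⟨v, hv, hvX, rfl⟩ := (mem_sub _ _).mp ha
      rw [hnact v hvX (hnX v hvX)]
      exact mem_cls _ _ _ (hn2 v hv))
    (by
      intro a ha
      obtain ⟨v, hv, hvX, rfl⟩ := (mem_sub _ _).mp ha
      rw [hnact v hvX (hnX v hvX), hnact _ (hnX v hvX) (hnX _ (hnX v hvX)), eq_neg_iff_add_eq_zero,
        ← cls_add _ _ v hvX (mul_mem (hnX _ (hnX v hvX)) hvX), cls_zero]
      have e : x * y * x * (x * y * x * v * (x * y * x)⁻¹) * (x * y * x)⁻¹ * v =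
          (x * y * x) ^ 2 * v * ((x * y * x) ^ 2)⁻¹ * v := by
        rw [pow_two]; group
      rw [e]
      exact hinv v hv)
    (mem_cls Am t htX ht) (mem_cls Zm c hcX' hc) (mem_cls Ap e heX he)
    (by
      rw [hmul3]
      exact hcong x hxL t htX _ _ hxt)
  rw [hnact t htX (hnX t htX), hnact _ (hnX t htX) (hnX _ (hnX t htX)),
    hnact _ (hnX _ (hnX t htX)) (hnX _ (hnX _ (hnX t htX))),
    hnact _ (hnX _ (hnX _ (hnX t htX))) (hnX _ (hnX _ (hnX _ (hnX t htX))))] at key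
  have h6 : (6 : ℕ) • cls c hcX' = cls (c ^ 6) (pow_mem hcX' 6) := rfl
  rw [h6, ← cls_add t htX _ (pow_mem hcX' 6) (mul_mem htX (pow_mem hcX' 6)), cls_eq] at key
  have e : x * y * x * (x * y * x * (x * y * x * (x * y * x * t * (x * y * x)⁻¹) * (x * y * x)⁻¹) *
      (x * y * x)⁻¹) * (x * y * x)⁻¹ = (x * y * x) ^ 4 * t * ((x * y * x) ^ 4)⁻¹ := by
    have : (x * y * x) ^ 4 = (x * y * x) * ((x * y * x) * ((x * y * x) * (x * y * x))) := by
      rw [pow_succ, pow_succ, pow_succ, pow_one]; group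
    rw [this]; group
  rw [e] at key
  exact key

end Cfsg.Agent.H260.GN
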