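import Cfsg.Agent.H260.GN8
import Cfsg.Agent.H260.GNCalc

/-!
# Glauberman-Niles, part 9: paths of length four at distance one, `p ≥ 5`
-/

set_option autoImplicit false
set_option linter.unusedSectionVars false
set_option linter.unusedVariables false
set_option linter.style.haveILetI false

namespace Cfsg.Agent.H260.GN

open Subgroup Push
open scoped commutatorElement

variable {G : Type*} [Group G]

theorem cs_sup {g : G} {N B : Subgroup G} (hB : ∀ x ∈ N, cj x B = B) {A A' : Subgroup G}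
    (hA : A ≤ N) (hA' : A' ≤ N) (h : ∀ x ∈ A, g * x * g⁻¹ * x⁻¹ ∈ B)
    (h' : ∀ x ∈ A', g * x * g⁻¹ * x⁻¹ ∈ B) : ∀ x ∈ A ⊔ A', g * x * g⁻¹ * x⁻¹ ∈ B := by
  have : A ⊔ A' ≤ cs g N B hB := sup_le (fun x hx => ⟨hA hx, h x hx⟩) (fun x hx => ⟨hA' hx, h' x hx⟩)
  exact fun x hx => (this hx).2

/-- the `g ∈ M` with `[g,x] ∈ B`. -/
def tr1 (M : Subgroup G) (x : G) (B : Subgroup G) (hB : ∀ g ∈ M, cj g B = B) : Subgroup G where
  carrier := {g | g ∈ M ∧ g * x * g⁻¹ * x⁻¹ ∈ B}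
  one_mem' := ⟨M.one_mem, by simp⟩
  mul_mem' := by
    rintro g h ⟨hg, hg'⟩ ⟨hh, hh'⟩
    refine ⟨M.mul_mem hg hh, ?_⟩
    have e : g * h * x * (g * h)⁻¹ * x⁻¹ = (g * (h * x * h⁻¹ * x⁻¹) * g⁻¹) * (g * x * g⁻¹ * x⁻¹) := by
      group
    rw [e]
    apply B.mul_mem _ hg'
    have := conj_mem_cj (g := g) hh'
    rwa [hB g hg] at this
  inv_mem' := by
    rintro g ⟨hg, hg'⟩
    refine ⟨M.inv_mem hg, ?_⟩
    have e : g⁻¹ * x * g⁻¹⁻¹ * x⁻¹ = g⁻¹ * (g * x * g⁻¹ * x⁻¹)⁻¹ * g⁻¹⁻¹ := by group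
    rw [e]
    have := conj_mem_cj (g := g⁻¹) (B.inv_mem hg')
    rwa [hB _ (M.inv_mem hg)] at this

namespace Loc

variable {p q : ℕ} [hp : Fact p.Prime] {S L Q V C M : Subgroup G}
variable (c : Loc p q S L Q V C M)
include c

/-- an `L`-invariant subgroup containing an element of `S - Q` supplements `S`. -/
theorem dich' {K : Subgroup G} (hK : ∀ g ∈ L, cj g K = K) {b : G} (hbK : b ∈ K) (hb : b ∈ S)
    (hbQ : b ∉ Q) : L ≤ K ⊔ S := by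
  obtain ⟨g, hg, hgM⟩ := c.ex
  set k := g⁻¹ * b * g with hk
  have hkM : k ∉ M := c.ti g hg hgM b hb hbQ
  have hkL : k ∈ L := L.mul_mem (L.mul_mem (L.inv_mem hg) (c.SL hb)) hg
  have hkK : k ∈ K := by
    rw [hk, ← mem_cj, hK g hg]
    exact hbK
  rw [← c.gen k hkL hkM]
  apply sup_le le_sup_right
  intro x hx
  rw [mem_cj] at hx
  have e : x = (k * ((k⁻¹ * x * k) * k⁻¹ * (k⁻¹ * x * k)⁻¹)) * (k⁻¹ * x * k) := by group
  rw [e]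
  refine mul_mem (mem_sup_left (mul_mem hkK ?_)) (mem_sup_right hx)
  have := conj_mem_cj (g := k⁻¹ * x * k) (inv_mem hkK)
  rwa [hK _ (c.SL hx)] at this

end Loc

/-- a path `a₂ - a₁ - c - b₁ - b₂` moving at `c`. -/
structure P5 {p : ℕ} {S₂ T S S' : Subgroup G} (a₂ : Vx p S₂) (a₁ cl : Vx p T) (cr b₁ : Vx p S)
    (b₂ : Vx p S') (g : G) : Prop where
  h1 : P4 a₂ a₁ cl b₁
  h2 : P4 a₁ cr b₁ b₂
  hL : cl.L = cr.L
  hQ : cl.Q = cr.Q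
  hV : cl.V = cr.V
  hC : cl.C = cr.C
  hg : g ∈ cr.L
  hgM : g ∉ cr.M
  hgM' : g⁻¹ ∉ cl.M
  hT : T = cj g S
  adj : Cm b₁.V (cj g⁻¹ a₁.V)
  hM : ⁅b₁.V, S⁆ ≤ cr.C

namespace P5

variable {p : ℕ} [hp : Fact p.Prime] {S₂ T S S' : Subgroup G} {a₂ : Vx p S₂} {a₁ cl : Vx p T}
  {cr b₁ : Vx p S} {b₂ : Vx p S'} {g : G}

theorem symm (h : P5 a₂ a₁ cl cr b₁ b₂ g) : P5 b₂ b₁ cr cl a₁ a₂ g⁻¹ where
  h1 := h.h2.symm
  h2 := h.h1.symm
  hL := h.hL.symm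
  hQ := h.hQ.symm
  hV := h.hV.symm
  hC := h.hC.symm
  hg := by rw [h.hL]; exact inv_mem h.hg
  hgM := h.hgM'
  hgM' := by rw [inv_inv]; exact h.hgM
  hT := by rw [h.hT, cj_inv_cj]
  adj := by
    rw [inv_inv]
    have := h.adj.symm
    rwa [cm_cj_left, inv_inv] at this
  hM := by
    have h1 : ⁅b₁.V, S⁆ = ⁅a₁.V, T⁆ := h.h1.critbd.2.2.2.2.2.2
    rw [← h1, h.hC]
    exact h.hM

variable (h : P5 a₂ a₁ cl cr b₁ b₂ g)
include h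

theorem cenT : cj g (cen S) = cen T := by rw [cj_cen, ← h.hT]

theorem V0 : cr.V = cen S ⊔ cen T := by rw [← h.cenT, cr.loc.supZ h.hg h.hgM]

theorem V0X : cr.V ≤ a₁.V ⊔ b₁.V := by
  rw [h.V0]
  exact sup_le (b₁.loc.ZV.trans le_sup_right) (a₁.loc.ZV.trans le_sup_left)

theorem XQ : a₁.V ⊔ b₁.V ≤ cr.Q := sup_le h.h2.VaQb h.h2.VcQb

theorem XL : a₁.V ⊔ b₁.V ≤ cr.L := h.XQ.trans cr.loc.QL

theorem XS : a₁.V ⊔ b₁.V ≤ S := h.XQ.trans cr.loc.QS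

theorem TL : T ≤ cr.L := by
  rw [h.hT]
  have := cj_mono (g := g) cr.loc.SL
  rwa [cj_of_mem h.hg] at this

theorem cC {γ k : G} (hγ : γ ∈ cr.C) (hk : k ∈ cr.L) : k * γ * k⁻¹ = γ := by
  rw [← cr.loc.CL γ hγ k hk]; group

theorem tS {s w : G} (hs : s ∈ S) (hw : w ∈ b₁.V) : s * w * s⁻¹ * w⁻¹ ∈ cr.C := by
  apply h.hM
  exact b₁.loc.cm_mem_R hw hs

theorem tT {s w : G} (hs : s ∈ T) (hw : w ∈ a₁.V) : s * w * s⁻¹ * w⁻¹ ∈ cr.C := by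
  rw [← h.hC]
  exact h.symm.tS hs hw

theorem X_inv_S : ∀ s ∈ S, cj s (a₁.V ⊔ b₁.V) = a₁.V ⊔ b₁.V := by
  haveI := cr.loc.finS
  haveI : Finite (a₁.V ⊔ b₁.V : Subgroup G) := fin_le h.XS
  have k1 : ∀ y ∈ b₂.V, cj y (a₁.V ⊔ b₁.V) = a₁.V ⊔ b₁.V := by
    intro y hy
    apply cj_eq_of_le
    rw [cj_sup, b₁.loc.Vn y (b₁.loc.SL (h.h2.VdS hy))]
    apply sup_le _ le_sup_right
    intro x hx
    rw [mem_cj] at hx
    obtain ⟨v, hv, w, hw, hvw⟩ := h.h2.comm_mem hx hy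
    have e : x = ⁅y⁻¹ * x * y, y⁆⁻¹ * (y⁻¹ * x * y) := by rw [commutatorElement_def]; group
    rw [e]
    refine mul_mem (inv_mem ?_) (mem_sup_left hx)
    rw [hvw]
    exact mul_mem (h.V0X hv) (mem_sup_right hw)
  have k2 : ∀ x ∈ cr.Q, cj x (a₁.V ⊔ b₁.V) = a₁.V ⊔ b₁.V := by
    intro x hx
    exact cj_sup_eq (a₁.loc.Vn x (a₁.loc.SL (h.h2.QbSa hx))) (b₁.loc.Vn x (b₁.loc.SL (cr.loc.QS hx)))
  have k3 := norm_sup k1 k2
  exact fun s hs => k3 s (h.h2.critbd.2.1.ge hs)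

theorem L_le : cr.L ≤ S ⊔ T := by
  have := cr.loc.gen g h.hg h.hgM
  rw [← h.hT] at this
  exact this.ge

theorem X_inv : ∀ l ∈ cr.L, cj l (a₁.V ⊔ b₁.V) = a₁.V ⊔ b₁.V := by
  have k1 := h.X_inv_S
  have k2 := h.symm.X_inv_S
  rw [sup_comm] at k2
  have k3 := norm_sup k1 k2
  exact fun l hl => k3 l (h.L_le hl)

theorem QX {x y : G} (hx : x ∈ cr.Q) (hy : y ∈ a₁.V ⊔ b₁.V) : x * y * x⁻¹ * y⁻¹ ∈ cr.C := by
  apply cs_sup (N := a₁.V ⊔ b₁.V) (B := cr.C) (fun z hz => cr.loc.Cn z (h.XL hz)) le_sup_left le_sup_right _ _ y hy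
  · exact fun w hw => h.tT (h.h2.QbSa hx) hw
  · exact fun w hw => h.tS (cr.loc.QS hx) hw

/-- `[S, V_{a₁}] ≤ V V_{b₁}`. -/
theorem SV {b t : G} (hb : b ∈ S) (ht : t ∈ a₁.V) : b * t * b⁻¹ * t⁻¹ ∈ cr.V ⊔ b₁.V := by
  have hb' := h.h2.critbd.2.1.ge hb
  obtain ⟨y, hy, x, hx, rfl⟩ := mem_sup_of_norm (fun k hk => cr.loc.Qn k (cr.loc.SL (h.h2.VdS hk))) hb'
  have h3 := h.QX hx (mem_sup_left ht : t ∈ a₁.V ⊔ b₁.V)
  have hyL := cr.loc.SL (h.h2.VdS hy)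
  have e : y * x * t * (y * x)⁻¹ * t⁻¹ = (y * (x * t * x⁻¹ * t⁻¹) * y⁻¹) * (y * t * y⁻¹ * t⁻¹) := by group
  rw [e, h.cC h3 hyL]
  apply mul_mem (mem_sup_left (cr.loc.CV h3))
  obtain ⟨v, hv, w, hw, hvw⟩ := h.h2.comm_mem ht hy
  have e2 : y * t * y⁻¹ * t⁻¹ = ⁅t, y⁆⁻¹ := by rw [commutatorElement_def]; group
  rw [e2, hvw]
  exact inv_mem (mul_mem (mem_sup_left hv) (mem_sup_right hw))

theorem VX : Cm cr.V (a₁.V ⊔ b₁.V) := h.h2.cab.symm.sup_right h.h2.cbc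

theorem b1T : b₁.V ≤ T := h.h2.VcQb.trans h.h2.QbSa

/-- the symmetric form argument. -/
theorem step1 {b t : G} (hb : b ∈ S) (ht : t ∈ a₁.V) (htT : t ∉ cen T)
    (h3 : b * t * b⁻¹ * t⁻¹ ∈ cr.V) : ∀ t' ∈ a₁.V, b * t' * b⁻¹ * t'⁻¹ ∈ cr.V := by
  intro t' ht'
  obtain ⟨v, hv, w, hw, hvw⟩ := h.h2.cbc.mem_sup (h.SV hb ht')
  set v₁ := b * t * b⁻¹ * t⁻¹ with hv₁
  have htX : t ∈ a₁.V ⊔ b₁.V := mem_sup_left ht
  have ht'X : t' ∈ a₁.V ⊔ b₁.V := mem_sup_left ht'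
  have hwX : w ∈ a₁.V ⊔ b₁.V := mem_sup_right hw
  have e1 : b * t * b⁻¹ = v₁ * t := by rw [hv₁]; group
  have e2 : b * t' * b⁻¹ = v * w * t' := by rw [hvw]; group
  have htt' : t * t' = t' * t := a₁.loc.Vab t ht t' ht'
  have e3 : (v₁ * t) * (v * w * t') = (v * w * t') * (v₁ * t) := by
    rw [← e1, ← e2]
    calc b * t * b⁻¹ * (b * t' * b⁻¹) = b * (t * t') * b⁻¹ := by group
      _ = b * (t' * t) * b⁻¹ := by rw [htt']
      _ = _ := by group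
  have g1 : t * v = v * t := (h.VX v hv t htX).symm
  have g2 : w * v₁ = v₁ * w := (h.VX v₁ h3 w hwX).symm
  have g3 : t' * v₁ = v₁ * t' := (h.VX v₁ h3 t' ht'X).symm
  have g4 : v * v₁ = v₁ * v := cr.loc.Vab v hv v₁ h3
  have e4 : (v₁ * v) * (t * w) * t' = (v₁ * v) * (w * t) * t' := by
    calc (v₁ * v) * (t * w) * t' = v₁ * (v * t) * w * t' := by group
      _ = v₁ * (t * v) * w * t' := by rw [g1]
      _ = (v₁ * t) * (v * w * t') := by group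
      _ = (v * w * t') * (v₁ * t) := e3
      _ = v * w * (t' * v₁) * t := by group
      _ = v * (w * v₁) * t' * t := by rw [g3]; group
      _ = (v * v₁) * w * (t' * t) := by rw [g2]; group
      _ = _ := by rw [g4, ← htt']; group
  have e5 : t * w = w * t := mul_left_cancel (mul_right_cancel e4)
  have hwQ : w ∈ a₁.Q := by
    by_contra hwQ
    exact htT (a₁.loc.fix (h.b1T hw) hwQ ht e5.symm)
  have hwZ : w ∈ cen S := by
    rw [← h.h2.critac.2.2.2.1]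
    exact ⟨hw, hwQ⟩
  rw [← hvw]
  exact mul_mem hv (cr.loc.ZV hwZ)

/-- **N1**. -/
theorem N1 {b t : G} (hb : b ∈ S) (hbQ : b ∉ cr.Q) (ht : t ∈ a₁.V)
    (h3 : b * t * b⁻¹ * t⁻¹ ∈ cr.V) : t ∈ cen T := by
  by_contra htT
  have hall := h.step1 hb ht htT h3
  have hVN : ∀ z ∈ a₁.V ⊔ b₁.V, cj z cr.V = cr.V := fun z hz => cr.loc.Vn z (h.XL hz)
  set K := tr cr.L (a₁.V ⊔ b₁.V) cr.V cr.loc.Vn with hK
  have hKn : ∀ g ∈ cr.L, cj g K = K := tr_n h.X_inv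
  have hbK : b ∈ K := by
    refine ⟨cr.loc.SL hb, ?_⟩
    apply cs_sup (N := a₁.V ⊔ b₁.V) hVN le_sup_left le_sup_right hall
    exact fun w hw => cr.loc.CV (h.tS hb hw)
  have hLK := cr.loc.dich' hKn hbK hb hbQ
  have hfin : ∀ s ∈ S, ∀ t ∈ a₁.V, s * t * s⁻¹ * t⁻¹ ∈ cr.V := by
    intro s hs t ht
    obtain ⟨k, hk, s₀, hs₀, hks⟩ := mem_sup_of_norm' (fun k hk => hKn k (cr.loc.SL hk)) (hLK h.hg)
    have hkL : k ∈ cr.L := hk.1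
    have hr : k * s * k⁻¹ ∈ T := by
      rw [h.hT, mem_cj, ← hks]
      have e : (k * s₀)⁻¹ * (k * s * k⁻¹) * (k * s₀) = s₀⁻¹ * s * s₀ := by group
      rw [e]
      exact mul_mem (mul_mem (inv_mem hs₀) hs) hs₀
    set r := k * s * k⁻¹ with hr'
    have hrt := h.tT hr ht
    have hk1 := hk.2 t (mem_sup_left ht)
    have hk2 := (inv_mem hk : k⁻¹ ∈ K).2 t (mem_sup_left ht)
    have hrL : r ∈ cr.L := h.TL hr
    have m1 : k⁻¹ ∈ tr1 cr.L t cr.V cr.loc.Vn := ⟨inv_mem hkL, hk2⟩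
    have m2 : r ∈ tr1 cr.L t cr.V cr.loc.Vn := ⟨hrL, cr.loc.CV hrt⟩
    have m3 : k ∈ tr1 cr.L t cr.V cr.loc.Vn := ⟨hkL, hk1⟩
    have m4 := mul_mem (mul_mem m1 m2) m3
    have e : k⁻¹ * r * k = s := by rw [hr']; group
    rw [e] at m4
    exact m4.2
  apply h.h2.symm.noc h.hg h.hgM h.hT h.adj
  intro t ht y hy
  rw [commutatorElement_def]
  exact hfin t (h.h2.VdS ht) y hy

theorem V0b1 : cr.V ⊓ b₁.V = cen S := by
  apply le_antisymm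
  · rintro x ⟨hx, hx1⟩
    exact cr.loc.crit_mem b₂.loc (h.h2.VbQc.trans h.h2.QcSd) h.h2.VdS h.h2.nbd hx
      fun y hy => (h.h2.ccd x hx1 y hy).symm
  · exact le_inf cr.loc.ZV b₁.loc.ZV

theorem card_Y : cr.V.relIndex (cr.V ⊔ b₁.V) = b₁.q := by
  haveI := cr.loc.finS
  haveI := cr.loc.finV
  haveI := cr.loc.finZ
  have h1 := h.h2.cbc.card_mul
  rw [h.V0b1, b₁.loc.cardV] at h1
  have h2 : Nat.card cr.V * cr.V.relIndex (cr.V ⊔ b₁.V) = Nat.card (cr.V ⊔ b₁.V : Subgroup G) :=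
    card_mul_relIndex le_sup_left
  have hZ : 0 < Nat.card (cen S) := Nat.card_pos
  have hV : 0 < Nat.card cr.V := Nat.card_pos
  apply Nat.eq_of_mul_eq_mul_left (Nat.mul_pos hV hZ)
  calc Nat.card cr.V * Nat.card (cen S) * cr.V.relIndex (cr.V ⊔ b₁.V) =
      Nat.card cr.V * cr.V.relIndex (cr.V ⊔ b₁.V) * Nat.card (cen S) := by ring
    _ = Nat.card (cr.V ⊔ b₁.V : Subgroup G) * Nat.card (cen S) := by rw [h2]
    _ = _ := by rw [h1]; ring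

theorem card_SQ : cr.Q.relIndex S = cr.q := by
  have h2 := card_mul_relIndex cr.loc.QS
  rw [cr.loc.cardS, mul_comm cr.q] at h2
  haveI := cr.loc.finQ
  exact Nat.eq_of_mul_eq_mul_left Nat.card_pos h2

/-- the injection `S/Q → V V_{b₁} / V`. -/
theorem inj {t : G} (ht : t ∈ a₁.V) (htT : t ∉ cen T) :
    cr.q ≤ b₁.q ∧ (b₁.q ≤ cr.q → ∀ w ∈ b₁.V, ∃ s ∈ S, (s * t * s⁻¹ * t⁻¹)⁻¹ * w ∈ cr.V) := by
  haveI := cr.loc.finS
  haveI := b₁.loc.finV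
  haveI := cr.loc.finV
  have hYS : cr.V ⊔ b₁.V ≤ S := sup_le cr.loc.VS b₁.loc.VS
  haveI : Finite (cr.V ⊔ b₁.V : Subgroup G) := fin_le hYS
  let f : S → (cr.V ⊔ b₁.V : Subgroup G) := fun s => ⟨s * t * (s : G)⁻¹ * t⁻¹, h.SV s.2 ht⟩
  let φ : (S ⧸ cr.Q.subgroupOf S) → ((cr.V ⊔ b₁.V : Subgroup G) ⧸ cr.V.subgroupOf (cr.V ⊔ b₁.V)) :=
    fun x => QuotientGroup.mk (f x.out)
  have hφ : Function.Injective φ := by
    intro x x' hxx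
    have h4 : (f x.out)⁻¹ * f x'.out ∈ cr.V.subgroupOf (cr.V ⊔ b₁.V) := QuotientGroup.eq.mp hxx
    rw [mem_subgroupOf] at h4
    set s : S := x.out with hs
    set s' : S := x'.out with hs'
    have h5 : (s * t * (s : G)⁻¹ * t⁻¹)⁻¹ * (s' * t * (s' : G)⁻¹ * t⁻¹) ∈ cr.V := h4
    have h6 : (s : G)⁻¹ * s' ∈ cr.Q := by
      by_contra hsQ
      apply htT
      apply h.N1 (mul_mem (inv_mem s.2) s'.2) hsQ ht
      -- e_{s'} = s e_r s⁻¹ e_s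
      set r := (s : G)⁻¹ * s' with hr
      set es := s * t * (s : G)⁻¹ * t⁻¹ with hes
      have hesL : es ∈ cr.L := cr.loc.SL (hYS (h.SV s.2 ht))
      have hsL := cr.loc.SL s.2
      have e1 : s' * t * (s' : G)⁻¹ * t⁻¹ = (s * (r * t * r⁻¹ * t⁻¹) * (s : G)⁻¹) * es := by
        rw [hr, hes]; group
      rw [e1] at h5
      have h7 := cr.loc.cjV_mem hesL h5
      have e2 : es * (es⁻¹ * (s * (r * t * r⁻¹ * t⁻¹) * (s : G)⁻¹ * es)) * es⁻¹ =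
          s * (r * t * r⁻¹ * t⁻¹) * (s : G)⁻¹ := by group
      rw [e2] at h7
      have h8 := cr.loc.cjV_mem (inv_mem hsL) h7
      have e3 : (s : G)⁻¹ * (s * (r * t * r⁻¹ * t⁻¹) * (s : G)⁻¹) * (s : G)⁻¹⁻¹ = r * t * r⁻¹ * t⁻¹ := by
        group
      rwa [e3] at h8
    have h7 : (QuotientGroup.mk s : S ⧸ cr.Q.subgroupOf S) = QuotientGroup.mk s' := by
      rw [QuotientGroup.eq, mem_subgroupOf]
      exact h6
    have e1 : (QuotientGroup.mk s : S ⧸ cr.Q.subgroupOf S) = x := Quotient.out_eq x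
    have e2 : (QuotientGroup.mk s' : S ⧸ cr.Q.subgroupOf S) = x' := Quotient.out_eq x'
    rw [← e1, ← e2, h7]
  have c1 : Nat.card (S ⧸ cr.Q.subgroupOf S) = cr.q := h.card_SQ
  have c2 : Nat.card ((cr.V ⊔ b₁.V : Subgroup G) ⧸ cr.V.subgroupOf (cr.V ⊔ b₁.V)) = b₁.q := h.card_Y
  constructor
  · rw [← c1, ← c2]
    exact Nat.card_le_card_of_injective φ hφ
  · intro hle w hw
    have hb : Function.Bijective φ := hφ.bijective_of_nat_card_le (by rw [c1, c2]; exact hle)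
    obtain ⟨x, hx⟩ := hb.2 (QuotientGroup.mk ⟨w, mem_sup_right hw⟩)
    have h4 : (f x.out)⁻¹ * ⟨w, mem_sup_right hw⟩ ∈ cr.V.subgroupOf (cr.V ⊔ b₁.V) := QuotientGroup.eq.mp hx
    rw [mem_subgroupOf] at h4
    exact ⟨x.out, (x.out).2, h4⟩

theorem q_le : cr.q ≤ b₁.q := by
  obtain ⟨t, ht, htT⟩ := a₁.loc.ZneV
  exact (h.inj ht htT).1

theorem b1_norm : ∀ k ∈ a₁.V, cj k b₁.V = b₁.V :=
  fun k hk => b₁.loc.Vn k (b₁.loc.SL (h.h2.VaS hk))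

/-- **N2**. -/
theorem N2 {x : G} (hx : x ∈ a₁.V ⊔ b₁.V) (hx' : ∀ s ∈ S, s * x * s⁻¹ * x⁻¹ ∈ cr.C) : x ∈ b₁.V := by
  obtain ⟨t, ht, w, hw, rfl⟩ := mem_sup_of_norm h.b1_norm hx
  obtain ⟨b, hb, hbQ⟩ := cr.loc.SneQ
  have h1 := hx' b hb
  have h2 := h.tS hb hw
  have htL : t ∈ cr.L := h.XL (mem_sup_left ht)
  have e : b * (t * w) * b⁻¹ * (t * w)⁻¹ = (b * t * b⁻¹ * t⁻¹) * (t * (b * w * b⁻¹ * w⁻¹) * t⁻¹) := by group
  rw [e, h.cC h2 htL] at h1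
  have h3 : b * t * b⁻¹ * t⁻¹ ∈ cr.C := by
    have := mul_mem h1 (inv_mem h2)
    rwa [mul_inv_cancel_right] at this
  have h4 := h.N1 hb hbQ ht (cr.loc.CV h3)
  have h5 : t ∈ cr.V := by
    rw [h.V0]
    exact mem_sup_right h4
  exact mul_mem (b₁.loc.ZV (cr.loc.cmc b hb hbQ t h5 h3)) hw

/-- **N3**. -/
theorem N3_le : a₁.V ≤ cj g b₁.V := by
  intro x hx
  rw [mem_cj]
  apply h.N2
  · rw [← mem_cj, h.X_inv g h.hg]
    exact mem_sup_left hx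
  · intro s hs
    have h1 : g * s * g⁻¹ ∈ T := by
      rw [h.hT]
      exact conj_mem_cj hs
    have h2 := h.tT h1 hx
    have h3 := cr.loc.cj_mem (inv_mem h.hg) cr.loc.Cn h2
    have e : g⁻¹ * (g * s * g⁻¹ * x * (g * s * g⁻¹)⁻¹ * x⁻¹) * g⁻¹⁻¹ =
        s * (g⁻¹ * x * g) * s⁻¹ * (g⁻¹ * x * g)⁻¹ := by group
    rwa [e] at h3

theorem N3 : cj g b₁.V = a₁.V := by
  apply le_antisymm _ h.N3_le
  rw [cj_le_iff]
  exact h.symm.N3_le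

/-- elements of `X` centralised by `L` modulo `V`. -/
theorem fixX {x : G} (hx : x ∈ a₁.V ⊔ b₁.V) (hx' : ∀ k ∈ cr.L, k * x * k⁻¹ * x⁻¹ ∈ cr.V) :
    x ∈ cr.V := by
  obtain ⟨t, ht, w, hw, rfl⟩ := mem_sup_of_norm h.b1_norm hx
  have htL : t ∈ cr.L := h.XL (mem_sup_left ht)
  have e : ∀ b, b * (t * w) * b⁻¹ * (t * w)⁻¹ = (b * t * b⁻¹ * t⁻¹) * (t * (b * w * b⁻¹ * w⁻¹) * t⁻¹) := by
    intro b; group
  have ht2 : t ∈ cen T := by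
    obtain ⟨b, hb, hbQ⟩ := cr.loc.SneQ
    apply h.N1 hb hbQ ht
    have h1 := hx' b (cr.loc.SL hb)
    rw [e b] at h1
    have h2 := cr.loc.cjV_mem htL (cr.loc.CV (h.tS hb hw))
    have := mul_mem h1 (inv_mem h2)
    rwa [mul_inv_cancel_right] at this
  have hw2 : w ∈ cen S := by
    obtain ⟨b, hb, hbQ⟩ := cl.loc.SneQ
    apply h.symm.N1 hb hbQ hw
    rw [h.hV]
    have h1 := hx' b (h.TL hb)
    rw [e b] at h1
    have h2 := cr.loc.CV (h.tT hb ht)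
    have h3 := mul_mem (inv_mem h2) h1
    rw [inv_mul_cancel_left] at h3
    have h4 := cr.loc.cjV_mem (inv_mem htL) h3
    have e2 : t⁻¹ * (t * (b * w * b⁻¹ * w⁻¹) * t⁻¹) * t⁻¹⁻¹ = b * w * b⁻¹ * w⁻¹ := by group
    rwa [e2] at h4
  rw [h.V0]
  exact mul_mem (mem_sup_right ht2) (mem_sup_left hw2)

/-- elements of `Y^a ∩ Y^b`, `Y = V V_{b₁}`. -/
theorem twoY {a b x : G} (ha : a ∈ cr.L) (hb : b ∈ cr.L) (hab : a⁻¹ * b ∉ cr.M)
    (h1 : x ∈ cj a (cr.V ⊔ b₁.V)) (h2 : x ∈ cj b (cr.V ⊔ b₁.V)) : x ∈ cr.V := by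
  have hYX : cr.V ⊔ b₁.V ≤ a₁.V ⊔ b₁.V := sup_le h.V0X le_sup_right
  have hxX : x ∈ a₁.V ⊔ b₁.V := by
    have := cj_mono (g := a) hYX h1
    rwa [h.X_inv a ha] at this
  apply h.fixX hxX
  have hSY : ∀ s ∈ S, ∀ y ∈ cr.V ⊔ b₁.V, s * y * s⁻¹ * y⁻¹ ∈ cr.V := by
    intro s hs
    apply cs_sup (N := a₁.V ⊔ b₁.V) (fun z hz => cr.loc.Vn z (h.XL hz)) h.V0X le_sup_right
    · exact fun v hv => cr.loc.cm_mem_V (cr.loc.SL hs) hv
    · exact fun w hw => cr.loc.CV (h.tS hs hw)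
  have key : ∀ a ∈ cr.L, x ∈ cj a (cr.V ⊔ b₁.V) → cj a S ≤ tr1 cr.L x cr.V cr.loc.Vn := by
    intro a ha hxa s hs
    rw [mem_cj] at hs hxa
    have haS : s ∈ cr.L := by
      have := mul_mem (mul_mem ha (cr.loc.SL hs)) (inv_mem ha)
      have e : a * (a⁻¹ * s * a) * a⁻¹ = s := by group
      rwa [e] at this
    refine ⟨haS, ?_⟩
    have h3 := cr.loc.cjV_mem ha (hSY _ hs _ hxa)
    have e : a * (a⁻¹ * s * a * (a⁻¹ * x * a) * (a⁻¹ * s * a)⁻¹ * (a⁻¹ * x * a)⁻¹) * a⁻¹ =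
        s * x * s⁻¹ * x⁻¹ := by group
    rwa [e] at h3
  have h3 : cj a S ⊔ cj b S = cr.L := by
    have h4 := cr.loc.gen _ (mul_mem (inv_mem ha) hb) hab
    have h5 : cj a (S ⊔ cj (a⁻¹ * b) S) = cj a cr.L := by rw [h4]
    rw [cj_sup, cj_mul, mul_inv_cancel_left, cj_of_mem ha] at h5
    exact h5
  have h4 : cj a S ⊔ cj b S ≤ tr1 cr.L x cr.V cr.loc.Vn := sup_le (key a ha h1) (key b hb h2)
  exact fun k hk => (h4 (h3.ge hk)).2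

/-- **N4a**: `M` normalises `V V_{b₁}`. -/
theorem N4a (hq : b₁.q ≤ cr.q) : ∀ m ∈ cr.M, cj m (cr.V ⊔ b₁.V) = cr.V ⊔ b₁.V := by
  intro m hm
  haveI := cr.loc.finS
  haveI : Finite (cr.V ⊔ b₁.V : Subgroup G) := fin_le (sup_le cr.loc.VS b₁.loc.VS)
  have hmL := cr.loc.ML hm
  have hYX : cr.V ⊔ b₁.V ≤ a₁.V ⊔ b₁.V := sup_le h.V0X le_sup_right
  apply cj_eq_of_le
  intro x hx
  by_contra hxY
  have hxX : x ∈ a₁.V ⊔ b₁.V := by
    have := cj_mono (g := m) hYX hx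
    rwa [h.X_inv m hmL] at this
  obtain ⟨t, ht, w, hw, rfl⟩ := mem_sup_of_norm h.b1_norm hxX
  have htT : t ∉ cen T := by
    intro h1
    apply hxY
    refine mul_mem (mem_sup_left ?_) (mem_sup_right hw)
    rw [h.V0]
    exact mem_sup_right h1
  obtain ⟨s, hs, hsw⟩ := (h.inj ht htT).2 hq w hw
  have hsL := cr.loc.SL hs
  set e := s * t * s⁻¹ * t⁻¹ with he
  have heY : e ∈ cr.V ⊔ b₁.V := h.SV hs ht
  -- [t, e] ∈ C
  have h1 := h.QX (h.XQ (mem_sup_left ht)) (hYX heY)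
  have hYY : cj g (cr.V ⊔ b₁.V) = cr.V ⊔ a₁.V := by rw [cj_sup, cr.loc.Vn g h.hg, h.N3]
  have hx2 : t * w ∈ cj (s * g) (cr.V ⊔ b₁.V) := by
    rw [← cj_mul, hYY, cj_sup, cr.loc.Vn s hsL]
    have e1 : t * w = (t * e * t⁻¹ * e⁻¹) * (s * t * s⁻¹) * (e⁻¹ * w) := by
      rw [he]; group
    rw [e1]
    exact mul_mem (mul_mem (mem_sup_left (cr.loc.CV h1)) (mem_sup_right (conj_mem_cj ht)))
      (mem_sup_left hsw)
  have h2 := h.twoY hmL (mul_mem hsL h.hg) (by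
    intro h3
    apply h.hgM
    have := mul_mem (mul_mem (inv_mem (cr.loc.SM hs)) hm) h3
    have e : s⁻¹ * m * (m⁻¹ * (s * g)) = g := by group
    rwa [e] at this) hx hx2
  exact hxY (mem_sup_left h2)

/-- **N4**: `M` normalises `V_{b₁}`. -/
theorem N4 (hq : b₁.q ≤ cr.q) : ∀ m ∈ cr.M, cj m b₁.V = b₁.V := by
  have hML := cr.loc.ML
  haveI := cr.loc.finS
  haveI := cr.loc.finZ
  haveI := cr.loc.finV
  haveI := b₁.loc.finV
  haveI : Finite cr.C := fin_le cr.loc.CZ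
  have hYX : cr.V ⊔ b₁.V ≤ a₁.V ⊔ b₁.V := sup_le h.V0X le_sup_right
  have hMV : ∀ m ∈ cr.M, cj m cr.V = cr.V := fun m hm => cr.loc.Vn m (hML hm)
  have hMY := h.N4a hq
  have hMb : ∀ m ∈ cr.M, cj m (⊥ : Subgroup G) = ⊥ := fun m hm => Subgroup.map_bot _
  set U := (tr cr.M (cr.V ⊔ b₁.V) cr.V hMV ⊓ tr cr.M cr.V (cen S) cr.loc.MZ) ⊓
    tr cr.M (cen S) cr.C cr.loc.MC with hU
  set K := tr cr.M (cr.V ⊔ b₁.V) ⊥ hMb with hK
  have hKV : ∀ k ∈ K, ∀ v ∈ cr.V ⊔ b₁.V, k * v = v * k := by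
    intro k hk v hv
    have := hk.2 v hv
    rw [mem_bot] at this
    have h2 := mul_inv_eq_one.mp this
    calc k * v = (k * v * k⁻¹) * k := by group
      _ = v * k := by rw [h2]
  have hn : ∀ m ∈ cr.M, cj m U = U := fun m hm =>
    cj_inf_eq (cj_inf_eq (tr_n hMY m hm) (tr_n hMV m hm)) (tr_n cr.loc.MZ m hm)
  have hSU : S ≤ U := by
    intro s hs
    refine ⟨⟨⟨cr.loc.SM hs, ?_⟩, ⟨cr.loc.SM hs, fun v hv => cr.loc.quad v hv s hs⟩⟩,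
      ⟨cr.loc.SM hs, fun z hz => ?_⟩⟩
    · apply cs_sup (N := a₁.V ⊔ b₁.V) (fun z hz => cr.loc.Vn z (h.XL hz)) h.V0X le_sup_right
      · exact fun v hv => cr.loc.cm_mem_V (cr.loc.SL hs) hv
      · exact fun w hw => cr.loc.CV (h.tS hs hw)
    · have h1 : s * z = z * s := cen_comm hz hs
      rw [h1]
      have : z * s * s⁻¹ * z⁻¹ = 1 := by group
      rw [this]
      exact one_mem _
  have hKU : K ≤ U := by
    intro k hk
    have h1 : ∀ v ∈ cr.V ⊔ b₁.V, k * v * k⁻¹ * v⁻¹ = 1 := fun v hv => by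
      rw [hKV k hk v hv]; group
    refine ⟨⟨⟨hk.1, fun v hv => by rw [h1 v hv]; exact one_mem _⟩,
      ⟨hk.1, fun v hv => by rw [h1 v (mem_sup_left hv)]; exact one_mem _⟩⟩,
      ⟨hk.1, fun z hz => by rw [h1 z (mem_sup_left (cr.loc.ZV hz))]; exact one_mem _⟩⟩
  have hUM : U ≤ cr.M := fun x hx => hx.2.1
  have hsyl : U ≤ S ⊔ K := by
    apply sylAct cr.loc.fin cr.loc.idx hSU (hUM.trans hML) hKU
    · exact fun m hm => tr_n hMY m (hUM hm)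
    · intro g hg
      have h1 : ∃ m, ∀ k ∈ cr.C, g ^ (p ^ m) * k = k * g ^ (p ^ m) :=
        ⟨0, fun k hk => (cr.loc.CL k hk _ (pow_mem (hML (hUM hg)) _)).symm⟩
      have h2 := unip_step cr.loc.CZ cr.loc.pgC hg.2.2 h1
      have h3 := unip_step cr.loc.ZV cr.loc.pgZ hg.1.2.2 h2
      obtain ⟨m, hm⟩ := unip_step (le_sup_left : cr.V ≤ cr.V ⊔ b₁.V) cr.loc.pgV hg.1.1.2 h3
      refine ⟨m, pow_mem (hUM hg) _, fun v hv => ?_⟩
      rw [hm v hv, mem_bot]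
      group
  have hKn : ∀ s ∈ S, cj s K = K := fun s hs => tr_n hMY s (cr.loc.SM hs)
  intro m hm
  apply cj_eq_of_forall
  intro w hw
  have hmL := hML hm
  have hmw : m * w * m⁻¹ ∈ cr.V ⊔ b₁.V := by
    have := conj_mem_cj (g := m) (mem_sup_right hw : w ∈ cr.V ⊔ b₁.V)
    rwa [hMY m hm] at this
  apply h.N2 (hYX hmw)
  intro s hs
  have h1 : m⁻¹ * s * m ∈ S ⊔ K := by
    apply hsyl
    have h2 := cj_mono (g := m⁻¹) hSU
    rw [hn _ (inv_mem hm)] at h2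
    apply h2
    rw [mem_cj]
    have e : m⁻¹⁻¹ * (m⁻¹ * s * m) * m⁻¹ = s := by group
    rwa [e]
  obtain ⟨s', hs', k, hk, hsk⟩ := mem_sup_of_norm hKn h1
  have h2 := h.tS hs' hw
  have h3 := cr.loc.cj_mem hmL cr.loc.Cn h2
  have hkw : k * w = w * k := hKV k hk w (mem_sup_right hw)
  have e : s * (m * w * m⁻¹) * s⁻¹ * (m * w * m⁻¹)⁻¹ = m * (s' * w * s'⁻¹ * w⁻¹) * m⁻¹ := by
    have e1 : s = m * (s' * k) * m⁻¹ := by rw [hsk]; group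
    rw [e1]
    calc m * (s' * k) * m⁻¹ * (m * w * m⁻¹) * (m * (s' * k) * m⁻¹)⁻¹ * (m * w * m⁻¹)⁻¹ =
        m * s' * (k * w) * k⁻¹ * s'⁻¹ * w⁻¹ * m⁻¹ := by group
      _ = _ := by rw [hkw]; group
  rw [e]
  exact h3

/-- the key computation: for `p ≥ 5`, `[V_{a₁}, x] ≤ V_{b₁}` for `x ∈ S - Q`. -/
theorem key (hq : b₁.q ≤ cr.q) (h5 : 5 ≤ p) {x t : G} (hx : x ∈ S) (hxQ : x ∉ cr.Q) (ht : t ∈ a₁.V) :
    x * t * x⁻¹ * t⁻¹ ∈ b₁.V := by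
  obtain ⟨y, hy, k1, k2, k3⟩ := cr.loc.swap (V' := b₂.V) h.h2.critbd.2.1 h.hg h.hgM hx hxQ
  set n := x * y * x with hn
  have hV'S := h.h2.VdS
  have hyT : y ∈ T := by
    rw [h.hT]
    exact cj_mono hV'S hy
  have hxL := cr.loc.SL hx
  have hyL := h.TL hyT
  have hnL : n ∈ cr.L := mul_mem (mul_mem hxL hyL) hxL
  have hgn : g⁻¹ * n ∈ cr.M := by
    apply cr.loc.mem_M_of (mul_mem (inv_mem h.hg) hnL)
    rw [← cj_mul, k1, cj_inv_cj]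
  have hng : n * g ∈ cr.M := by
    apply cr.loc.mem_M_of (mul_mem hnL h.hg)
    rw [← cj_mul, k2]
  have n1 : cj n b₁.V = a₁.V := by
    have := h.N4 hq _ hgn
    rw [← cj_mul, cj_eq_iff, inv_inv, h.N3] at this
    exact this
  have n2 : cj n a₁.V = b₁.V := by
    rw [← h.N3, cj_mul]
    exact h.N4 hq _ hng
  have hCT : cr.C ≤ cen T := by
    rw [← h.cenT]
    exact cr.loc.C_cj h.hg
  have hCS := cr.loc.CZ
  have hXX : ∀ a ∈ a₁.V ⊔ b₁.V, ∀ b ∈ a₁.V ⊔ b₁.V, a * b * a⁻¹ * b⁻¹ ∈ cr.C :=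
    fun a ha b hb => h.QX (h.XQ ha) hb
  have hdis : a₁.V ⊓ b₁.V ≤ cr.C := by
    rintro z ⟨hz1, hz2⟩
    have h6 : z ∈ cen S := by
      rw [← h.h2.critac.2.2.2.1]
      exact ⟨hz2, a₁.loc.VQ hz1⟩
    have h7 : z ∈ cen T := by
      rw [← h.h2.critac.2.2.2.2.1]
      exact ⟨hz1, b₁.loc.VQ hz2⟩
    rw [← h.cenT] at h7
    exact cr.loc.two' h.hg h.hgM h6 h7
  -- decomposition of `[x,t]`
  have hdec : ∀ x ∈ S, ∀ t ∈ a₁.V, ∃ c ∈ cen T, ∃ e ∈ b₁.V, x * t * x⁻¹ * (t * c * e)⁻¹ ∈ cr.C := by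
    intro x hx t ht
    have h6 := h.SV hx ht
    have h7 : cr.V ⊔ b₁.V ≤ cen T ⊔ b₁.V := by
      rw [h.V0]
      exact sup_le (sup_le (b₁.loc.ZV.trans le_sup_right) le_sup_left) le_sup_right
    have hcm : Cm (cen T) b₁.V := h.VX.mono (by rw [h.V0]; exact le_sup_right) le_sup_right
    obtain ⟨c, hc, e, he, hce⟩ := hcm.mem_sup (h7 h6)
    refine ⟨c, hc, e, he, ?_⟩
    have e1 : x * t * x⁻¹ * (t * c * e)⁻¹ = (c * e) * t * (c * e)⁻¹ * t⁻¹ := by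
      rw [hce]
      have e2 : x * t * x⁻¹ * (t * c * e)⁻¹ = (x * t * x⁻¹ * t⁻¹) * t * (c * e)⁻¹ * t⁻¹ := by group
      rw [e2, hce]
    rw [e1]
    apply hXX
    · exact mul_mem (mem_sup_left (a₁.loc.ZV hc)) (mem_sup_right he)
    · exact mem_sup_left ht
  have hdec' : ∀ y ∈ T, ∀ w ∈ b₁.V, ∃ f ∈ a₁.V, ∃ d ∈ cen S, y * w * y⁻¹ * (w * f * d)⁻¹ ∈ cr.C := by
    intro y hy w hw
    have h6 := h.symm.SV hy hw
    rw [h.hV] at h6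
    have h7 : cr.V ⊔ a₁.V ≤ cen S ⊔ a₁.V := by
      rw [h.V0]
      exact sup_le (sup_le le_sup_left (a₁.loc.ZV.trans le_sup_right)) le_sup_right
    have hcm : Cm (cen S) a₁.V := h.VX.mono (by rw [h.V0]; exact le_sup_left) le_sup_left
    obtain ⟨d, hd, f, hf, hdf⟩ := hcm.mem_sup (h7 h6)
    refine ⟨f, hf, d, hd, ?_⟩
    have hdf' : d * f = f * d := hcm d hd f hf
    have e1 : y * w * y⁻¹ * (w * f * d)⁻¹ = (f * d) * w * (f * d)⁻¹ * w⁻¹ := by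
      have e2 : y * w * y⁻¹ * (w * f * d)⁻¹ = (y * w * y⁻¹ * w⁻¹) * w * (f * d)⁻¹ * w⁻¹ := by group
      rw [e2, ← hdf, hdf']
    rw [e1]
    apply hXX
    · exact mul_mem (mem_sup_left hf) (mem_sup_right (b₁.loc.ZV hd))
    · exact mem_sup_right hw
  have hV0T : cen T ≤ cr.V := by rw [h.V0]; exact le_sup_right
  obtain ⟨c, hc, e, he, hce⟩ := hdec x hx t ht
  have hmain := live_calc (L := cr.L) (X := a₁.V ⊔ b₁.V) (Cz := cr.C) h.X_inv (cr.loc.CV.trans h.V0X)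
    cr.loc.CL h.XL hXX hxL hyL (Am := a₁.V) (Ap := b₁.V) (Zm := cen T) (Zp := cen S) le_sup_left
    le_sup_right hCT hCS hdis a₁.loc.ZV b₁.loc.ZV (fun w hw => h.tS hx hw) (fun t ht => h.tT hyT ht)
    (hdec x hx)
    (by
      intro z hz
      refine ⟨cm z x, b₁.loc.ZV (cr.loc.quad z (hV0T hz) x hx), ?_⟩
      have hzc : cm z x * z = z * cm z x :=
        cr.loc.Vab _ (cr.loc.ZV (cr.loc.quad z (hV0T hz) x hx)) _ (hV0T hz)
      have : x * z * x⁻¹ * (z * cm z x)⁻¹ = 1 := by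
        rw [← hzc]; unfold cm; group
      rw [this]
      exact one_mem _)
    (hdec' y hyT)
    (by
      intro z hz
      have hzV := cl.loc.ZV
      have h6 : cm z y ∈ cen T := cl.loc.quad z (by rw [h.hV]; exact cr.loc.ZV hz) y hyT
      refine ⟨cm z y, h6, ?_⟩
      have hzc : cm z y * z = z * cm z y := cr.loc.Vab _ (hV0T h6) _ (cr.loc.ZV hz)
      have : y * z * y⁻¹ * (z * cm z y)⁻¹ = 1 := by
        rw [← hzc]; unfold cm; group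
      rw [this]
      exact one_mem _)
    (by
      intro z hz hxz
      have h6 := cr.loc.cmc x hx hxQ z (hV0T hz) hxz
      apply cr.loc.two' h.hg h.hgM h6
      rw [h.cenT]
      exact hz)
    (by
      intro t ht
      rw [← n2]
      exact conj_mem_cj ht)
    (by
      intro w hw
      rw [← n1]
      exact conj_mem_cj hw)
    (fun z hz => k3 z (hV0T hz)) ht hc he hce
  rw [← hn] at hmain
  -- n⁴ is trivial on V / C
  have hn4L : n ^ 4 ∈ cr.L := pow_mem hnL 4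
  have hn4V : ∀ v ∈ cr.V, n ^ 4 * v * (n ^ 4)⁻¹ * v⁻¹ ∈ cr.C := by
    intro v hv
    have h6 := k3 v hv
    have hu : n ^ 2 * v * (n ^ 2)⁻¹ ∈ cr.V := cr.loc.cjV_mem (pow_mem hnL 2) hv
    have h7 := k3 _ hu
    set u := n ^ 2 * v * (n ^ 2)⁻¹ with hu'
    have e1 : n ^ 4 * v * (n ^ 4)⁻¹ = n ^ 2 * u * (n ^ 2)⁻¹ := by
      have : n ^ 4 = n ^ 2 * n ^ 2 := by rw [← pow_add]
      rw [this, hu']; group
    rw [e1]
    have e2 : n ^ 2 * u * (n ^ 2)⁻¹ * v⁻¹ = (n ^ 2 * u * (n ^ 2)⁻¹ * u) * (u⁻¹ * v⁻¹) := by group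
    rw [e2]
    apply mul_mem h7
    have e3 : u⁻¹ * v⁻¹ = (u * v)⁻¹ := by
      have : u * v = v * u := cr.loc.Vab u hu v hv
      rw [this]; group
    rw [e3]
    exact inv_mem h6
  have hc6 : c ^ 6 ∈ cen T := pow_mem hc 6
  have htc : t * c ^ 6 = c ^ 6 * t := (h.VX _ (hV0T hc6) t (mem_sup_left ht)).symm
  have hn4t : n ^ 4 * t * (n ^ 4)⁻¹ * t⁻¹ ∈ cr.V := by
    have e1 : n ^ 4 * t * (n ^ 4)⁻¹ * t⁻¹ = (n ^ 4 * t * (n ^ 4)⁻¹ * (t * c ^ 6)⁻¹) * c ^ 6 := by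
      rw [htc]; group
    rw [e1]
    exact mul_mem (cr.loc.CV hmain) (hV0T hc6)
  have h6 : n ^ 4 * t * (n ^ 4)⁻¹ * t⁻¹ ∈ cr.C := by
    apply cr.loc.triv hn4L hn4V hn4t
    intro s hs _
    exact h.QX hs (mem_sup_left ht)
  have h7 : c ^ 6 ∈ cr.C := by
    have e1 : c ^ 6 = (n ^ 4 * t * (n ^ 4)⁻¹ * (t * c ^ 6)⁻¹)⁻¹ * (n ^ 4 * t * (n ^ 4)⁻¹ * t⁻¹) := by
      rw [htc]; group
    rw [e1]
    exact mul_mem (inv_mem hmain) h6
  have h8 : c ∈ cr.C := by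
    apply mem_of_pow (p := p) (e := 1) _ _ h7
    · have h9 : ¬ p ∣ 6 := by
        intro hdvd
        have h10 : p ≤ 6 := Nat.le_of_dvd (by norm_num) hdvd
        have h11 : p = 5 ∨ p = 6 := by omega
        rcases h11 with rfl | rfl
        · omega
        · exact absurd hp.out (by norm_num)
      exact ((Nat.Prime.coprime_iff_not_dvd hp.out).mpr h9).symm
    · rw [pow_one]
      exact cl.loc.el c hc
  have hcZ : c ∈ b₁.V := b₁.loc.ZV (cr.loc.CZ h8)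
  have htc' : t * c = c * t := (h.VX _ (hV0T hc) t (mem_sup_left ht)).symm
  have e1 : x * t * x⁻¹ * t⁻¹ = (x * t * x⁻¹ * (t * c * e)⁻¹) * c * (t * e * t⁻¹) := by
    rw [htc']; group
  rw [e1]
  refine mul_mem (mul_mem (b₁.loc.ZV (cr.loc.CZ hce)) hcZ) ?_
  exact b₁.loc.cjV_mem (b₁.loc.SL (h.h2.VaS ht)) he

/-- **`p ≥ 5`**: contradiction. -/
theorem false_five (hq : b₁.q ≤ cr.q) (h5 : 5 ≤ p) {g' : G} (hg' : g' ∈ b₁.L) (hg'M : g' ∉ b₁.M)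
    (hS' : S' = cj g' S) (hcm : Cm cr.V (cj g'⁻¹ b₂.V)) : False := by
  apply h.h2.noc hg' hg'M hS' hcm
  intro t ht y hy
  have e : ⁅t, y⁆ = (y * t * y⁻¹ * t⁻¹)⁻¹ := by rw [commutatorElement_def]; group
  by_cases hyQ : y ∈ cr.Q
  · have h3 : y ∈ cen S' := by
      rw [← h.h2.critbd.2.2.2.1]
      exact ⟨hy, hyQ⟩
    have h4 := h.h2.cenSd hg' hS' h3
    rw [commutatorElement_def]
    exact mul_mem (b₁.loc.cjV_mem (b₁.loc.SL (h.h2.VaS ht)) h4) (inv_mem h4)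
  · rw [e]
    exact inv_mem (h.key hq h5 (h.h2.VdS hy) hyQ ht)

end P5

end Cfsg.Agent.H260.GN
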