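import Cfsg.Agent.H260.Push

/-!
# Rank one pushing up: the structure theorem

`X = Z(O_p(G))`, `Z(S)` not normal and a large abelian subgroup of `S` outside `O_p(G)`:
`|X/Z(S)| = q = |Z(S)/Z(G)|`, `[X,S] ≤ Z(S)`, `C_X(s) = Z(S)` for `s ∈ S - O_p(G)`, `X/Z(G)` irreducible.
-/

set_option autoImplicit false
set_option linter.unusedSectionVars false
set_option linter.unusedVariables false

namespace Cfsg.Agent.H260.Push

open Subgroup

variable {G : Type*} [Group G]

/-- The centre of `H`, inside the ambient group. -/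
def cen (H : Subgroup G) : Subgroup G := H ⊓ centralizer (H : Set G)

theorem cen_le (H : Subgroup G) : cen H ≤ H := inf_le_left

theorem cen_comm {H : Subgroup G} {x y : G} (hx : x ∈ cen H) (hy : y ∈ H) : y * x = x * y :=
  mem_centralizer_iff.mp hx.2 y hy

theorem cj_cen (g : G) (H : Subgroup G) : cj g (cen H) = cen (cj g H) := by
  unfold cen
  rw [cj_inf, cj_centralizer]

theorem cen_normal {H : Subgroup G} [hH : H.Normal] : (cen H).Normal := by
  apply normal_of_cj
  intro g
  rw [cj_cen, cj_normal]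

/-- `A` is a largest abelian subgroup of `S`. -/
structure LargeAb (S A : Subgroup G) : Prop where
  le : A ≤ S
  comm : ∀ x ∈ A, ∀ y ∈ A, x * y = y * x
  max : ∀ B : Subgroup G, B ≤ S → (∀ x ∈ B, ∀ y ∈ B, x * y = y * x) → Nat.card B ≤ Nat.card A

theorem comm_sup {A B : Subgroup G} (hA : ∀ x ∈ A, ∀ y ∈ A, x * y = y * x)
    (hB : ∀ x ∈ B, ∀ y ∈ B, x * y = y * x) (hAB : ∀ x ∈ A, ∀ y ∈ B, x * y = y * x) :
    ∀ x ∈ A ⊔ B, ∀ y ∈ A ⊔ B, x * y = y * x := by
  have h1 : A ⊔ B ≤ centralizer (A : Set G) := by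
    apply sup_le
    · intro x hx
      rw [mem_centralizer_iff]
      exact fun y hy => hA y hy x hx
    · intro x hx
      rw [mem_centralizer_iff]
      exact fun y hy => hAB y hy x hx
  have h2 : A ⊔ B ≤ centralizer (B : Set G) := by
    apply sup_le
    · intro x hx
      rw [mem_centralizer_iff]
      exact fun y hy => (hAB x hx y hy).symm
    · intro x hx
      rw [mem_centralizer_iff]
      exact fun y hy => hB y hy x hx
  have h3 : A ⊔ B ≤ centralizer ((A ⊔ B : Subgroup G) : Set G) := by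
    intro x hx
    have : A ⊔ B ≤ centralizer ({x} : Set G) := by
      apply sup_le
      · intro y hy
        rw [mem_centralizer_singleton_iff]
        exact mem_centralizer_iff.mp (h1 hx) y hy
      · intro y hy
        rw [mem_centralizer_singleton_iff]
        exact mem_centralizer_iff.mp (h2 hx) y hy
    rw [mem_centralizer_iff]
    intro y hy
    exact mem_centralizer_singleton_iff.mp (this hy)
  intro x hx y hy
  exact mem_centralizer_iff.mp (h3 hy) x hx

theorem eq_of_le_of_card_le [Finite G] {A B : Subgroup G} (h : A ≤ B) (hc : Nat.card B ≤ Nat.card A) :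
    A = B := Subgroup.eq_of_le_of_card_ge h hc

namespace LargeAb

variable [Finite G] {S A : Subgroup G}

/-- A subgroup of `S` that is abelian and centralises `A` lies in `A`. -/
theorem le_of_comm (h : LargeAb S A) {B : Subgroup G} (hB : B ≤ S) (hBc : ∀ x ∈ B, ∀ y ∈ B, x * y = y * x)
    (hAB : ∀ x ∈ A, ∀ y ∈ B, x * y = y * x) : B ≤ A := by
  have h1 := h.max (A ⊔ B) (sup_le h.le hB) (comm_sup h.comm hBc hAB)
  have h2 := eq_of_le_of_card_le (le_sup_left : A ≤ A ⊔ B) h1
  rw [h2]
  exact le_sup_right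

end LargeAb

theorem conj_cj' {g : G} {H : Subgroup G} [Finite G] (h : ∀ y ∈ H, g * y * g⁻¹ ∈ H) : cj g H = H := by
  apply eq_of_le_of_card_le
  · intro y hy
    rw [mem_cj] at hy
    have := h _ hy
    have e : g * (g⁻¹ * y * g) * g⁻¹ = y := by group
    rwa [e] at this
  · rw [card_cj]

section

variable [Finite G] {p q : ℕ} [hp : Fact p.Prime] {S T M : Subgroup G}

namespace Core

variable (c : Core p q S T M)
include c

theorem le : T ≤ S := by
  obtain ⟨P, hP⟩ := c.syl
  rw [c.hT, ← hP]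
  exact Lib.Cores.pCore_le_sylow P

theorem normT : T.Normal := by
  rw [c.hT]
  exact Lib.Cores.pCore_normal p

theorem pgS : IsPGroup p S := by
  obtain ⟨P, hP⟩ := c.syl
  rw [← hP]
  exact P.isPGroup'

theorem cent_le : centralizer (S : Set G) ≤ T :=
  (centralizer_le (SetLike.coe_subset_coe.mpr c.le)).trans c.cent

theorem ne : S ≠ T := by
  intro h
  apply c.notNormal
  rw [h]
  exact c.normT

theorem normX : (cen T).Normal := by
  have := c.normT
  exact cen_normal

theorem Zs_le : cen S ≤ cen T := by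
  intro x hx
  exact ⟨c.cent_le hx.2, centralizer_le (SetLike.coe_subset_coe.mpr c.le) hx.2⟩

theorem qpos : 0 < q := by
  rcases Nat.eq_zero_or_pos q with h | h
  · have h1 := c.card
    rw [h, zero_mul] at h1
    have : 0 < Nat.card S := Nat.card_pos
    omega
  · exact h

/-- A normal subgroup `N` with `NS = G` and centralising `Z(S)` forces `Z(S) ≤ Z(G)`. -/
theorem Zs_central {N : Subgroup G} (h : N ⊔ S = ⊤) (hN : N ≤ centralizer (cen S : Set G)) :
    cen S ≤ center G := by
  intro z hz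
  have h1 : N ⊔ S ≤ centralizer ({z} : Set G) := by
    apply sup_le
    · intro x hx
      rw [mem_centralizer_singleton_iff]
      exact (mem_centralizer_iff.mp (hN hx) z hz).symm
    · intro x hx
      rw [mem_centralizer_singleton_iff]
      exact cen_comm hz hx
  rw [h] at h1
  rw [mem_center_iff]
  intro g
  exact mem_centralizer_singleton_iff.mp (h1 (mem_top g))

theorem normal_of_le_center {H : Subgroup G} (h : H ≤ center G) : H.Normal := by
  constructor
  intro x hx g
  rw [mem_center_iff.mp (h hx) g, mul_assoc, mul_inv_cancel, mul_one]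
  exact hx

theorem center_le : center G ≤ cen S := by
  intro x hx
  have h1 : x ∈ centralizer (S : Set G) := by
    rw [mem_centralizer_iff]
    intro y _
    exact mem_center_iff.mp hx y
  exact ⟨c.le (c.cent_le h1), h1⟩

theorem inf_centX (hZ : ¬ (cen S).Normal) : S ⊓ centralizer (cen T : Set G) = T := by
  have h1 := c.normX
  have h2 : (centralizer (cen T : Set G)).Normal := by
    apply normal_of_cj
    intro g
    rw [cj_centralizer, cj_normal]
  apply le_antisymm
  · rcases c.dich _ h2 with h | h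
    · exfalso
      apply hZ
      apply c.normal_of_le_center
      apply c.Zs_central h
      exact centralizer_le (SetLike.coe_subset_coe.mpr c.Zs_le)
    · rw [inf_comm]
      exact h
  · apply le_inf c.le
    intro x hx
    rw [mem_centralizer_iff]
    intro y hy
    exact (cen_comm hy hx).symm

end Core

/-- The measure `|B| |C_X(B)|`. -/
noncomputable def mea (X B : Subgroup G) : ℕ := Nat.card B * Nat.card (X ⊓ centralizer (B : Set G) : Subgroup G)

/-- `B` is a maximiser of `|B||C_X(B)|`. -/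
def IsMax (S T : Subgroup G) (B : Subgroup G) : Prop :=
  T ≤ B ∧ B ≤ S ∧ ∀ B' : Subgroup G, T ≤ B' → B' ≤ S → mea (cen T) B' ≤ mea (cen T) B

theorem centralizer_sup' (A B : Subgroup G) :
    centralizer ((A ⊔ B : Subgroup G) : Set G) = centralizer (A : Set G) ⊓ centralizer (B : Set G) := by
  apply le_antisymm
  · exact le_inf (centralizer_le (SetLike.coe_subset_coe.mpr le_sup_left))
      (centralizer_le (SetLike.coe_subset_coe.mpr le_sup_right))
  · rintro x ⟨h1, h2⟩
    have h3 : A ⊔ B ≤ centralizer ({x} : Set G) := by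
      apply sup_le
      · intro y hy
        rw [mem_centralizer_singleton_iff]
        exact mem_centralizer_iff.mp h1 y hy
      · intro y hy
        rw [mem_centralizer_singleton_iff]
        exact mem_centralizer_iff.mp h2 y hy
    rw [mem_centralizer_iff]
    intro y hy
    exact mem_centralizer_singleton_iff.mp (h3 hy)

namespace Core

variable (c : Core p q S T M)
include c

/-- Subgroups between `T` and `S` normalise each other. -/
theorem le_norm {B₁ B₂ : Subgroup G} (h2 : T ≤ B₂) (h1' : B₁ ≤ S) (h2' : B₂ ≤ S) :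
    B₁ ≤ normalizer (B₂ : Set G) := by
  intro x hx
  rw [← cj_eq_iff_mem_normalizer]
  apply conj_cj'
  intro y hy
  have h3 := h2 (c.comm x (h1' hx) y (h2' hy))
  have e : x * y * x⁻¹ = (x * y * x⁻¹ * y⁻¹) * y := by group
  rw [e]
  exact B₂.mul_mem h3 hy

theorem cenT_comm {x y : G} (hx : x ∈ cen T) (hy : y ∈ cen T) : x * y = y * x :=
  cen_comm hy (cen_le T hx)

theorem max_closed {B₁ B₂ : Subgroup G} (h1 : IsMax S T B₁) (h2 : IsMax S T B₂) :
    IsMax S T (B₁ ⊔ B₂) ∧ IsMax S T (B₁ ⊓ B₂) ∧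
      cen T ⊓ centralizer ((B₁ ⊓ B₂ : Subgroup G) : Set G) =
        (cen T ⊓ centralizer (B₁ : Set G)) ⊔ (cen T ⊓ centralizer (B₂ : Set G)) := by
  set C₁ := cen T ⊓ centralizer (B₁ : Set G) with hC₁
  set C₂ := cen T ⊓ centralizer (B₂ : Set G) with hC₂
  have e1 : Nat.card (B₁ ⊔ B₂ : Subgroup G) * Nat.card (B₁ ⊓ B₂ : Subgroup G) = Nat.card B₁ * Nat.card B₂ :=
    card_mul_eq (c.le_norm h2.1 h1.2.1 h2.2.1)
  have e2 : Nat.card (C₁ ⊔ C₂ : Subgroup G) * Nat.card (C₁ ⊓ C₂ : Subgroup G) = Nat.card C₁ * Nat.card C₂ := by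
    apply card_mul_eq
    intro x hx
    rw [← cj_eq_iff_mem_normalizer]
    apply conj_cj'
    intro y hy
    have := c.cenT_comm hx.1 hy.1
    rw [this, mul_assoc, mul_inv_cancel, mul_one]
    exact hy
  have e3 : C₁ ⊓ C₂ = cen T ⊓ centralizer ((B₁ ⊔ B₂ : Subgroup G) : Set G) := by
    rw [centralizer_sup', hC₁, hC₂]
    exact (inf_inf_distrib_left _ _ _).symm
  have e4 : C₁ ⊔ C₂ ≤ cen T ⊓ centralizer ((B₁ ⊓ B₂ : Subgroup G) : Set G) := by
    apply sup_le
    · exact inf_le_inf_left _ (centralizer_le (SetLike.coe_subset_coe.mpr inf_le_left))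
    · exact inf_le_inf_left _ (centralizer_le (SetLike.coe_subset_coe.mpr inf_le_right))
  have e5 : Nat.card (C₁ ⊔ C₂ : Subgroup G) ≤
      Nat.card (cen T ⊓ centralizer ((B₁ ⊓ B₂ : Subgroup G) : Set G) : Subgroup G) :=
    Nat.card_mono (Set.toFinite _) e4
  have hs1 : mea (cen T) (B₁ ⊔ B₂) ≤ mea (cen T) B₁ :=
    h1.2.2 _ (h1.1.trans le_sup_left) (sup_le h1.2.1 h2.2.1)
  have hs2 : mea (cen T) (B₁ ⊓ B₂) ≤ mea (cen T) B₁ :=
    h1.2.2 _ (le_inf h1.1 h2.1) (inf_le_left.trans h1.2.1)
  have h12 : mea (cen T) B₁ = mea (cen T) B₂ :=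
    le_antisymm (h2.2.2 _ h1.1 h1.2.1) (h1.2.2 _ h2.1 h2.2.1)
  have hpos : ∀ H : Subgroup G, 0 < Nat.card H := fun H => Nat.card_pos
  have hmpos : 0 < mea (cen T) B₁ := Nat.mul_pos (hpos _) (hpos _)
  have key : mea (cen T) B₁ * mea (cen T) B₂ ≤ mea (cen T) (B₁ ⊔ B₂) * mea (cen T) (B₁ ⊓ B₂) := by
    calc mea (cen T) B₁ * mea (cen T) B₂ = (Nat.card B₁ * Nat.card B₂) * (Nat.card C₁ * Nat.card C₂) := by
          unfold mea; rw [← hC₁, ← hC₂]; ring
      _ = (Nat.card (B₁ ⊔ B₂ : Subgroup G) * Nat.card (B₁ ⊓ B₂ : Subgroup G)) *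
          (Nat.card (C₁ ⊔ C₂ : Subgroup G) * Nat.card (C₁ ⊓ C₂ : Subgroup G)) := by rw [e1, e2]
      _ ≤ (Nat.card (B₁ ⊔ B₂ : Subgroup G) * Nat.card (B₁ ⊓ B₂ : Subgroup G)) *
          (Nat.card (cen T ⊓ centralizer ((B₁ ⊓ B₂ : Subgroup G) : Set G) : Subgroup G) *
            Nat.card (C₁ ⊓ C₂ : Subgroup G)) := by gcongr
      _ = _ := by rw [e3]; unfold mea; ring
  rw [← h12] at key
  have hs1' : mea (cen T) (B₁ ⊔ B₂) = mea (cen T) B₁ := by
    apply le_antisymm hs1
    by_contra hlt
    push Not at hlt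
    have : mea (cen T) (B₁ ⊔ B₂) * mea (cen T) (B₁ ⊓ B₂) < mea (cen T) B₁ * mea (cen T) B₁ :=
      Nat.mul_lt_mul_of_lt_of_le hlt hs2 hmpos
    omega
  have hs2' : mea (cen T) (B₁ ⊓ B₂) = mea (cen T) B₁ := by
    apply le_antisymm hs2
    by_contra hlt
    push Not at hlt
    have : mea (cen T) (B₁ ⊔ B₂) * mea (cen T) (B₁ ⊓ B₂) < mea (cen T) B₁ * mea (cen T) B₁ :=
      Nat.mul_lt_mul_of_le_of_lt hs1 hlt hmpos
    omega
  refine ⟨⟨h1.1.trans le_sup_left, sup_le h1.2.1 h2.2.1, ?_⟩,
    ⟨le_inf h1.1 h2.1, inf_le_left.trans h1.2.1, ?_⟩, ?_⟩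
  · intro B' hB1 hB2
    rw [hs1']
    exact h1.2.2 B' hB1 hB2
  · intro B' hB1 hB2
    rw [hs2']
    exact h1.2.2 B' hB1 hB2
  · symm
    apply eq_of_le_of_card_le e4
    by_contra hlt
    push Not at hlt
    have h5 : (Nat.card (B₁ ⊔ B₂ : Subgroup G) * Nat.card (B₁ ⊓ B₂ : Subgroup G)) *
          (Nat.card (C₁ ⊔ C₂ : Subgroup G) * Nat.card (C₁ ⊓ C₂ : Subgroup G)) <
        (Nat.card (B₁ ⊔ B₂ : Subgroup G) * Nat.card (B₁ ⊓ B₂ : Subgroup G)) *
          (Nat.card (cen T ⊓ centralizer ((B₁ ⊓ B₂ : Subgroup G) : Set G) : Subgroup G) *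
            Nat.card (C₁ ⊓ C₂ : Subgroup G)) := by
      apply Nat.mul_lt_mul_of_pos_left _ (Nat.mul_pos (hpos _) (hpos _))
      exact Nat.mul_lt_mul_of_pos_right hlt (hpos _)
    have h6 : (Nat.card (B₁ ⊔ B₂ : Subgroup G) * Nat.card (B₁ ⊓ B₂ : Subgroup G)) *
          (Nat.card (C₁ ⊔ C₂ : Subgroup G) * Nat.card (C₁ ⊓ C₂ : Subgroup G)) =
        mea (cen T) B₁ * mea (cen T) B₁ := by
      rw [e1, e2]
      conv_rhs => rw [h12]
      conv_rhs => arg 1; rw [← h12]
      unfold mea; rw [← hC₁, ← hC₂]; ring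
    have h7 : (Nat.card (B₁ ⊔ B₂ : Subgroup G) * Nat.card (B₁ ⊓ B₂ : Subgroup G)) *
          (Nat.card (cen T ⊓ centralizer ((B₁ ⊓ B₂ : Subgroup G) : Set G) : Subgroup G) *
            Nat.card (C₁ ⊓ C₂ : Subgroup G)) = mea (cen T) (B₁ ⊔ B₂) * mea (cen T) (B₁ ⊓ B₂) := by
      rw [e3]; unfold mea; ring
    rw [h6, h7, hs1', hs2'] at h5
    exact lt_irrefl _ h5

theorem mea_cj {n : G} (B : Subgroup G) :
    mea (cen T) (cj n B) = mea (cen T) B := by
  have h1 := c.normX
  unfold mea
  have h2 : cen T ⊓ centralizer (cj n B : Set G) = cj n (cen T ⊓ centralizer (B : Set G)) := by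
    rw [cj_inf, cj_centralizer, cj_normal n (cen T)]
  rw [card_cj, h2, card_cj]

theorem isMax_cj {n : G} (hn : n ∈ normalizer (S : Set G)) {B : Subgroup G} (hB : IsMax S T B) :
    IsMax S T (cj n B) := by
  have h1 := c.normT
  refine ⟨?_, ?_, ?_⟩
  · have := cj_mono (g := n) hB.1
    rwa [cj_normal n T] at this
  · have := cj_mono (g := n) hB.2.1
    rwa [cj_eq_iff_mem_normalizer.mpr hn] at this
  · intro B' h2 h3
    rw [c.mea_cj]
    exact hB.2.2 B' h2 h3

theorem exists_isMax : ∃ B, IsMax S T B := by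
  obtain ⟨B, hB, hmax⟩ := Set.exists_max_image {B : Subgroup G | T ≤ B ∧ B ≤ S} (mea (cen T))
    (Set.toFinite _) ⟨T, le_rfl, c.le⟩
  exact ⟨B, hB.1, hB.2, fun B' h1 h2 => hmax B' ⟨h1, h2⟩⟩

/-- `S` is a maximiser. -/
theorem isMax_S {A : Subgroup G} (hA : LargeAb S A) (hAT : ¬ A ≤ T) : IsMax S T S := by
  have hne : {B : Subgroup G | IsMax S T B}.Nonempty := c.exists_isMax
  obtain ⟨B, hB, hmax⟩ := Set.exists_max_image {B : Subgroup G | IsMax S T B} (fun B => Nat.card B)
    (Set.toFinite _) hne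
  have hB' : IsMax S T B := hB
  have hle : ∀ B' : Subgroup G, IsMax S T B' → B' ≤ B := by
    intro B' h
    have h1 := (c.max_closed hB' h).1
    have h2 := hmax _ h1
    have h3 := eq_of_le_of_card_le (le_sup_left : B ≤ B ⊔ B') h2
    rw [h3]
    exact le_sup_right
  have hinv : ∀ n ∈ normalizer (S : Set G), cj n B = B := by
    intro n hn
    apply eq_of_le_of_card_le (hle _ (c.isMax_cj hn hB'))
    rw [card_cj]
  rcases c.irr B hB'.1 hB'.2.1 hinv with h | h
  · exfalso
    apply hAT
    have h1 : IsMax S T (A ⊔ T) := by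
      refine ⟨le_sup_right, sup_le hA.le c.le, ?_⟩
      intro B' h2 h3
      refine (hB'.2.2 B' h2 h3).trans ?_
      rw [h]
      -- mea T ≤ mea (A ⊔ T)
      have f1 : Nat.card (A ⊔ T : Subgroup G) * Nat.card (A ⊓ T : Subgroup G) = Nat.card A * Nat.card T := by
        apply card_mul_eq
        have := c.normT
        rw [normalizer_eq_top_iff.mpr this]
        exact le_top
      have f2 : cen T ⊓ centralizer ((A ⊔ T : Subgroup G) : Set G) = A ⊓ cen T := by
        apply le_antisymm
        · rintro x ⟨hx1, hx2⟩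
          refine ⟨?_, hx1⟩
          have h4 : zpowers x ≤ A := by
            apply hA.le_of_comm
            · rw [zpowers_le]
              exact c.le (cen_le T hx1)
            · rintro _ ⟨i, rfl⟩ _ ⟨j, rfl⟩
              exact (Commute.refl x).zpow_zpow i j
            · rintro a ha _ ⟨j, rfl⟩
              have h5 : a * x = x * a := mem_centralizer_iff.mp hx2 a (mem_sup_left ha)
              exact (show Commute a x from h5).zpow_right j
          exact h4 (mem_zpowers x)
        · rintro x ⟨hx1, hx2⟩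
          refine ⟨hx2, ?_⟩
          rw [centralizer_sup']
          refine ⟨mem_centralizer_iff.mpr ?_, hx2.2⟩
          intro a ha
          exact hA.comm a ha x hx1
      have f3 : cen T ⊓ centralizer (T : Set G) = cen T := inf_eq_left.mpr inf_le_right
      have f4 : Nat.card ((A ⊓ T) ⊔ cen T : Subgroup G) ≤ Nat.card A := by
        apply hA.max
        · exact sup_le (inf_le_left.trans hA.le) ((cen_le T).trans c.le)
        · apply comm_sup
          · intro x hx y hy
            exact hA.comm x hx.1 y hy.1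
          · intro x hx y hy
            exact c.cenT_comm hx hy
          · intro x hx y hy
            exact cen_comm hy hx.2
      have f5 : Nat.card ((A ⊓ T) ⊔ cen T : Subgroup G) * Nat.card ((A ⊓ T) ⊓ cen T : Subgroup G) =
          Nat.card (A ⊓ T : Subgroup G) * Nat.card (cen T) := by
        apply card_mul_eq
        have := c.normX
        rw [normalizer_eq_top_iff.mpr this]
        exact le_top
      have f6 : (A ⊓ T) ⊓ cen T = A ⊓ cen T := by
        apply le_antisymm
        · exact le_inf (inf_le_left.trans inf_le_left) inf_le_right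
        · exact le_inf (le_inf inf_le_left (inf_le_right.trans (cen_le T))) inf_le_right
      rw [f6] at f5
      unfold mea
      rw [f2, f3]
      have hpos : 0 < Nat.card (A ⊓ T : Subgroup G) := Nat.card_pos
      have : Nat.card (A ⊓ T : Subgroup G) * (Nat.card T * Nat.card (cen T)) ≤
          Nat.card (A ⊓ T : Subgroup G) * (Nat.card (A ⊔ T : Subgroup G) * Nat.card (A ⊓ cen T : Subgroup G)) := by
        calc Nat.card (A ⊓ T : Subgroup G) * (Nat.card T * Nat.card (cen T))
            = Nat.card T * (Nat.card (A ⊓ T : Subgroup G) * Nat.card (cen T)) := by ring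
          _ = Nat.card T * (Nat.card ((A ⊓ T) ⊔ cen T : Subgroup G) * Nat.card (A ⊓ cen T : Subgroup G)) := by
              rw [f5]
          _ ≤ Nat.card T * (Nat.card A * Nat.card (A ⊓ cen T : Subgroup G)) := by gcongr
          _ = (Nat.card A * Nat.card T) * Nat.card (A ⊓ cen T : Subgroup G) := by ring
          _ = _ := by rw [← f1]; ring
      exact Nat.le_of_mul_le_mul_left this hpos
    exact (le_sup_left.trans (hle _ h1)).trans h.le
  · rwa [h] at hB'

end Core

end

end Cfsg.Agent.H260.Push
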