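import Cfsg.Agent.H260.Push2

/-!
# Rank one pushing up: the structure theorem, second part (quadratic action, orders)
-/

set_option autoImplicit false
set_option linter.unusedSectionVars false
set_option linter.unusedVariables false

namespace Cfsg.Agent.H260.Push

open Subgroup
open scoped commutatorElement

variable {G : Type*} [Group G]

/-- `[s, y] = s y s⁻¹ y⁻¹`. -/
def cm (y s : G) : G := s * y * s⁻¹ * y⁻¹

section

variable [Finite G] {p q : ℕ} [hp : Fact p.Prime] {S T M : Subgroup G}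

namespace Core

variable (c : Core p q S T M)
include c

theorem cm_mem {y s : G} (hy : y ∈ cen T) : cm y s ∈ cen T := by
  have h1 := c.normX
  exact (cen T).mul_mem (h1.conj_mem _ hy s) ((cen T).inv_mem hy)

theorem conj_mem_X {y s : G} (hy : y ∈ cen T) : s * y * s⁻¹ ∈ cen T := c.normX.conj_mem _ hy s

/-- `s t` and `t s` act alike on `X`. -/
theorem conj_conj {y s t : G} (hy : y ∈ cen T) (hs : s ∈ S) (ht : t ∈ S) :
    s * (t * y * t⁻¹) * s⁻¹ = t * (s * y * s⁻¹) * t⁻¹ := by
  have h1 := c.comm t ht s hs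
  have h2 : (t * s * t⁻¹ * s⁻¹) * (s * (t * y * t⁻¹) * s⁻¹) =
      (s * (t * y * t⁻¹) * s⁻¹) * (t * s * t⁻¹ * s⁻¹) :=
    cen_comm (c.conj_mem_X (c.conj_mem_X hy)) h1
  have e : t * (s * y * s⁻¹) * t⁻¹ =
      (t * s * t⁻¹ * s⁻¹) * (s * (t * y * t⁻¹) * s⁻¹) * (t * s * t⁻¹ * s⁻¹)⁻¹ := by group
  rw [e, h2]
  group

/-- `[y, S]`. -/
def W (S : Subgroup G) (y : G) : Subgroup G := closure {x | ∃ s ∈ S, x = cm y s}

theorem W_le {y : G} (hy : y ∈ cen T) : W S y ≤ cen T := by
  unfold W
  rw [closure_le]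
  rintro _ ⟨s, _, rfl⟩
  exact c.cm_mem hy

theorem cenX_le_norm (H : Subgroup G) {K : Subgroup G} (hH : H ≤ cen T) (hK : K ≤ cen T) :
    H ≤ normalizer (K : Set G) := by
  intro x hx
  rw [← cj_eq_iff_mem_normalizer]
  apply conj_cj'
  intro y hy
  rw [c.cenT_comm (hH hx) (hK hy), mul_assoc, mul_inv_cancel, mul_one]
  exact hy

theorem mem_cent_W {y : G} {b : G} (h : ∀ s ∈ S, b * cm y s = cm y s * b) :
    b ∈ centralizer (W S y : Set G) := by
  have h1 : W S y ≤ centralizer ({b} : Set G) := by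
    unfold W
    rw [closure_le]
    rintro _ ⟨s, hs, rfl⟩
    rw [SetLike.mem_coe, mem_centralizer_singleton_iff]
    exact (h s hs).symm
  rw [mem_centralizer_iff]
  intro x hx
  exact mem_centralizer_singleton_iff.mp (h1 hx)

/-- The Thompson-Timmesfeld inequality. -/
theorem relIndex_le {y : G} (hy : y ∈ cen T) :
    (S ⊓ centralizer (W S y : Set G)).relIndex S ≤
      (W S y ⊓ cen S).relIndex (W S y) := by
  set B := S ⊓ centralizer (W S y : Set G) with hB
  set C := W S y ⊓ cen S with hC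
  unfold relIndex index
  let f : S → (W S y) := fun s => ⟨cm y s, subset_closure ⟨s, s.2, rfl⟩⟩
  let g : (S ⧸ B.subgroupOf S) → (W S y ⧸ C.subgroupOf (W S y)) := fun x => QuotientGroup.mk (f x.out)
  apply Nat.card_le_card_of_injective g
  intro x x' hxx
  have h1 : (f x.out)⁻¹ * f x'.out ∈ C.subgroupOf (W S y) := QuotientGroup.eq.mp hxx
  rw [mem_subgroupOf] at h1
  set s : S := x.out with hs
  set s' : S := x'.out with hs'
  have h2 : (cm y s)⁻¹ * cm y s' ∈ cen S := h1.2
  have h3 : (s : G)⁻¹ * s' ∈ B := by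
    refine ⟨S.mul_mem (S.inv_mem s.2) s'.2, ?_⟩
    apply c.mem_cent_W
    intro t ht
    -- t acts trivially on a := (cm y s)⁻¹ * cm y s'
    have h4 : t * ((cm y s)⁻¹ * cm y s') = ((cm y s)⁻¹ * cm y s') * t := cen_comm h2 ht
    -- all in X: commute
    have hX : ∀ a b : G, a ∈ cen T → b ∈ cen T → a * b = b * a := fun a b => c.cenT_comm
    have m1 : cm y (s : G) ∈ cen T := c.cm_mem hy
    have m2 : cm y (s' : G) ∈ cen T := c.cm_mem hy
    -- t cm(y,s') t⁻¹ = cm(y,s') cm(y,s)⁻¹ (t cm(y,s) t⁻¹)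
    have h5 : t * cm y s' * t⁻¹ * (t * cm y s * t⁻¹)⁻¹ = cm y s' * (cm y s)⁻¹ := by
      have e1 : t * cm y s' * t⁻¹ * (t * cm y s * t⁻¹)⁻¹ = t * (cm y s' * (cm y s)⁻¹) * t⁻¹ := by group
      rw [e1, hX _ _ m2 ((cen T).inv_mem m1), h4]
      group
    -- t cm(y,s) t⁻¹ = (s (t y t⁻¹) s⁻¹) (t y t⁻¹)⁻¹
    have h6 : ∀ r ∈ S, t * cm y r * t⁻¹ = (r * (t * y * t⁻¹) * r⁻¹) * (t * y * t⁻¹)⁻¹ := by
      intro r hr
      rw [c.conj_conj hy hr ht]
      unfold cm
      group
    rw [h6 _ s'.2, h6 _ s.2] at h5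
    -- cm y r = (r y r⁻¹) y⁻¹
    have h7 : (s' * (t * y * t⁻¹) * (s' : G)⁻¹) * (s * (t * y * t⁻¹) * (s : G)⁻¹)⁻¹ =
        (s' * y * (s' : G)⁻¹) * (s * y * (s : G)⁻¹)⁻¹ := by
      have e1 : (s' * (t * y * t⁻¹) * (s' : G)⁻¹) * (s * (t * y * t⁻¹) * (s : G)⁻¹)⁻¹ =
          (s' * (t * y * t⁻¹) * (s' : G)⁻¹) * (t * y * t⁻¹)⁻¹ *
            ((s * (t * y * t⁻¹) * (s : G)⁻¹) * (t * y * t⁻¹)⁻¹)⁻¹ := by group
      rw [e1, h5]
      unfold cm
      group
    -- hence s' (cm y t) s'⁻¹ = s (cm y t) s⁻¹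
    have h8 : (s' : G) * cm y t * (s' : G)⁻¹ = s * cm y t * (s : G)⁻¹ := by
      have e1 : ∀ r : G, r * cm y t * r⁻¹ = (r * (t * y * t⁻¹) * r⁻¹) * (r * y * r⁻¹)⁻¹ := by
        intro r; unfold cm; group
      rw [e1, e1]
      set a := (s' : G) * (t * y * t⁻¹) * (s' : G)⁻¹ with ha
      set b := (s : G) * (t * y * t⁻¹) * (s : G)⁻¹ with hb
      set a' := (s' : G) * y * (s' : G)⁻¹ with ha'
      set b' := (s : G) * y * (s : G)⁻¹ with hb'
      have ma : a ∈ cen T := c.conj_mem_X (c.conj_mem_X hy)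
      have mb : b ∈ cen T := c.conj_mem_X (c.conj_mem_X hy)
      have ma' : a' ∈ cen T := c.conj_mem_X hy
      have mb' : b' ∈ cen T := c.conj_mem_X hy
      -- h7 : a * b⁻¹ = a' * b'⁻¹
      have e2 : a = a' * b'⁻¹ * b := by rw [← h7]; group
      rw [e2, mul_assoc, hX b _ mb ((cen T).inv_mem ma'), ← mul_assoc,
        hX (a' * b'⁻¹) _ ((cen T).mul_mem ma' ((cen T).inv_mem mb')) ((cen T).inv_mem ma')]
      have e3 : a'⁻¹ * (a' * b'⁻¹) * b = b'⁻¹ * b := by group
      rw [e3, hX _ _ ((cen T).inv_mem mb') mb]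
    have h9 : ((s : G)⁻¹ * s') * cm y t * ((s : G)⁻¹ * s')⁻¹ = cm y t := by
      have e1 : ((s : G)⁻¹ * s') * cm y t * ((s : G)⁻¹ * s')⁻¹ =
          (s : G)⁻¹ * (s' * cm y t * (s' : G)⁻¹) * s := by group
      rw [e1, h8]
      group
    have e1 : ((s : G)⁻¹ * s') * cm y t = (((s : G)⁻¹ * s') * cm y t * ((s : G)⁻¹ * s')⁻¹) *
        ((s : G)⁻¹ * s') := by group
    rw [e1, h9]
  have h4 : (QuotientGroup.mk s : S ⧸ B.subgroupOf S) = QuotientGroup.mk s' := by
    rw [QuotientGroup.eq, mem_subgroupOf]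
    exact h3
  have e1 : (QuotientGroup.mk s : S ⧸ B.subgroupOf S) = x := Quotient.out_eq x
  have e2 : (QuotientGroup.mk s' : S ⧸ B.subgroupOf S) = x' := Quotient.out_eq x'
  rw [← e1, ← e2, h4]

theorem cenT_inf : cen T ⊓ centralizer (T : Set G) = cen T :=
  inf_eq_left.mpr (inf_le_right : T ⊓ centralizer (T : Set G) ≤ centralizer (T : Set G))

theorem cen_eq : cen T ⊓ centralizer (S : Set G) = cen S := by
  apply le_antisymm
  · rintro x ⟨hx1, hx2⟩
    exact ⟨c.le (cen_le T hx1), hx2⟩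
  · intro x hx
    exact ⟨c.Zs_le hx, hx.2⟩

theorem isMax_By (hS : IsMax S T S) {y : G} (hy : y ∈ cen T) :
    IsMax S T (S ⊓ centralizer (W S y : Set G)) ∧
      cen T ⊓ centralizer ((S ⊓ centralizer (W S y : Set G) : Subgroup G) : Set G) = W S y ⊔ cen S := by
  set B := S ⊓ centralizer (W S y : Set G) with hB
  have hTB : T ≤ B := by
    apply le_inf c.le
    intro x hx
    rw [mem_centralizer_iff]
    intro z hz
    exact (cen_comm (c.W_le hy hz) hx).symm
  have hle : W S y ⊔ cen S ≤ cen T ⊓ centralizer (B : Set G) := by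
    apply sup_le
    · apply le_inf (c.W_le hy)
      intro x hx
      rw [mem_centralizer_iff]
      intro b hb
      exact (mem_centralizer_iff.mp hb.2 x hx).symm
    · apply le_inf c.Zs_le
      exact inf_le_right.trans (centralizer_le (SetLike.coe_subset_coe.mpr inf_le_left))
  have h1 := c.relIndex_le hy
  have e1 : Nat.card B * B.relIndex S = Nat.card S := card_mul_relIndex inf_le_left
  have e2 : Nat.card (W S y ⊓ cen S : Subgroup G) * (W S y ⊓ cen S).relIndex (W S y) = Nat.card (W S y) :=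
    card_mul_relIndex inf_le_left
  have e3 : Nat.card (W S y ⊔ cen S : Subgroup G) * Nat.card (W S y ⊓ cen S : Subgroup G) =
      Nat.card (W S y) * Nat.card (cen S) :=
    card_mul_eq (c.cenX_le_norm _ (c.W_le hy) c.Zs_le)
  have e4 : Nat.card (W S y ⊔ cen S : Subgroup G) = (W S y ⊓ cen S).relIndex (W S y) * Nat.card (cen S) := by
    have hpos : 0 < Nat.card (W S y ⊓ cen S : Subgroup G) := Nat.card_pos
    apply Nat.eq_of_mul_eq_mul_left hpos
    rw [mul_comm, e3, ← e2]
    ring
  have e5 : mea (cen T) S = Nat.card S * Nat.card (cen S) := by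
    unfold mea
    rw [c.cen_eq]
  have h2 : mea (cen T) S ≤ Nat.card B * Nat.card (W S y ⊔ cen S : Subgroup G) := by
    rw [e5, e4, ← e1]
    calc Nat.card B * B.relIndex S * Nat.card (cen S) ≤
        Nat.card B * (W S y ⊓ cen S).relIndex (W S y) * Nat.card (cen S) := by gcongr
      _ = _ := by ring
  have h3 : Nat.card (W S y ⊔ cen S : Subgroup G) ≤ Nat.card (cen T ⊓ centralizer (B : Set G) : Subgroup G) :=
    Nat.card_mono (Set.toFinite _) hle
  have h4 : Nat.card B * Nat.card (W S y ⊔ cen S : Subgroup G) ≤ mea (cen T) B := by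
    unfold mea
    gcongr
  have h5 : mea (cen T) B ≤ mea (cen T) S := hS.2.2 B hTB inf_le_left
  refine ⟨⟨hTB, inf_le_left, ?_⟩, ?_⟩
  · intro B' hB1 hB2
    exact (hS.2.2 B' hB1 hB2).trans (h2.trans h4)
  · symm
    apply eq_of_le_of_card_le hle
    have h6 : Nat.card B * Nat.card (cen T ⊓ centralizer (B : Set G) : Subgroup G) ≤
        Nat.card B * Nat.card (W S y ⊔ cen S : Subgroup G) := h5.trans h2
    exact Nat.le_of_mul_le_mul_left h6 Nat.card_pos

/-- `[X, S]`. -/
def WW (S T : Subgroup G) : Subgroup G := ⨆ y : cen T, W S (y : G)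

theorem WW_le : WW S T ≤ cen T := iSup_le fun y => c.W_le y.2

/-- in a `p`-group, `X = [X,S] C_X(S)` only if `X = C_X(S)`. -/
theorem eq_of_sup (h : cen T ≤ WW S T ⊔ cen S) : cen T ≤ cen S := by
  obtain ⟨n, hn⟩ := (isNilpotent_iff_lowerCentralSeries S).mp c.pgS.isNilpotent
  let I : ℕ → Subgroup G := fun n => (S.lowerCentralSeries n) ⊓ cen T
  have hI : ∀ n, cen T ≤ I n ⊔ cen S := by
    intro n
    induction n with
    | zero =>
      have : I 0 = cen T := inf_eq_right.mpr ((cen_le T).trans c.le)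
      rw [this]
      exact le_sup_left
    | succ n ih =>
      refine h.trans ?_
      apply sup_le _ le_sup_right
      apply iSup_le
      intro y
      unfold W
      rw [closure_le]
      rintro _ ⟨s, hs, rfl⟩
      -- y = a z with a ∈ I n, z ∈ cen S
      have hy := ih y.2
      have hn1 : I n ≤ normalizer (cen S : Set G) := c.cenX_le_norm _ inf_le_right c.Zs_le
      rw [← SetLike.mem_coe, coe_mul_of_left_le_normalizer_right _ _ hn1] at hy
      obtain ⟨a, ha, z, hz, haz⟩ := hy
      simp only at haz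
      apply mem_sup_left
      have ha' : a ∈ I n := ha
      obtain ⟨ha1, ha3⟩ := ha'
      have hz' : z ∈ cen S := hz
      have e1 : cm (y : G) s = cm a s := by
        rw [← haz]
        unfold cm
        have h1 : s * z = z * s := cen_comm hz' hs
        calc s * (a * z) * s⁻¹ * (a * z)⁻¹ = s * a * (z * s⁻¹) * z⁻¹ * a⁻¹ := by group
          _ = s * a * (s⁻¹ * z) * z⁻¹ * a⁻¹ := by
            have : z * s⁻¹ = s⁻¹ * z := by
              rw [eq_inv_mul_iff_mul_eq, ← mul_assoc, h1]; group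
            rw [this]
          _ = s * a * s⁻¹ * a⁻¹ := by group
      rw [e1]
      refine ⟨?_, c.cm_mem ha3⟩
      have h5 : ⁅a, s⁆ ∈ S.lowerCentralSeries (n + 1) := commutator_mem_commutator ha1 hs
      have h6 : cm a s = ⁅a, s⁆⁻¹ := by
        unfold cm
        rw [commutatorElement_def]
        group
      rw [h6]
      exact (S.lowerCentralSeries (n + 1)).inv_mem h5
  have := hI n
  have h0 : I n = ⊥ := by
    show S.lowerCentralSeries n ⊓ cen T = ⊥
    rw [hn]
    simp
  rwa [h0, bot_sup_eq] at this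

/-- **Quadratic action**: `[X, S] ≤ Z(S)`. -/
theorem quad (hZ : ¬ (cen S).Normal) (hS : IsMax S T S) {y s : G} (hy : y ∈ cen T) (hs : s ∈ S) :
    cm y s ∈ cen S := by
  -- the family of maximisers `B` with `C_X(B) ≤ [X,S] Z(S)`
  let Q : Set (Subgroup G) := {B | IsMax S T B ∧
    cen T ⊓ centralizer (B : Set G) ≤ WW S T ⊔ cen S}
  have hQy : ∀ y ∈ cen T, (S ⊓ centralizer (W S y : Set G)) ∈ Q := by
    intro y hy
    obtain ⟨h1, h2⟩ := c.isMax_By hS hy
    refine ⟨h1, ?_⟩
    rw [h2]
    exact sup_le_sup_right (le_iSup (fun y : cen T => W S (y : G)) ⟨y, hy⟩) _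
  have hQinf : ∀ B₁ ∈ Q, ∀ B₂ ∈ Q, B₁ ⊓ B₂ ∈ Q := by
    intro B₁ h1 B₂ h2
    obtain ⟨_, h3, h4⟩ := c.max_closed h1.1 h2.1
    refine ⟨h3, ?_⟩
    rw [h4]
    exact sup_le h1.2 h2.2
  obtain ⟨B₀, hB₀, hmin⟩ := Set.exists_min_image Q (fun B => Nat.card B) (Set.toFinite _)
    ⟨_, hQy 1 (one_mem _)⟩
  have hle : ∀ B ∈ Q, B₀ ≤ B := by
    intro B hB
    have h1 := hmin _ (hQinf _ hB₀ _ hB)
    have h2 := eq_of_le_of_card_le (inf_le_left : B₀ ⊓ B ≤ B₀) h1
    rw [← h2]
    exact inf_le_right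
  set BW := S ⊓ centralizer (WW S T : Set G) with hBW
  have hTBW : T ≤ BW := by
    apply le_inf c.le
    intro x hx
    rw [mem_centralizer_iff]
    intro z hz
    exact (cen_comm (c.WW_le hz) hx).symm
  have hB₀W : B₀ ≤ BW := by
    apply le_inf hB₀.1.2.1
    intro b hb
    have h1 : WW S T ≤ centralizer ({b} : Set G) := by
      apply iSup_le
      intro y
      intro x hx
      rw [mem_centralizer_singleton_iff]
      exact (mem_centralizer_iff.mp ((hle _ (hQy y y.2)) hb).2 x hx)
    rw [mem_centralizer_iff]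
    intro x hx
    exact mem_centralizer_singleton_iff.mp (h1 hx)
  have hXn := c.normX
  have hinv : ∀ n ∈ normalizer (S : Set G), cj n BW = BW := by
    intro n hn
    have hnS := cj_eq_iff_mem_normalizer.mpr hn
    have hW : cj n (WW S T) = WW S T := by
      apply conj_cj'
      intro x hx
      have h1 : WW S T ≤ (WW S T).comap (MulAut.conj n).toMonoidHom := by
        apply iSup_le
        intro y
        unfold W
        rw [closure_le]
        rintro _ ⟨s, hs, rfl⟩
        change n * cm (y : G) s * n⁻¹ ∈ WW S T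
        have hy' : n * (y : G) * n⁻¹ ∈ cen T := hXn.conj_mem _ y.2 n
        have hs' : n * s * n⁻¹ ∈ S := by
          have := conj_mem_cj (g := n) hs
          rwa [hnS] at this
        have h2 : cm (n * (y : G) * n⁻¹) (n * s * n⁻¹) ∈ WW S T := by
          apply (le_iSup (fun y : cen T => W S (y : G)) ⟨n * y * n⁻¹, hy'⟩)
          exact subset_closure ⟨_, hs', rfl⟩
        have h3 : cm (n * (y : G) * n⁻¹) (n * s * n⁻¹) = n * cm (y : G) s * n⁻¹ := by
          unfold cm
          group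
        rwa [h3] at h2
      exact h1 hx
    rw [hBW, cj_inf, cj_centralizer, hnS, hW]
  rcases c.irr BW hTBW inf_le_left hinv with h | h
  · exfalso
    have h1 : B₀ = T := le_antisymm (hB₀W.trans h.le) hB₀.1.1
    have h2 := hB₀.2
    rw [h1, c.cenT_inf] at h2
    have h3 := c.eq_of_sup h2
    apply c.ne
    rw [← c.inf_centX hZ]
    symm
    apply inf_eq_left.mpr
    intro x hx
    rw [mem_centralizer_iff]
    intro z hz
    exact (cen_comm (h3 hz) hx).symm
  · have h1 : cm y s ∈ WW S T := by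
      apply (le_iSup (fun y : cen T => W S (y : G)) ⟨y, hy⟩)
      exact subset_closure ⟨s, hs, rfl⟩
    refine ⟨c.le (cen_le T (c.WW_le h1)), mem_centralizer_iff.mpr ?_⟩
    intro t ht
    have ht' : t ∈ BW := by rw [h]; exact ht
    exact (mem_centralizer_iff.mp ht'.2 _ h1).symm

/-- The group `G` is generated by `S^a` and `S^b` if `a⁻¹ b ∉ M`. -/
theorem central_of_two {a b x : G} (hab : a⁻¹ * b ∉ M) (h1 : x ∈ cj a (cen S)) (h2 : x ∈ cj b (cen S)) :
    x ∈ center G := by
  have h3 : cj a S ⊔ cj b S = ⊤ := by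
    have h4 := c.gen _ hab
    have h5 : cj a (S ⊔ cj (a⁻¹ * b) S) = cj a ⊤ := by rw [h4]
    rw [cj_sup, cj_mul, mul_inv_cancel_left, cj_normal a ⊤] at h5
    exact h5
  have h6 : cj a S ⊔ cj b S ≤ centralizer ({x} : Set G) := by
    rw [cj_cen] at h1 h2
    apply sup_le
    · intro z hz
      rw [mem_centralizer_singleton_iff]
      exact cen_comm h1 hz
    · intro z hz
      rw [mem_centralizer_singleton_iff]
      exact cen_comm h2 hz
  rw [h3] at h6
  rw [mem_center_iff]
  intro g
  exact mem_centralizer_singleton_iff.mp (h6 (mem_top g))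

/-- Structure of `X = Z(O_p(G))`. -/
structure Nat' (p q : ℕ) (S T M : Subgroup G) : Prop where
  quad : ∀ y ∈ cen T, ∀ s ∈ S, cm y s ∈ cen S
  cardX : Nat.card (cen T) = q * Nat.card (cen S)
  cardZ : Nat.card (cen S) = q * Nat.card (center G)
  sup : ∀ g : G, g ∉ M → cen S ⊔ cj g (cen S) = cen T
  fix : ∀ s ∈ S, s ∉ T → ∀ y ∈ cen T, s * y = y * s → y ∈ cen S
  irr : ∀ Y : Subgroup G, Y.Normal → Y ≤ cen T → ¬ Y ≤ center G → Y ⊔ center G = cen T
  comm_p : ∀ s ∈ S, ∀ y ∈ cen T, cm y s ^ p = 1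
  centX : S ⊓ centralizer (cen T : Set G) = T
  cmc : ∀ s ∈ S, s ∉ T → ∀ y ∈ cen T, cm y s ∈ center G → y ∈ cen S

theorem exists_notMem_M : ∃ g : G, g ∉ M := by
  by_contra h
  push Not at h
  exact c.neM (eq_top_iff.mpr fun x _ => h x)

/-- `[y, s t] = [y, s] [y, t]` for `y ∈ X` when the action is quadratic. -/
theorem cm_mul (hq : ∀ y ∈ cen T, ∀ s ∈ S, cm y s ∈ cen S) {y s t : G} (hy : y ∈ cen T) (hs : s ∈ S)
    (ht : t ∈ S) : cm y (s * t) = cm y s * cm y t := by
  have h1 : cm y (s * t) = s * cm y t * s⁻¹ * cm y s := by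
    unfold cm; group
  have h2 : s * cm y t = cm y t * s := cen_comm (hq y hy t ht) hs
  rw [h1, h2]
  have e : cm y t * s * s⁻¹ * cm y s = cm y t * cm y s := by group
  rw [e]
  exact c.cenT_comm (c.cm_mem hy) (c.cm_mem hy)

theorem cm_pow (hq : ∀ y ∈ cen T, ∀ s ∈ S, cm y s ∈ cen S) {y s : G} (hy : y ∈ cen T) (hs : s ∈ S)
    (n : ℕ) : cm y (s ^ n) = cm y s ^ n := by
  induction n with
  | zero => simp [cm]
  | succ n ih => rw [pow_succ, c.cm_mul hq hy (S.pow_mem hs n) hs, ih, pow_succ]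

/-- **The structure theorem.** -/
theorem nat (hZ : ¬ (cen S).Normal) {A : Subgroup G} (hA : LargeAb S A) (hAT : ¬ A ≤ T) :
    Nat' p q S T M := by
  have hS := c.isMax_S hA hAT
  have hq : ∀ y ∈ cen T, ∀ s ∈ S, cm y s ∈ cen S := fun y hy s hs => c.quad hZ hS hy hs
  have hXn := c.normX
  have hTn := c.normT
  -- |X| ≤ q |Z|
  have h1 : Nat.card (cen T) ≤ q * Nat.card (cen S) := by
    have h2 := hS.2.2 T le_rfl c.le
    unfold mea at h2
    rw [c.cen_eq, c.card, c.cenT_inf] at h2
    have h3 : Nat.card T * Nat.card (cen T) ≤ Nat.card T * (q * Nat.card (cen S)) := by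
      calc _ ≤ _ := h2
        _ = _ := by ring
    exact Nat.le_of_mul_le_mul_left h3 Nat.card_pos
  have hcenS : center G ≤ cen S := c.center_le
  have hcenj : ∀ g : G, center G ≤ cj g (cen S) := by
    intro g
    have := cj_mono (g := g) hcenS
    rwa [cj_normal g (center G)] at this
  have hcj : ∀ g : G, cj g (cen S) ≤ cen T := by
    intro g
    have := cj_mono (g := g) c.Zs_le
    rwa [cj_normal g (cen T)] at this
  have hinf : ∀ g : G, g ∉ M → cen S ⊓ cj g (cen S) = center G := by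
    intro g hg
    apply le_antisymm
    · rintro x ⟨hx1, hx2⟩
      apply c.central_of_two (a := 1) (b := g) (by simpa using hg) _ hx2
      rwa [cj_one]
    · exact le_inf hcenS (hcenj g)
  obtain ⟨g, hg⟩ := c.exists_notMem_M
  -- key: for y ∈ Z^g - Z(G), s ∈ S - T: cm y s ∉ Z(G)
  have key : ∀ g : G, g ∉ M → ∀ y ∈ cj g (cen S), y ∉ center G → ∀ s ∈ S, s ∉ T → cm y s ∉ center G := by
    intro g hg y hy hyc s hs hsT hcm
    apply hyc
    have h3 : s * y * s⁻¹ ∈ cj g (cen S) := by
      have e : s * y * s⁻¹ = cm y s * y := by unfold cm; group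
      rw [e]
      exact mul_mem (hcenj g hcm) hy
    have h4 : s * y * s⁻¹ ∈ cj (s * g) (cen S) := by
      rw [← cj_mul]
      exact conj_mem_cj hy
    have h5 := c.ti g hg s hs hsT
    have h6 : s * y * s⁻¹ ∈ center G := by
      apply c.central_of_two (a := g) (b := s * g) _ h3 h4
      rwa [← mul_assoc]
    have h7 := (inferInstance : (center G).Normal).conj_mem _ h6 s⁻¹
    have e : s⁻¹ * (s * y * s⁻¹) * s⁻¹⁻¹ = y := by group
    rwa [e] at h7
  -- a noncentral element of Z^g
  obtain ⟨y, hy, hyc⟩ : ∃ y ∈ cj g (cen S), y ∉ center G := by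
    by_contra h
    push Not at h
    apply hZ
    apply c.normal_of_le_center
    have h3 : cj g (cen S) = center G := le_antisymm h (hcenj g)
    have h4 : center G = cen S := by
      apply eq_of_le_of_card_le hcenS
      rw [← h3, card_cj]
    exact h4.ge
  have hyX : y ∈ cen T := hcj g hy
  -- q ≤ |Z : Z(G)|
  have h2 : q ≤ (center G).relIndex (cen S) := by
    have h3 : T.relIndex S = q := by
      have := card_mul_relIndex c.le
      rw [c.card, mul_comm q] at this
      exact Nat.eq_of_mul_eq_mul_left Nat.card_pos this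
    rw [← h3]
    unfold relIndex index
    let f : S → cen S := fun s => ⟨cm y s, hq y hyX s s.2⟩
    let φ : (S ⧸ T.subgroupOf S) → (cen S ⧸ (center G).subgroupOf (cen S)) :=
      fun x => QuotientGroup.mk (f x.out)
    apply Nat.card_le_card_of_injective φ
    intro x x' hxx
    have h4 : (f x.out)⁻¹ * f x'.out ∈ (center G).subgroupOf (cen S) := QuotientGroup.eq.mp hxx
    rw [mem_subgroupOf] at h4
    set s : S := x.out with hs
    set s' : S := x'.out with hs'
    have h5 : (cm y s)⁻¹ * cm y s' ∈ center G := h4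
    have h6 : (s : G)⁻¹ * s' ∈ T := by
      by_contra hsT
      have h7 := key g hg y hy hyc _ (S.mul_mem (S.inv_mem s.2) s'.2) hsT
      apply h7
      rw [c.cm_mul hq hyX (S.inv_mem s.2) s'.2]
      have h8 : cm y (s : G)⁻¹ = (cm y s)⁻¹ := by
        have h9 := c.cm_mul hq hyX (S.inv_mem s.2) s.2
        rw [inv_mul_cancel] at h9
        have h10 : cm y 1 = 1 := by simp [cm]
        rw [h10] at h9
        exact eq_inv_of_mul_eq_one_left h9.symm
      rw [h8]
      exact h5
    have h7 : (QuotientGroup.mk s : S ⧸ T.subgroupOf S) = QuotientGroup.mk s' := by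
      rw [QuotientGroup.eq, mem_subgroupOf]
      exact h6
    have e1 : (QuotientGroup.mk s : S ⧸ T.subgroupOf S) = x := Quotient.out_eq x
    have e2 : (QuotientGroup.mk s' : S ⧸ T.subgroupOf S) = x' := Quotient.out_eq x'
    rw [← e1, ← e2, h7]
  have h3 : Nat.card (center G) * (center G).relIndex (cen S) = Nat.card (cen S) :=
    card_mul_relIndex hcenS
  have h4 : q * Nat.card (center G) ≤ Nat.card (cen S) := by
    rw [← h3, mul_comm]
    gcongr
  have hprod : ∀ g : G, g ∉ M → Nat.card (cen S ⊔ cj g (cen S) : Subgroup G) * Nat.card (center G) =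
      Nat.card (cen S) * Nat.card (cen S) := by
    intro g hg
    rw [← hinf g hg, ← card_cj g (cen S)]
    conv_rhs => rw [card_cj g (cen S)]
    have := card_mul_eq (c.cenX_le_norm (cen S) c.Zs_le (hcj g))
    rw [this]
    rw [card_cj]
  have hsle : ∀ g : G, cen S ⊔ cj g (cen S) ≤ cen T := fun g => sup_le c.Zs_le (hcj g)
  have h5 : Nat.card (cen S) ≤ q * Nat.card (center G) := by
    have h6 : Nat.card (cen S ⊔ cj g (cen S) : Subgroup G) ≤ q * Nat.card (cen S) :=
      (Nat.card_mono (Set.toFinite _) (hsle g)).trans h1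
    have h7 := hprod g hg
    have h8 : Nat.card (cen S) * Nat.card (cen S) ≤ Nat.card (cen S) * (q * Nat.card (center G)) := by
      rw [← h7]
      calc _ ≤ q * Nat.card (cen S) * Nat.card (center G) := by gcongr
        _ = _ := by ring
    exact Nat.le_of_mul_le_mul_left h8 Nat.card_pos
  have h6 : Nat.card (cen S) = q * Nat.card (center G) := le_antisymm h5 h4
  have hsup : ∀ g : G, g ∉ M → cen S ⊔ cj g (cen S) = cen T := by
    intro g hg
    apply eq_of_le_of_card_le (hsle g)
    have h7 := hprod g hg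
    have h8 : Nat.card (cen S ⊔ cj g (cen S) : Subgroup G) * Nat.card (center G) =
        (q * Nat.card (cen S)) * Nat.card (center G) := by
      rw [h7]
      conv_lhs => arg 2; rw [h6]
      ring
    have h9 := Nat.eq_of_mul_eq_mul_right Nat.card_pos h8
    rw [h9]
    exact h1
  have h7 : Nat.card (cen T) = q * Nat.card (cen S) := by
    have h8 := hprod g hg
    rw [hsup g hg] at h8
    have h9 : Nat.card (cen T) * Nat.card (center G) = (q * Nat.card (cen S)) * Nat.card (center G) := by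
      rw [h8]
      conv_lhs => arg 2; rw [h6]
      ring
    exact Nat.eq_of_mul_eq_mul_right Nat.card_pos h9
  -- decomposition
  have hdec : ∀ g : G, g ∉ M → ∀ y ∈ cen T, ∃ z ∈ cen S, ∃ y' ∈ cj g (cen S), y = z * y' := by
    intro g hg y hy
    rw [← hsup g hg] at hy
    rw [← SetLike.mem_coe, coe_mul_of_left_le_normalizer_right _ _
      (c.cenX_le_norm (cen S) c.Zs_le (hcj g))] at hy
    obtain ⟨z, hz, y', hy', h⟩ := hy
    exact ⟨z, hz, y', hy', h.symm⟩
  have hcmz : ∀ z ∈ cen S, ∀ y' ∈ cen T, ∀ s ∈ S, cm (z * y') s = cm y' s := by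
    intro z hz y' hy' s hs
    have h8 : s * z = z * s := cen_comm hz hs
    have hh : z * cm y' s = cm y' s * z := c.cenT_comm (c.Zs_le hz) (c.cm_mem hy')
    unfold cm at hh ⊢
    calc s * (z * y') * s⁻¹ * (z * y')⁻¹ = (s * z) * y' * s⁻¹ * y'⁻¹ * z⁻¹ := by group
      _ = (z * s) * y' * s⁻¹ * y'⁻¹ * z⁻¹ := by rw [h8]
      _ = z * (s * y' * s⁻¹ * y'⁻¹) * z⁻¹ := by group
      _ = s * y' * s⁻¹ * y'⁻¹ := by rw [hh]; group
  have hcmc : ∀ s ∈ S, s ∉ T → ∀ y ∈ cen T, cm y s ∈ center G → y ∈ cen S := by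
    intro s hs hsT y hy hcm
    obtain ⟨z, hz, y', hy', rfl⟩ := hdec g hg y hy
    rw [hcmz z hz y' (hcj g hy') s hs] at hcm
    by_contra hn
    have hyc' : y' ∉ center G := fun h => hn (mul_mem hz (hcenS h))
    exact key g hg y' hy' hyc' s hs hsT hcm
  refine ⟨hq, h7, h6, hsup, ?_, ?_, ?_, c.inf_centX hZ, hcmc⟩
  · intro s hs hsT y hy hsy
    apply hcmc s hs hsT y hy
    have : cm y s = 1 := by
      unfold cm
      rw [hsy]
      group
    rw [this]
    exact one_mem _
  · -- irreducibility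
    intro Y hYn hYX hYc
    have hle : Y ⊔ center G ≤ cen T := sup_le hYX (hcenS.trans c.Zs_le)
    -- there is an element of Y outside Z(S)
    have hYS : ¬ Y ≤ cen S := by
      intro h
      apply hYc
      intro x hx
      apply c.central_of_two (a := 1) (b := g) (by simpa using hg)
      · rw [cj_one]
        exact h hx
      · have := cj_mono (g := g) h
        rw [cj_normal g Y] at this
        exact this hx
    obtain ⟨y, hyY, hyS⟩ := SetLike.not_le_iff_exists.mp hYS
    -- [y, S] covers Z(S)/Z(G)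
    have hcov : cen S ≤ Y ⊔ center G := by
      -- the subgroup Y ⊓ Z(S) ⊔ center has order at least q |center|
      have hyX := hYX hyY
      have h8 : q ≤ (center G).relIndex ((Y ⊓ cen S) ⊔ center G) := by
        have h3 : T.relIndex S = q := by
          have := card_mul_relIndex c.le
          rw [c.card, mul_comm q] at this
          exact Nat.eq_of_mul_eq_mul_left Nat.card_pos this
        rw [← h3]
        unfold relIndex index
        have hfm : ∀ s ∈ S, cm y s ∈ (Y ⊓ cen S) ⊔ center G := by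
          intro s hs
          apply mem_sup_left
          exact mem_inf.mpr ⟨Y.mul_mem (hYn.conj_mem _ hyY s) (Y.inv_mem hyY), hq y hyX s hs⟩
        let f : S → ((Y ⊓ cen S) ⊔ center G : Subgroup G) := fun s => ⟨cm y s, hfm s s.2⟩
        let φ : (S ⧸ T.subgroupOf S) → (((Y ⊓ cen S) ⊔ center G : Subgroup G) ⧸
            (center G).subgroupOf ((Y ⊓ cen S) ⊔ center G)) :=
          fun x => QuotientGroup.mk (f x.out)
        apply Nat.card_le_card_of_injective φ
        intro x x' hxx
        have h4 : (f x.out)⁻¹ * f x'.out ∈ (center G).subgroupOf ((Y ⊓ cen S) ⊔ center G) :=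
          QuotientGroup.eq.mp hxx
        rw [mem_subgroupOf] at h4
        set s : S := x.out with hs
        set s' : S := x'.out with hs'
        have h5 : (cm y s)⁻¹ * cm y s' ∈ center G := h4
        have h6 : (s : G)⁻¹ * s' ∈ T := by
          by_contra hsT
          apply hyS
          apply hcmc _ (S.mul_mem (S.inv_mem s.2) s'.2) hsT y hyX
          rw [c.cm_mul hq hyX (S.inv_mem s.2) s'.2]
          have h8 : cm y (s : G)⁻¹ = (cm y s)⁻¹ := by
            have h9 := c.cm_mul hq hyX (S.inv_mem s.2) s.2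
            rw [inv_mul_cancel] at h9
            have h10 : cm y 1 = 1 := by simp [cm]
            rw [h10] at h9
            exact eq_inv_of_mul_eq_one_left h9.symm
          rw [h8]
          exact h5
        have h7 : (QuotientGroup.mk s : S ⧸ T.subgroupOf S) = QuotientGroup.mk s' := by
          rw [QuotientGroup.eq, mem_subgroupOf]
          exact h6
        have e1 : (QuotientGroup.mk s : S ⧸ T.subgroupOf S) = x := Quotient.out_eq x
        have e2 : (QuotientGroup.mk s' : S ⧸ T.subgroupOf S) = x' := Quotient.out_eq x'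
        rw [← e1, ← e2, h7]
      have h9 : (Y ⊓ cen S) ⊔ center G = cen S := by
        apply eq_of_le_of_card_le (sup_le inf_le_right hcenS)
        have h10 : Nat.card (center G) * (center G).relIndex ((Y ⊓ cen S) ⊔ center G) =
            Nat.card ((Y ⊓ cen S) ⊔ center G : Subgroup G) := card_mul_relIndex le_sup_right
        rw [← h10, h6, mul_comm q]
        gcongr
      rw [← h9]
      exact sup_le_sup_right inf_le_left _
    have h8 : cj g (cen S) ≤ Y ⊔ center G := by
      have := cj_mono (g := g) hcov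
      rw [cj_sup, cj_normal g Y, cj_normal g (center G)] at this
      exact this
    apply le_antisymm hle
    rw [← hsup g hg]
    exact sup_le hcov h8
  · intro s hs y hy
    rw [← c.cm_pow hq hy hs]
    have h8 : s ^ p ∈ T := c.expo s hs
    have h9 : s ^ p * y = y * s ^ p := cen_comm hy h8
    unfold cm
    rw [h9]
    group

end Core

end

end Cfsg.Agent.H260.Push
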